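import Groth.Agent.QCoh.PullbackBC
import Groth.Agent.QCoh.ClosedPush

/-!
# Sections of quasi-coherent modules over nested affine opens
-/

universe u

open CategoryTheory AlgebraicGeometry Opposite

namespace Groth.Agent.FormalSch78

variable {X : Scheme.{u}} {F : X.Modules}

theorem id_appLE' {U V : X.Opens} (e : V ≤ (𝟙 X : X ⟶ X) ⁻¹ᵁ U) :
    (𝟙 X : X ⟶ X).appLE U V e = X.presheaf.map (homOfLE (show V ≤ U from e)).op :=
  Category.id_comp _

theorem pullbackId_unit (U : X.Opens) (x : Γ(F, U)) :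
    ((Scheme.Modules.pullbackId X).hom.app F).app U
      (((Scheme.Modules.pullbackPushforwardAdjunction (𝟙 X)).unit.app F).app U x) = x := by
  have h := unit_conjugateEquiv .id (Scheme.Modules.pullbackPushforwardAdjunction (𝟙 X))
    (Scheme.Modules.pullbackId X).hom F
  rw [Scheme.Modules.conjugateEquiv_pullbackId_hom] at h
  exact (congrArg (fun φ => Scheme.Modules.Hom.app φ U x) h).symm

/-- Restriction between affine opens is a base change for quasi-coherent modules. -/
theorem isBaseChange_res (hF : Coh.IsQCoh F) {U V : X.Opens} (hU : IsAffineOpen U) (hV : IsAffineOpen V)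
    (h : V ≤ U) [Algebra Γ(X, U) Γ(X, V)]
    (halg : ∀ r, algebraMap Γ(X, U) Γ(X, V) r = X.presheaf.map (homOfLE h).op r)
    [Module Γ(X, U) Γ(F, V)] [IsScalarTower Γ(X, U) Γ(X, V) Γ(F, V)]
    (l : Γ(F, U) →ₗ[Γ(X, U)] Γ(F, V)) (hl : ∀ x, l x = F.presheaf.map (homOfLE h).op x) :
    IsBaseChange Γ(X, V) l := by
  let N := (Scheme.Modules.pullback (𝟙 X)).obj F
  let c := (Scheme.Modules.pullbackId X).app F
  let : Module Γ(X, U) Γ(N, V) := Module.compHom _ (algebraMap Γ(X, U) Γ(X, V))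
  have : IsScalarTower Γ(X, U) Γ(X, V) Γ(N, V) :=
    ⟨fun a b x => by rw [Algebra.smul_def, mul_smul]; rfl⟩
  have halg' : ∀ r, algebraMap Γ(X, U) Γ(X, V) r = (𝟙 X : X ⟶ X).appLE U V h r := fun r => by
    exact (halg r).trans congr(($(id_appLE' h)).hom r).symm
  let l' : Γ(F, U) →ₗ[Γ(X, U)] Γ(N, V) :=
    { toFun := QCoh.pullSec (𝟙 X) F h
      map_add' := QCoh.pullSec_add (𝟙 X) F h
      map_smul' := fun r x => (QCoh.pullSec_smul (𝟙 X) F h r x).trans
        (congrArg (fun t : Γ(X, V) => t • QCoh.pullSec (𝟙 X) F h x) (halg' r).symm) }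
  have hb : IsBaseChange Γ(X, V) l' :=
    QCoh.isBaseChange_pullback hU (𝟙 X) hV hF h halg' l' fun x => rfl
  have : IsIso (c.hom.app V) := Scheme.Modules.Hom.isIso_iff_isIso_app.mp inferInstance V
  let e : Γ(N, V) ≃ₗ[Γ(X, V)] Γ(F, V) := LinearEquiv.ofBijective
    ({ toFun := c.hom.app V
       map_add' := map_add _
       map_smul' := fun r x => Scheme.Modules.Hom.app_smul c.hom r x } : Γ(N, V) →ₗ[Γ(X, V)] Γ(F, V))
    (ConcreteCategory.bijective_of_isIso (c.hom.app V))
  refine IsBaseChange.of_equiv (hb.equiv.trans e) fun x => ?_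
  rw [LinearEquiv.trans_apply, hb.equiv_tmul, one_smul, hl]
  exact (QCoh.map_app_comm c.hom (homOfLE h) _).trans
    (congrArg (F.presheaf.map (homOfLE h).op) (pullbackId_unit U x))

end Groth.Agent.FormalSch78
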