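import Groth.Agent.ModPull.Sections
import Groth.Agent.ModTensor.Colimits

/-!
# Sections of colimits of sheaves of modules, locally
-/

universe u

open CategoryTheory CategoryTheory.Limits Opposite
open Groth.Agent.ModTensor Groth.Agent.ModPull

namespace Groth.Agent.FormalSch78

variable {C : Type u} [SmallCategory C] {J : GrothendieckTopology C} {O : Sheaf J CommRingCat.{u}}

section

variable {K : Type u} [SmallCategory K] {D : K ⥤ ModSite.Mod O} {c : Cocone D}

/-- The comparison from the sheafified objectwise colimit. -/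
noncomputable def colimMap (c : Cocone D) : (sh O).obj (colimit (D ⋙ fg O)) ⟶ c.pt :=
  ((shAdj O).homEquiv _ _).symm (colimit.desc (D ⋙ fg O) ((fg O).mapCocone c))

/-- The comparison on images of sections. -/
theorem colimMap_shu (c : Cocone D) {X : Cᵒᵖ} (p : (colimit (D ⋙ fg O)).obj X) :
    ((fg O).map (colimMap c)).app X (shu _ p) =
      (colimit.desc (D ⋙ fg O) ((fg O).mapCocone c)).app X p := by
  rw [shu_desc]
  exact congrArg (fun t : colimit (D ⋙ fg O) ⟶ (fg O).obj c.pt => t.app X p)
    (Equiv.apply_symm_apply _ _)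

theorem isIso_colimMap (hc : IsColimit c) : IsIso (colimMap c) := by
  have : PreservesColimitsOfShape K (sh O) := (shAdj O).leftAdjoint_preservesColimits.1
  let α : (D ⋙ fg O) ⋙ sh O ≅ D := Functor.associator D (fg O) (sh O) ≪≫
    Functor.isoWhiskerLeft D (counitIso O) ≪≫ Functor.rightUnitor D
  let h₁ := isColimitOfPreserves (sh O) (colimit.isColimit (D ⋙ fg O))
  have e : colimMap c = (h₁.coconePointsIsoOfNatIso hc α).hom := by
    refine h₁.hom_ext fun k => ?_
    rw [IsColimit.comp_coconePointsIsoOfNatIso_hom]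
    show (sh O).map (colimit.ι (D ⋙ fg O) k) ≫ colimMap c = α.hom.app k ≫ c.ι.app k
    rw [colimMap, ← Adjunction.homEquiv_naturality_left_symm, colimit.ι_desc,
      Adjunction.homEquiv_counit]
    show (sh O).map ((fg O).map (c.ι.app k)) ≫ (shAdj O).counit.app c.pt = α.hom.app k ≫ c.ι.app k
    refine ((shAdj O).counit.naturality (c.ι.app k)).trans ?_
    simp [α, counitIso]
  rw [e]
  infer_instance

theorem locally_exists_desc (hc : IsColimit c) {W : C} (z : ((fg O).obj c.pt).obj (op W)) :
    Locally J W (fun V g => ∃ p : (colimit (D ⋙ fg O)).obj (op V),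
      (colimit.desc (D ⋙ fg O) ((fg O).mapCocone c)).app (op V) p = rs ((fg O).obj c.pt) g.op z) := by
  have := isIso_colimMap hc
  refine (locally_exists_shu (colimit (D ⋙ fg O))
    (((fg O).map (inv (colimMap c))).app (op W) z)).mono fun V g ⟨p, hp⟩ => ⟨p, ?_⟩
  rw [← colimMap_shu, hp, app_rs]
  refine congrArg (rs ((fg O).obj c.pt) g.op) ?_
  have e : (fg O).map (inv (colimMap c)) ≫ (fg O).map (colimMap c) = 𝟙 _ := by
    exact ((fg O).map_comp _ _).symm.trans ((congrArg (fg O).map (IsIso.inv_hom_id _)).trans ((fg O).map_id _))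
  exact congrArg (fun t => t.app (op W) z) e

theorem locally_eq_zero_of_desc_eq_zero (hc : IsColimit c) {W : C}
    (p : (colimit (D ⋙ fg O)).obj (op W))
    (h : (colimit.desc (D ⋙ fg O) ((fg O).mapCocone c)).app (op W) p = 0) :
    Locally J W (fun V g => rs (colimit (D ⋙ fg O)) g.op p = 0) := by
  have := isIso_colimMap hc
  rw [← colimMap_shu] at h
  have hinj : shu (colimit (D ⋙ fg O)) p = shu (colimit (D ⋙ fg O)) (0 : _) :=
    app_injective (colimMap c) (op W) (h.trans (by rw [shu_zero]; exact (map_zero _).symm))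
  refine (locally_eq_of_shu_eq _ p 0 hinj).mono fun V g hg => hg.trans ?_
  exact map_zero ((colimit (D ⋙ fg O)).map g.op).hom

/-- Every section of a colimit is locally in the span of the images of sections of the terms. -/
theorem locally_mem_span (hc : IsColimit c) {W : C} (z : ((fg O).obj c.pt).obj (op W)) :
    Locally J W (fun V g => (rs ((fg O).obj c.pt) g.op z : ((fg O).obj c.pt).obj (op V)) ∈
      Submodule.span (O.obj.obj (op V))
        {y | ∃ (k : K) (x : ((fg O).obj (D.obj k)).obj (op V)),
          ((fg O).map (c.ι.app k)).app (op V) x = y}) := by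
  refine (locally_exists_desc hc z).mono fun V g ⟨p, hp⟩ => ?_
  rw [← hp]
  clear hp
  let ev := PresheafOfModules.evaluation (O.obj ⋙ forget₂ CommRingCat.{u} RingCat.{u}) (op V)
  let P := (colimit (D ⋙ fg O)).obj (op V)
  let Sp : Submodule (O.obj.obj (op V)) P :=
    ⨆ k, LinearMap.range ((colimit.ι (D ⋙ fg O) k).app (op V)).hom
  have htop : Sp = ⊤ := by
    have h₁ := isColimitOfPreserves ev (colimit.isColimit (D ⋙ fg O))
    have hq : ModuleCat.ofHom Sp.mkQ = (0 : P ⟶ ModuleCat.of _ (P ⧸ Sp)) := by
      refine h₁.hom_ext fun k => ?_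
      refine ModuleCat.hom_ext (LinearMap.ext fun x => ?_)
      show Sp.mkQ ((colimit.ι (D ⋙ fg O) k).app (op V) x) = 0
      exact (Submodule.Quotient.mk_eq_zero _).2
        (Submodule.mem_iSup_of_mem k (LinearMap.mem_range_self _ x))
    rw [← Submodule.ker_mkQ Sp]
    exact LinearMap.ker_eq_top.2 (congrArg ModuleCat.Hom.hom hq)
  have hp' : p ∈ Sp := htop ▸ Submodule.mem_top
  induction hp' using Submodule.iSup_induction' with
  | mem k x hx =>
    obtain ⟨y, rfl⟩ := hx
    refine Submodule.subset_span ⟨k, y, ?_⟩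
    exact (congrArg (fun t => t.app (op V) y)
      (colimit.ι_desc ((fg O).mapCocone c) k)).symm
  | zero => rw [map_zero]; exact Submodule.zero_mem _
  | add x y _ _ hx hy => rw [map_add]; exact Submodule.add_mem _ hx hy

section Filtered

variable [IsFiltered K]

theorem nonempty_isColimit_forget {X : Cᵒᵖ} :
    Nonempty (IsColimit ((PresheafOfModules.evaluation (O.obj ⋙ forget₂ CommRingCat.{u} RingCat.{u}) X ⋙
      CategoryTheory.forget (ModuleCat.{u} ((O.obj ⋙ forget₂ CommRingCat.{u} RingCat.{u}).obj X))).mapCocone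
        (colimit.cocone (D ⋙ fg O)))) :=
  ⟨isColimitOfPreserves _ (colimit.isColimit (D ⋙ fg O))⟩

/-- Every section of a filtered colimit comes locally from a term. -/
theorem locally_exists_stage (hc : IsColimit c) {W : C} (z : ((fg O).obj c.pt).obj (op W)) :
    Locally J W (fun V g => ∃ (k : K) (x : ((fg O).obj (D.obj k)).obj (op V)),
      ((fg O).map (c.ι.app k)).app (op V) x = rs ((fg O).obj c.pt) g.op z) := by
  refine (locally_exists_desc hc z).mono fun V g ⟨p, hp⟩ => ?_
  obtain ⟨k, x, hx⟩ := Types.jointly_surjective _ (nonempty_isColimit_forget (D := D) (X := op V)).some p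
  refine ⟨k, x, ?_⟩
  rw [← hp, ← hx]
  exact (congrArg (fun t => t.app (op V) x) (colimit.ι_desc ((fg O).mapCocone c) k)).symm

/-- A section killed in a filtered colimit is locally killed at some stage. -/
theorem locally_exists_stage_eq_zero (hc : IsColimit c) {W : C} (k : K)
    (x : ((fg O).obj (D.obj k)).obj (op W)) (h : ((fg O).map (c.ι.app k)).app (op W) x = 0) :
    Locally J W (fun V g => ∃ (k' : K) (a : k ⟶ k'),
      ((fg O).map (D.map a)).app (op V) (rs ((fg O).obj (D.obj k)) g.op x) = 0) := by
  refine (locally_eq_zero_of_desc_eq_zero hc ((colimit.ι (D ⋙ fg O) k).app (op W) x)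
    ((congrArg (fun t => t.app (op W) x) (colimit.ι_desc ((fg O).mapCocone c) k)).trans h)).mono
    fun V g hg => ?_
  rw [← app_rs] at hg
  obtain ⟨k', a, b, hab⟩ := (Types.FilteredColimit.isColimit_eq_iff _
    (nonempty_isColimit_forget (D := D) (X := op V)).some
    (xi := rs ((fg O).obj (D.obj k)) g.op x)
    (xj := (0 : ((fg O).obj (D.obj k)).obj (op V)))).1
    (hg.trans (map_zero ((colimit.ι (D ⋙ fg O) k).app (op V)).hom).symm)
  refine ⟨k', a, ?_⟩
  exact hab.trans (map_zero (((fg O).map (D.map b)).app (op V)).hom)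

end Filtered

end

end Groth.Agent.FormalSch78
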