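import Groth.Agent.FormalSch78.Base
import Groth.Agent.FormalSch78.SiteColim
import Groth.Agent.ModTensor.FreeOn
import Mathlib.Algebra.Category.ModuleCat.Sheaf.Limits
import Mathlib.CategoryTheory.Sites.Abelian
import Mathlib.Algebra.Category.ModuleCat.Sheaf.Abelian

/-!
# Closure properties of modules given by tensor products on a chart
-/

universe u

open CategoryTheory CategoryTheory.Limits Opposite TopologicalSpace TensorProduct
open Groth.Agent.ModTensor

namespace Groth.Agent.FormalSch78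

variable {X : TopCat.{u}} {O : Sheaf (Opens.grothendieckTopology X) CommRingCat.{u}}
section Transfer

open QCoh.Ab

variable {P Q : TopCat.Presheaf AddCommGrpCat.{u} X} {ι : Type u} {Us : ι → Opens X} (φ : P ⟶ Q)
  (hφ : ∀ {q : ℕ} (σ : Fin (q + 1) → ι), Function.Bijective (φ.app (op (⨅ a, Us (σ a)))))

theorem natural_ext {R : TopCat.Presheaf AddCommGrpCat.{u} X} {q : ℕ} {c c' : Cochain R Us (q + 1)}
    (hc : IsNatural c) (hc' : IsNatural c')
    (h : ∀ σ, c σ ⟨⨅ a, Us (σ a), fun a => iInf_le _ a⟩ = c' σ ⟨⨅ a, Us (σ a), fun a => iInf_le _ a⟩) :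
    c = c' := by
  funext σ ⟨W, hW⟩
  rw [← hc σ _ W (fun a => iInf_le _ a) hW (homOfLE (le_iInf hW)), h,
    hc' σ _ W (fun a => iInf_le _ a) hW (homOfLE (le_iInf hW))]

include hφ

theorem exists_push_eq {q : ℕ} (c : Cochain Q Us (q + 1)) (hc : IsNatural c) :
    ∃ c' : Cochain P Us (q + 1), IsNatural c' ∧ push φ c' = c := by
  choose y hy using fun σ => (hφ σ).2 (c σ ⟨⨅ a, Us (σ a), fun a => iInf_le _ a⟩)
  let c' : Cochain P Us (q + 1) := fun σ W => P.map (homOfLE (le_iInf W.2)).op (y σ)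
  have hc' : IsNatural c' := fun σ W W' h h' i => congr($((P.map_comp _ _).symm) (y σ))
  refine ⟨c', hc', natural_ext (push_natural φ hc') hc fun σ => ?_⟩
  refine Eq.trans ?_ (hy σ)
  exact congrArg _ (congr($(P.map_id _) (y σ)))

theorem push_eq_zero {q : ℕ} {c : Cochain P Us (q + 1)} (hc : IsNatural c) (h : push φ c = 0) :
    c = 0 :=
  natural_ext hc (fun _ _ _ _ _ i => map_zero (P.map i.op).hom) fun σ =>
    (hφ σ).1 ((congrFun (congrFun h σ) ⟨⨅ a, Us (σ a), fun a => iInf_le _ a⟩).trans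
      (map_zero (φ.app (op (⨅ a, Us (σ a)))).hom).symm)

theorem acyclic_of_bijective (h : Acyclic P Us) : Acyclic Q Us := by
  intro p c hc hd
  obtain ⟨c', hc', rfl⟩ := exists_push_eq φ hφ c hc
  obtain ⟨g, hg, rfl⟩ := h p c' hc' (push_eq_zero φ hφ (d_natural hc') (by rw [← d_push, hd]))
  exact ⟨push φ g, push_natural φ hg, d_push φ g⟩

theorem acyclic_of_bijective' (h : Acyclic Q Us) : Acyclic P Us := by
  intro p c hc hd
  obtain ⟨g, hg, he⟩ := h p (push φ c) (push_natural φ hc) (by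
    rw [d_push, hd]
    funext σ W
    exact map_zero _)
  obtain ⟨g', hg', rfl⟩ := exists_push_eq φ hφ g hg
  refine ⟨g', hg', sub_eq_zero.1 (push_eq_zero φ hφ (fun σ W W' h h' i => ?_) ?_)⟩
  · simp only [Pi.sub_apply, map_sub, d_natural hg' σ W W' h h' i, hc σ W W' h h' i]
  · rw [push_sub, ← d_push, he, sub_self]

end Transfer

variable {S : QCoh.Ab.CoverSystem X} {U : Opens X}

variable (U) in
/-- The presheaf of sections over intersections with `U`. -/
noncomputable def preU (F : ModSite.Mod O) : TopCat.Presheaf AddCommGrpCat.{u} X where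
  obj W := AddCommGrpCat.of (Ms F (W.unop ⊓ U))
  map f := AddCommGrpCat.ofHom (rM F (inf_le_inf_right U (leOfHom f.unop)))
  map_id W := AddCommGrpCat.hom_ext (AddMonoidHom.ext fun y => rM_self F _ y)
  map_comp f g := AddCommGrpCat.hom_ext (AddMonoidHom.ext fun y => (rM_rM F _ _ y).symm)

variable (U) in
/-- The comparison map as a map of presheaves. -/
noncomputable def θPre (F : ModSite.Mod O) : tPre O U (Ms F U) ⟶ preU U F where
  app W := AddCommGrpCat.ofHom (θ (U := U) (F := F) LinearMap.id W.unop)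
  naturality _ _ f := AddCommGrpCat.hom_ext (AddMonoidHom.ext fun y =>
    (rM_θ (U := U) (F := F) LinearMap.id (leOfHom f.unop) y).symm)

variable (U) in
/-- Restriction to the intersection with `U`. -/
noncomputable def toPreU (F : ModSite.Mod O) :
    (show TopCat.Sheaf AddCommGrpCat.{u} X from ModSite.toAb F).presheaf ⟶ preU U F where
  app W := AddCommGrpCat.ofHom (rM F (inf_le_left : W.unop ⊓ U ≤ W.unop))
  naturality A B f := AddCommGrpCat.hom_ext (AddMonoidHom.ext fun y => by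
    show rM F inf_le_left (rM F (leOfHom f.unop) y) = rM F _ (rM F inf_le_left y)
    exact (rM_rM F _ _ y).trans (rM_rM F _ _ y).symm)

variable (S U) in
/-- The covering system below `U`. -/
def below : QCoh.Ab.CoverSystem X where
  Good V := S.Good V ∧ V ≤ U
  Cov V {ι} Us := V ≤ U ∧ S.Cov V Us
  le h i := S.le h.2 i
  covers h := S.covers h.2
  inter {V ι Us} h {p} σ := ⟨S.inter h.2 σ, ((iInf_le (fun a => Us (σ a)) 0).trans (S.le h.2 _)).trans h.1⟩
  exists_refinement {V} h N hN :=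
    let ⟨ι, Us, hc, hN'⟩ := S.exists_refinement h.1 N hN
    ⟨ι, Us, ⟨h.2, hc⟩, hN'⟩

theorem app_comp_id {F G : ModSite.Mod O} (φ : F ⟶ G) (U : Opens X) :
    app φ U ∘ₗ LinearMap.id = LinearMap.id ∘ₗ app φ U := rfl

theorem app_θ_id {F G : ModSite.Mod O} (φ : F ⟶ G) (W : Opens X) (y : T O U (Ms F U) W) :
    app φ (W ⊓ U) (θ LinearMap.id W y) =
      θ (U := U) (F := G) LinearMap.id W ((app φ U).lTensor (Rg O (W ⊓ U)) y) := by
  rw [app_θ, θ_lTensor, app_comp_id]

/-- Vanishing of the higher Čech cohomology. -/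
theorem Ass.acyclic (hB : IsTBase O S U) {F : ModSite.Mod O} (hF : Ass S U F) {V : Opens X}
    {ι : Type u} {Us : ι → Opens X} (hV : S.Good V) (hVU : V ≤ U) (hc : S.Cov V Us) :
    QCoh.Ab.Acyclic (P := (show TopCat.Sheaf AddCommGrpCat.{u} X from ModSite.toAb F).presheaf) Us := by
  have hBle : ∀ {q : ℕ} (σ : Fin (q + 1) → ι), (⨅ a, Us (σ a)) ≤ U := fun σ =>
    ((iInf_le (fun a => Us (σ a)) 0).trans (S.le hc _)).trans hVU
  have hgood : ∀ {q : ℕ} (σ : Fin (q + 1) → ι), S.Good (⨅ a, Us (σ a)) := fun σ => S.inter hc σ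
  have h₁ := acyclic_of_bijective (θPre U F) (fun σ => hF (hgood σ) (hBle σ))
    (hB.acyclic (Ms F U) hV hVU hc)
  exact acyclic_of_bijective' (toPreU U F) (fun σ =>
    ⟨rM_injective F _ (le_inf le_rfl (hBle σ)), fun x =>
      ⟨rM F (le_inf le_rfl (hBle σ)) x, (rM_rM F _ _ x).trans (rM_self F _ x)⟩⟩) h₁

/-- Čech acyclicity for the covering system below the chart. -/
theorem Ass.acyclic_below (hB : IsTBase O S U) {F : ModSite.Mod O} (hF : Ass S U F) :
    (below S U).Acyclic (show TopCat.Sheaf AddCommGrpCat.{u} X from ModSite.toAb F) :=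
  fun _ hV _ _ hc => hF.acyclic hB hV.1 hV.2 hc.2

theorem sections_surjective (hB : IsTBase O S U) {T : ShortComplex (ModSite.Mod O)} (hT : T.ShortExact)
    (h₁ : Ass S U T.X₁) {V : Opens X} (hV : S.Good V) (hVU : V ≤ U) :
    Function.Surjective (app T.g V) := by
  have := preservesColimits_toSheaf O
  have : PreservesColimitsOfSize.{0, 0} (SheafOfModules.toSheaf.{u} (ModSite.ringSh O)) :=
    preservesColimitsOfSize_shrink _
  have : PreservesFiniteColimits (SheafOfModules.toSheaf.{u} (ModSite.ringSh O)) :=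
    ⟨fun _ => inferInstance⟩
  have hT' : (T.map (SheafOfModules.toSheaf.{u} (ModSite.ringSh O))).ShortExact := hT.map_of_exact _
  let T' := T.map (SheafOfModules.toSheaf.{u} (ModSite.ringSh O))
  exact QCoh.Ab.sections_surjective (T := T')
    (below S U) hT' (h₁.acyclic_below hB) ⟨hV, hVU⟩

/-- Sections over good opens are flat over the sections of the chart. -/
def IsFlatBase (O : Sheaf (Opens.grothendieckTopology X) CommRingCat.{u}) (S : QCoh.Ab.CoverSystem X)
    (U : Opens X) : Prop :=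
  ∀ ⦃W : Opens X⦄, S.Good W → W ≤ U → Module.Flat (Rg O U) (Rg O (W ⊓ U))

theorem Ass.of_mono_exact (hfl : IsFlatBase O S U) {T : ShortComplex (ModSite.Mod O)} (hT : T.Exact)
    [Mono T.f] (h₂ : Ass S U T.X₂) (h₃ : Ass S U T.X₃) : Ass S U T.X₁ := by
  intro W hW hWU
  have := hfl hW hWU
  have hinj : ∀ V, Function.Injective (app T.f V) := fun V => ModPull.app_injective T.f (op V)
  have hinj' : Function.Injective ((app T.f U).lTensor (Rg O (W ⊓ U))) :=
    Module.Flat.lTensor_preserves_injective_linearMap _ (hinj U)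
  have hzero : ∀ V (x : Ms T.X₁ V), app T.g V (app T.f V x) = 0 := fun V x => by
    rw [← app_comp, T.zero]
    rfl
  have hex : Function.Exact (app T.f U) (app T.g U) := fun x =>
    ⟨fun hx => exists_app_eq_of_mono hT x hx, fun ⟨y, hy⟩ => hy ▸ hzero U y⟩
  refine ⟨fun y y' e => hinj' ((h₂ hW hWU).1 ?_), fun x => ?_⟩
  · rw [← app_θ_id, ← app_θ_id, e]
  · obtain ⟨z, hz⟩ := (h₂ hW hWU).2 (app T.f _ x)
    have hz0 : (app T.g U).lTensor (Rg O (W ⊓ U)) z = 0 := (h₃ hW hWU).1 (by
      rw [← app_θ_id, hz, hzero, map_zero])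
    obtain ⟨y, hy⟩ := (Module.Flat.lTensor_exact (M := Rg O (W ⊓ U)) hex _).1 hz0
    exact ⟨y, hinj _ (by rw [app_θ_id, hy, hz])⟩

theorem Ass.of_exact_epi (hB : IsTBase O S U) {T : ShortComplex (ModSite.Mod O)} (hT : T.Exact)
    [Epi T.g] (h₁ : Ass S U T.X₁) (h₂ : Ass S U T.X₂) : Ass S U T.X₃ := by
  let R := LinearMap.range (app T.f U)
  have hzero : app T.g U ∘ₗ app T.f U = 0 := LinearMap.ext fun x => by
    show app T.g U (app T.f U x) = 0
    rw [← app_comp, T.zero]
    rfl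
  let t : (Ms T.X₂ U ⧸ R) →ₗ[Rg O U] Ms T.X₃ U :=
    R.liftQ (app T.g U) (LinearMap.range_le_ker_iff.2 hzero)
  have ht : t ∘ₗ R.mkQ = app T.g U ∘ₗ LinearMap.id := R.liftQ_mkQ _ _
  have hθ : ∀ (W : Opens X) (y : FormalSch78.T O U (Ms T.X₂ U) W),
      app T.g (W ⊓ U) (θ LinearMap.id W y) = θ t W (R.mkQ.lTensor _ y) := fun W y => by
    rw [app_θ, θ_lTensor, ht]
  refine hB.ass_of_locIso (C := Ms T.X₂ U ⧸ R) (t := t) ?_ ?_
  · intro V hV x p hp
    obtain ⟨V', hV', hpV', z, hz⟩ := locally_lift T.g x p hp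
    obtain ⟨W, hWV, hpW, y, hy⟩ := Ass.locSurj hB h₂ (hV'.trans hV) z p hpV'
    refine ⟨W, hWV.trans hV', hpW, R.mkQ.lTensor _ y, ?_⟩
    rw [← hθ, hy, app_rM, hz, rM_rM]
  · intro W hWU y hy p hp
    obtain ⟨z, rfl⟩ := LinearMap.lTensor_surjective (Rg O (W ⊓ U)) R.mkQ_surjective y
    rw [← hθ] at hy
    obtain ⟨V, hV, hpV, x, hx⟩ := locally_lift_of_exact hT _ hy p ⟨hp, hWU hp⟩
    obtain ⟨W', hW', hpW', hWV⟩ := hB.basis (hV.trans inf_le_right) p hpV
    obtain ⟨w, hw⟩ := (h₁ hW' (hWV.trans (hV.trans inf_le_right))).2 (rM T.X₁ (inf_le_left.trans hWV) x)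
    refine ⟨W', hWV.trans (hV.trans inf_le_left), hpW', ?_⟩
    have e : (app T.f U).lTensor _ w = tres (hWV.trans (hV.trans inf_le_left)) z :=
      (h₂ hW' (hWV.trans (hV.trans inf_le_right))).1 (by
        rw [← app_θ_id, hw, app_rM, hx, rM_rM, rM_θ])
    rw [tres_lTensor, ← e, ← LinearMap.comp_apply, ← LinearMap.lTensor_comp,
      show R.mkQ ∘ₗ app T.f U = 0 from LinearMap.ext fun a =>
        (Submodule.Quotient.mk_eq_zero R).2 (LinearMap.mem_range_self _ a)]
    simp

theorem Ass.of_shortExact (hB : IsTBase O S U) {T : ShortComplex (ModSite.Mod O)} (hT : T.ShortExact)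
    (h₁ : Ass S U T.X₁) (h₃ : Ass S U T.X₃) : Ass S U T.X₂ := by
  intro W hW hWU
  have := hT.mono_f
  have hinj : ∀ V, Function.Injective (app T.f V) := fun V => ModPull.app_injective T.f (op V)
  have hzero : ∀ V (x : Ms T.X₁ V), app T.g V (app T.f V x) = 0 := fun V x => by
    rw [← app_comp, T.zero]
    rfl
  have hex : Function.Exact (app T.f U) (app T.g U) := fun x =>
    ⟨fun hx => exists_app_eq_of_mono hT.exact x hx, fun ⟨y, hy⟩ => hy ▸ hzero U y⟩
  have hsurj : Function.Surjective (app T.g U) := sections_surjective hB hT h₁ hB.good le_rfl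
  refine ⟨(injective_iff_map_eq_zero _).2 fun y hy => ?_, fun x => ?_⟩
  · have h0 : (app T.g U).lTensor (Rg O (W ⊓ U)) y = 0 := (h₃ hW hWU).1 (by
      rw [← app_θ_id, hy, map_zero, map_zero])
    obtain ⟨y', rfl⟩ := (lTensor_exact (Rg O (W ⊓ U)) hex hsurj _).1 h0
    have : y' = 0 := (h₁ hW hWU).1 (hinj _ (by rw [app_θ_id, hy, map_zero, map_zero]))
    rw [this, map_zero]
  · obtain ⟨q, hq⟩ := (h₃ hW hWU).2 (app T.g _ x)
    obtain ⟨z, rfl⟩ := LinearMap.lTensor_surjective (Rg O (W ⊓ U)) hsurj q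
    rw [← app_θ_id] at hq
    obtain ⟨w, hw⟩ := exists_app_eq_of_mono hT.exact (x - θ LinearMap.id W z)
      (by rw [map_sub, hq, sub_self])
    obtain ⟨v, hv⟩ := (h₁ hW hWU).2 w
    exact ⟨z + (app T.f U).lTensor _ v, by
      rw [map_add, ← app_θ_id, hv, hw]; abel⟩

/-- Passage to a smaller chart. -/
theorem Ass.mono_chart {V : Opens X} (hB : IsTBase O S U) (hBV : IsTBase O S V) (hVU : V ≤ U)
    {F : ModSite.Mod O} (hF : Ass S U F) : Ass S V F := by
  let κ : ∀ W, T O U (Ms F U) W →+ T O V (Ms F V) W := fun W => TensorProduct.liftAddHom (R := Rg O U)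
    (AddMonoidHom.mk' (fun a : Rg O (W ⊓ U) => AddMonoidHom.mk'
        (fun c : Ms F U => (rO O (inf_le_inf_left W hVU) a ⊗ₜ[Rg O V] rM F hVU c : T O V (Ms F V) W))
        fun c c' => by rw [map_add, TensorProduct.tmul_add])
      fun a b => by ext c; simp [TensorProduct.add_tmul])
    fun r a c => by
      show rO O _ (r • a) ⊗ₜ[Rg O V] rM F hVU c =
        rO O (inf_le_inf_left W hVU) a ⊗ₜ[Rg O V] rM F hVU (r • c)
      rw [rM_smul, TensorProduct.tmul_smul, TensorProduct.smul_tmul']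
      congr 1
      rw [Algebra.smul_def, Algebra.smul_def, map_mul, algInf_apply, algInf_apply, rO_rO, rO_rO]
  have κ_tmul : ∀ W (a : Rg O (W ⊓ U)) (c : Ms F U),
      κ W (a ⊗ₜ[Rg O U] c) = rO O (inf_le_inf_left W hVU) a ⊗ₜ[Rg O V] rM F hVU c :=
    fun W a c => TensorProduct.liftAddHom_tmul _ _ _ _
  have hθ : ∀ W (z : T O U (Ms F U) W),
      θ LinearMap.id W (κ W z) = rM F (inf_le_inf_left W hVU) (θ LinearMap.id W z) := fun W z => by
    induction z using TensorProduct.induction_on with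
    | zero => simp
    | tmul a c =>
      rw [κ_tmul, θ_tmul, θ_tmul, rM_smul, LinearMap.id_apply, LinearMap.id_apply, rM_rM, rM_rM]
    | add a b ha hb => simp only [map_add, ha, hb]
  intro W hW hWV
  have hWU := hWV.trans hVU
  have hk : Function.Surjective (κ W) := fun y => by
    induction y using TensorProduct.induction_on with
    | zero => exact ⟨0, map_zero _⟩
    | add a b ha hb =>
      obtain ⟨a', rfl⟩ := ha
      obtain ⟨b', rfl⟩ := hb
      exact ⟨a' + b', map_add _ _ _⟩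
    | tmul a c =>
      obtain ⟨z, hz⟩ := (hF hBV.good hVU).2 (rM F inf_le_left c)
      have hc : c = rM F (le_inf le_rfl hVU) (θ LinearMap.id V z) := by rw [hz, rM_rM, rM_self]
      rw [hc]
      clear hz hc
      induction z using TensorProduct.induction_on with
      | zero => exact ⟨0, by simp⟩
      | add z z' hz hz' =>
        obtain ⟨u, hu⟩ := hz
        obtain ⟨u', hu'⟩ := hz'
        exact ⟨u + u', by rw [map_add, hu, hu', map_add, map_add, TensorProduct.tmul_add]⟩
      | tmul b s =>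
        refine ⟨(rO O (le_inf inf_le_left (inf_le_left.trans hWV) : W ⊓ U ≤ W ⊓ V) a *
          rO O (le_inf (inf_le_left.trans hWV) inf_le_right) b) ⊗ₜ[Rg O U] s, ?_⟩
        rw [κ_tmul, θ_tmul, LinearMap.id_apply, rM_smul, rM_rM, TensorProduct.tmul_smul,
          TensorProduct.smul_tmul']
        congr 1
        rw [Algebra.smul_def, algInf_apply, map_mul, rO_rO, rO_rO, rO_rO, rO_self, mul_comm]
  refine ⟨(injective_iff_map_eq_zero _).2 fun y hy => ?_, fun x => ?_⟩
  · obtain ⟨z, rfl⟩ := hk y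
    rw [hθ] at hy
    have : θ LinearMap.id W z = 0 :=
      rM_injective F (inf_le_inf_left W hVU) (le_inf inf_le_left (inf_le_left.trans hWV))
        (by rw [hy, map_zero])
    rw [(hF hW hWU).1 (this.trans (map_zero _).symm), map_zero]
  · obtain ⟨z, hz⟩ := (hF hW hWU).2 (rM F (le_inf inf_le_left (inf_le_left.trans hWV)) x)
    exact ⟨κ W z, by rw [hθ, hz, rM_rM, rM_self]⟩

/-- Filtered colimits. -/
theorem Ass.of_isColimit (hB : IsTBase O S U) {K : Type u} [SmallCategory K] [IsFiltered K]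
    {D : K ⥤ ModSite.Mod O} {c : Cocone D} (hc : IsColimit c) (h : ∀ k, Ass S U (D.obj k)) :
    Ass S U c.pt := by
  let P := (colimit (D ⋙ fg O)).obj (op U)
  let t : P →ₗ[Rg O U] Ms c.pt U := ((colimit.desc (D ⋙ fg O) ((fg O).mapCocone c)).app (op U)).hom
  let ι : ∀ k, Ms (D.obj k) U →ₗ[Rg O U] P := fun k => ((colimit.ι (D ⋙ fg O) k).app (op U)).hom
  have htι : ∀ k, t ∘ₗ ι k = app (c.ι.app k) U ∘ₗ LinearMap.id := fun k => LinearMap.ext fun x =>
    congrArg (fun f => f.app (op U) x) (colimit.ι_desc ((fg O).mapCocone c) k)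
  have hθ : ∀ k W (y : FormalSch78.T O U (Ms (D.obj k) U) W),
      app (c.ι.app k) (W ⊓ U) (θ LinearMap.id W y) = θ t W ((ι k).lTensor _ y) := fun k W y => by
    rw [app_θ, θ_lTensor, htι]
  have hιmap : ∀ {k k'} (a : k ⟶ k'), ι k' ∘ₗ app (D.map a) U = ι k := fun {k k'} a =>
    LinearMap.ext fun x => congrArg (fun f => f.app (op U) x) (colimit.w (D ⋙ fg O) a)
  refine hB.ass_of_locIso (C := P) (t := t) ?_ ?_
  · intro V hV x p hp
    obtain ⟨V', hV', hpV', k, z, hz⟩ := locally_nhd (locally_exists_stage hc x) p hp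
    obtain ⟨W, hWV, hpW, y, hy⟩ := Ass.locSurj hB (h k) (hV'.trans hV) z p hpV'
    refine ⟨W, hWV.trans hV', hpW, (ι k).lTensor _ y, ?_⟩
    rw [← hθ, hy, app_rM]
    refine (congrArg (rM c.pt _) hz).trans ?_
    rw [← rM_eq_rs c.pt hV', rM_rM]
  · intro W hWU y hy p hp
    obtain ⟨k, z, rfl⟩ : ∃ k z, (ι k).lTensor (Rg O (W ⊓ U)) z = y := by
      clear hy
      induction y using TensorProduct.induction_on with
      | zero => exact ⟨(IsFiltered.nonempty (C := K)).some, 0, map_zero _⟩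
      | tmul a q =>
        obtain ⟨k, q', hq⟩ := Types.jointly_surjective _
          (nonempty_isColimit_forget (D := D) (X := op U)).some q
        exact ⟨k, a ⊗ₜ q', (LinearMap.lTensor_tmul _ _ _ _).trans (congrArg _ hq)⟩
      | add y y' hy hy' =>
        obtain ⟨k, z, rfl⟩ := hy
        obtain ⟨k', z', rfl⟩ := hy'
        refine ⟨IsFiltered.max k k', (app (D.map (IsFiltered.leftToMax k k')) U).lTensor _ z +
          (app (D.map (IsFiltered.rightToMax k k')) U).lTensor _ z', ?_⟩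
        rw [map_add, ← LinearMap.comp_apply, ← LinearMap.lTensor_comp, hιmap,
          ← LinearMap.comp_apply, ← LinearMap.lTensor_comp, hιmap]
    rw [← hθ] at hy
    obtain ⟨V, hV, hpV, k', a, ha⟩ := locally_nhd
      (locally_exists_stage_eq_zero hc k _ hy) p ⟨hp, hWU hp⟩
    obtain ⟨W', hW', hpW', hWV⟩ := hB.basis (hV.trans inf_le_right) p hpV
    refine ⟨W', hWV.trans (hV.trans inf_le_left), hpW', ?_⟩
    have ha' : app (D.map a) V (rM (D.obj k) hV (θ LinearMap.id W z)) = 0 := by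
      rw [rM_eq_rs (D.obj k) hV (homOfLE hV)]
      exact ha
    have e : (app (D.map a) U).lTensor _ (tres (hWV.trans (hV.trans inf_le_left)) z) = 0 :=
      (h k' hW' (hWV.trans (hV.trans inf_le_right))).1 (by
        rw [map_zero, ← app_θ_id, ← rM_θ]
        rw [show rM (D.obj k) (inf_le_inf_right U (hWV.trans (hV.trans inf_le_left)))
            (θ LinearMap.id W z) = rM (D.obj k) (inf_le_left.trans hWV)
              (rM (D.obj k) hV (θ LinearMap.id W z)) from (rM_rM _ _ _ _).symm,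
          app_rM, ha', map_zero])
    rw [tres_lTensor, ← hιmap a, LinearMap.lTensor_comp, LinearMap.comp_apply, e, map_zero]

end Groth.Agent.FormalSch78
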