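import Mathlib.RingTheory.Localization.Away.Basic
import Mathlib.RingTheory.Localization.BaseChange
import Mathlib.LinearAlgebra.TensorProduct.RightExactness
import Mathlib.RingTheory.Ideal.Quotient.Operations

/-!
# Localisation modulo an ideal, after tensoring
-/

universe u

open TensorProduct

namespace Groth.Agent.FormalSch78

variable {A B B' : Type u} [CommRing A] [CommRing B] [CommRing B'] [Algebra A B] [Algebra A B']

/-- `φ` induces the localisation at `f` modulo the ideal `J`. -/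
structure IsAwayMod (J : Ideal A) (φ : B →ₐ[A] B') (f : B) : Prop where
  unit : ∃ w, φ f * w - 1 ∈ J.map (algebraMap A B')
  surj : ∀ x, ∃ (m : ℕ) (r : B), φ r - φ f ^ m * x ∈ J.map (algebraMap A B')
  kill : ∀ r, φ r ∈ J.map (algebraMap A B') → ∃ m : ℕ, f ^ m * r ∈ J.map (algebraMap A B)

variable {C : Type u} [AddCommGroup C] [Module A C]

theorem tmul_mem_smul_top (J : Ideal A) {b : B} (hb : b ∈ J.map (algebraMap A B)) (c : C) :
    b ⊗ₜ[A] c ∈ J • (⊤ : Submodule A (B ⊗[A] C)) := by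
  have h : b ∈ (J • (⊤ : Submodule A B)) := by
    rw [Ideal.smul_top_eq_map]
    exact hb
  have := Submodule.mem_map_of_mem (f := (TensorProduct.mk A B C).flip c) h
  rw [Submodule.map_smul''] at this
  exact Submodule.smul_mono le_rfl le_top this

theorem map_mem_smul {M N : Type u} [AddCommGroup M] [Module A M] [AddCommGroup N] [Module A N]
    (J : Ideal A) (g : M →ₗ[A] N) {x : M} (hx : x ∈ J • (⊤ : Submodule A M)) :
    g x ∈ J • (⊤ : Submodule A N) := by
  have := Submodule.mem_map_of_mem (f := g) hx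
  rw [Submodule.map_smul''] at this
  exact Submodule.smul_mono le_rfl le_top this

theorem smul_mem_smul_top (J : Ideal A) (b : B) {x : B ⊗[A] C} (hx : x ∈ J • (⊤ : Submodule A (B ⊗[A] C))) :
    b • x ∈ J • (⊤ : Submodule A (B ⊗[A] C)) :=
  map_mem_smul J (DistribSMul.toLinearMap A (B ⊗[A] C) b) hx

variable {J : Ideal A} {φ : B →ₐ[A] B'} {f : B}

theorem IsAwayMod.exists_lift (h : IsAwayMod J φ f) (x : B' ⊗[A] C) :
    ∃ (m : ℕ) (y : B ⊗[A] C),
      φ.toLinearMap.rTensor C y - φ f ^ m • x ∈ J • (⊤ : Submodule A (B' ⊗[A] C)) := by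
  induction x using TensorProduct.induction_on with
  | zero => exact ⟨0, 0, by simp⟩
  | tmul b c =>
    obtain ⟨m, r, hr⟩ := h.surj b
    refine ⟨m, r ⊗ₜ c, ?_⟩
    rw [LinearMap.rTensor_tmul, TensorProduct.smul_tmul', smul_eq_mul, ← TensorProduct.sub_tmul]
    exact tmul_mem_smul_top J hr c
  | add x x' hx hx' =>
    obtain ⟨m, y, hy⟩ := hx
    obtain ⟨m', y', hy'⟩ := hx'
    have hφ : ∀ (b : B) (z : B ⊗[A] C), φ.toLinearMap.rTensor C (b • z) = φ b • φ.toLinearMap.rTensor C z := by
      intro b z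
      induction z using TensorProduct.induction_on with
      | zero => simp
      | tmul a c => simp [TensorProduct.smul_tmul']
      | add z z' hz hz' => simp [smul_add, hz, hz']
    refine ⟨m + m', f ^ m' • y + f ^ m • y', ?_⟩
    have e : φ.toLinearMap.rTensor C (f ^ m' • y + f ^ m • y') - φ f ^ (m + m') • (x + x') =
        φ f ^ m' • (φ.toLinearMap.rTensor C y - φ f ^ m • x) +
          φ f ^ m • (φ.toLinearMap.rTensor C y' - φ f ^ m' • x') := by
      simp only [map_add, hφ, map_pow, smul_sub, smul_smul, smul_add, pow_add]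
      rw [mul_comm (φ f ^ m') (φ f ^ m)]
      abel
    rw [e]
    exact Submodule.add_mem _ (smul_mem_smul_top J _ hy) (smul_mem_smul_top J _ hy')

theorem IsAwayMod.exists_kill (h : IsAwayMod J φ f) (y : B ⊗[A] C)
    (hy : φ.toLinearMap.rTensor C y ∈ J • (⊤ : Submodule A (B' ⊗[A] C))) :
    ∃ m : ℕ, f ^ m • y ∈ J • (⊤ : Submodule A (B ⊗[A] C)) := by
  let KB := J.map (algebraMap A B)
  let KB' := J.map (algebraMap A B')
  have hle : KB ≤ KB'.comap φ.toRingHom := by
    rw [← Ideal.map_le_iff_le_comap, Ideal.map_map]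
    exact (congrArg (fun g => J.map g) φ.comp_algebraMap).le
  let ψ : B ⧸ KB →+* B' ⧸ KB' := Ideal.quotientMap KB' φ.toRingHom hle
  let : Algebra (B ⧸ KB) (B' ⧸ KB') := ψ.toAlgebra
  have : IsScalarTower A (B ⧸ KB) (B' ⧸ KB') := IsScalarTower.of_algebraMap_eq fun a => by
    show _ = ψ (Ideal.Quotient.mk KB (algebraMap A B a))
    rw [Ideal.quotientMap_mk]
    exact congrArg (Ideal.Quotient.mk KB') (φ.commutes a).symm
  let fb : B ⧸ KB := Ideal.Quotient.mk KB f
  have hψ : ∀ b, algebraMap (B ⧸ KB) (B' ⧸ KB') (Ideal.Quotient.mk KB b) = Ideal.Quotient.mk KB' (φ b) :=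
    fun b => Ideal.quotientMap_mk
  have hu : IsUnit (algebraMap (B ⧸ KB) (B' ⧸ KB') fb) := by
    obtain ⟨w, hw⟩ := h.unit
    refine IsUnit.of_mul_eq_one (Ideal.Quotient.mk KB' w) ?_
    rw [hψ, ← map_mul, ← map_one (Ideal.Quotient.mk KB'), Ideal.Quotient.eq]
    exact hw
  have : IsLocalization.Away fb (B' ⧸ KB') := by
    refine IsLocalization.Away.mk fb hu (fun z => ?_) fun a b hab => ?_
    · obtain ⟨z, rfl⟩ := Ideal.Quotient.mk_surjective z
      obtain ⟨m, r, hr⟩ := h.surj z
      refine ⟨m, Ideal.Quotient.mk KB r, ?_⟩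
      rw [hψ, hψ, ← map_pow, ← map_mul, eq_comm, Ideal.Quotient.eq, mul_comm]
      exact hr
    · obtain ⟨a, rfl⟩ := Ideal.Quotient.mk_surjective a
      obtain ⟨b, rfl⟩ := Ideal.Quotient.mk_surjective b
      rw [hψ, hψ, Ideal.Quotient.eq, ← map_sub] at hab
      obtain ⟨m, hm⟩ := h.kill _ hab
      refine ⟨m, ?_⟩
      rw [← map_pow, ← map_mul, ← map_mul, Ideal.Quotient.eq, ← mul_sub]
      exact hm
  let g : (B ⧸ KB) →ₗ[B ⧸ KB] (B' ⧸ KB') := Algebra.linearMap (B ⧸ KB) (B' ⧸ KB')
  let gC := TensorProduct.AlgebraTensorModule.rTensor A C g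
  let qB : B ⊗[A] C →ₗ[A] (B ⧸ KB) ⊗[A] C := (Ideal.Quotient.mkₐ A KB).toLinearMap.rTensor C
  have hq' : ∀ z ∈ J • (⊤ : Submodule A ((B' ⧸ KB') ⊗[A] C)), z = 0 := fun z hz => by
    refine Submodule.smul_induction_on hz (fun a ha x _ => ?_) fun x y hx hy => by rw [hx, hy, add_zero]
    rw [← IsScalarTower.algebraMap_smul (B' ⧸ KB') a x,
      show algebraMap A (B' ⧸ KB') a = 0 from
        Ideal.Quotient.eq_zero_iff_mem.2 (Ideal.mem_map_of_mem _ ha), zero_smul]
  have h0 : gC (qB y) = 0 := by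
    have e : gC (qB y) = (Ideal.Quotient.mkₐ A KB').toLinearMap.rTensor C (φ.toLinearMap.rTensor C y) := by
      clear hy
      induction y using TensorProduct.induction_on with
      | zero => simp
      | tmul a c => simp [gC, g, qB, hψ]
      | add a b ha hb => simp only [map_add, ha, hb]
    rw [e]
    exact hq' _ (map_mem_smul J _ hy)
  have : IsLocalizedModule (Submonoid.powers fb) gC := inferInstance
  obtain ⟨⟨_, m, rfl⟩, hm⟩ := IsLocalizedModule.exists_of_eq (S := Submonoid.powers fb) (f := gC)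
    (h0.trans (map_zero gC).symm)
  refine ⟨m, ?_⟩
  rw [smul_zero] at hm
  have hexact : Function.Exact ((Submodule.subtype (KB.restrictScalars A)))
      (Ideal.Quotient.mkₐ A KB).toLinearMap := fun b =>
    ⟨fun hb => ⟨⟨b, Ideal.Quotient.eq_zero_iff_mem.1 hb⟩, rfl⟩,
      fun ⟨b', hb'⟩ => hb' ▸ Ideal.Quotient.eq_zero_iff_mem.2 b'.2⟩
  have hqy : qB (f ^ m • y) = (fb ^ m) • qB y := by
    clear hm h0 hy
    induction y using TensorProduct.induction_on with
    | zero => simp
    | tmul a c => simp [qB, fb, TensorProduct.smul_tmul', ← map_pow, ← map_mul]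
    | add a b ha hb => simp only [smul_add, map_add, ha, hb]
  obtain ⟨w, hw⟩ := (rTensor_exact C hexact Ideal.Quotient.mk_surjective _).1 (hqy.trans hm)
  rw [← hw]
  clear hw
  induction w using TensorProduct.induction_on with
  | zero => simp
  | tmul a c => exact tmul_mem_smul_top J a.2 c
  | add a b ha hb => rw [map_add]; exact Submodule.add_mem _ ha hb

end Groth.Agent.FormalSch78
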