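import Groth.Agent.QCoh.Ab.Cech
import Mathlib.Algebra.Group.Hom.End
import Mathlib.RingTheory.Ideal.Operations

/-!
# Exactness of augmented Čech complexes: localisations and limits
-/

universe u

open CategoryTheory TopologicalSpace Opposite

namespace Groth.Agent.FormalSch78

open QCoh.Ab

variable {X : TopCat.{u}} {ι : Type u}

/-- Restriction in a presheaf of abelian groups. -/
noncomputable abbrev pr (P : TopCat.Presheaf AddCommGrpCat.{u} X) {V W : Opens X} (h : W ≤ V) :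
    P.obj (op V) →+ P.obj (op W) :=
  (P.map (homOfLE h).op).hom

theorem pr_pr (P : TopCat.Presheaf AddCommGrpCat.{u} X) {V W Z : Opens X} (h : W ≤ V) (h' : Z ≤ W)
    (x : P.obj (op V)) : pr P h' (pr P h x) = pr P (h'.trans h) x :=
  congr($((P.map_comp (homOfLE h).op (homOfLE h').op).symm) x)

theorem pr_self (P : TopCat.Presheaf AddCommGrpCat.{u} X) {V : Opens X} (h : V ≤ V)
    (x : P.obj (op V)) : pr P h x = x :=
  congr($(P.map_id (op V)) x)

theorem pr_app {P Q : TopCat.Presheaf AddCommGrpCat.{u} X} (φ : P ⟶ Q) {V W : Opens X} (h : W ≤ V)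
    (x : P.obj (op V)) : φ.app (op W) (pr P h x) = pr Q h (φ.app (op V) x) :=
  congr($(φ.naturality (homOfLE h).op) x)

/-- The augmented Čech complex of a covering family is exact. -/
structure CechExact (P : TopCat.Presheaf AddCommGrpCat.{u} X) (V : Opens X) (Us : ι → Opens X) : Prop where
  sep : ∀ (h : ∀ i, Us i ≤ V) (x : P.obj (op V)), (∀ i, pr P (h i) x = 0) → x = 0
  glue : ∀ (h : ∀ i, Us i ≤ V) (y : ∀ i, P.obj (op (Us i))),
    (∀ i j, pr P (inf_le_left : Us i ⊓ Us j ≤ Us i) (y i) = pr P inf_le_right (y j)) →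
    ∃ z : P.obj (op V), ∀ i, pr P (h i) z = y i
  acyclic : QCoh.Ab.Acyclic P Us

variable {P : TopCat.Presheaf AddCommGrpCat.{u} X} {Us : ι → Opens X}

theorem cochain_ext {q : ℕ} {c c' : Cochain P Us (q + 1)} (hc : IsNatural c) (hc' : IsNatural c')
    (h : ∀ σ, c σ ⟨⨅ a, Us (σ a), fun a => iInf_le _ a⟩ = c' σ ⟨⨅ a, Us (σ a), fun a => iInf_le _ a⟩) :
    c = c' := by
  funext σ ⟨W, hW⟩
  rw [← hc σ _ W (fun a => iInf_le _ a) hW (homOfLE (le_iInf hW)), h,
    hc' σ _ W (fun a => iInf_le _ a) hW (homOfLE (le_iInf hW))]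

theorem sub_natural {q : ℕ} {c c' : Cochain P Us q} (hc : IsNatural c) (hc' : IsNatural c') :
    IsNatural (c - c') := fun σ W W' h h' i => by
  simp only [Pi.sub_apply, map_sub, hc σ W W' h h' i, hc' σ W W' h h' i]

theorem zero_natural {q : ℕ} : IsNatural (0 : Cochain P Us q) := fun _ _ _ _ _ i =>
  map_zero (P.map i.op).hom

/-- The cochain with prescribed values on the intersections. -/
noncomputable def mkCochain {q : ℕ} (y : ∀ σ : Fin (q + 1) → ι, P.obj (op (⨅ a, Us (σ a)))) :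
    Cochain P Us (q + 1) :=
  fun σ W => pr P (le_iInf W.2) (y σ)

theorem mkCochain_natural {q : ℕ} (y : ∀ σ : Fin (q + 1) → ι, P.obj (op (⨅ a, Us (σ a)))) :
    IsNatural (mkCochain y) := fun σ W W' h h' i => pr_pr P (le_iInf h) i.le (y σ)

theorem mkCochain_apply {q : ℕ} (y : ∀ σ : Fin (q + 1) → ι, P.obj (op (⨅ a, Us (σ a))))
    (σ : Fin (q + 1) → ι) :
    mkCochain y σ ⟨⨅ a, Us (σ a), fun a => iInf_le _ a⟩ = y σ :=
  pr_self P _ _

/-- The cocycle of degree zero of a compatible family. -/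
theorem exists_cochain_of_family (y : ∀ i, P.obj (op (Us i))) :
    ∃ c : Cochain P Us 1, IsNatural c ∧ ∀ σ W, c σ W = pr P (W.2 0) (y (σ 0)) :=
  ⟨fun σ W => pr P (W.2 0) (y (σ 0)), fun σ W W' h h' i => pr_pr P _ i.le _, fun _ _ => rfl⟩

theorem d_one_eq_zero_iff {c : Cochain P Us 1} :
    d c = 0 ↔ ∀ (σ : Fin 2 → ι) (W : Opens X) (h : Le Us σ W),
      c (fun _ => σ 1) ⟨W, fun _ => h 1⟩ = c (fun _ => σ 0) ⟨W, fun _ => h 0⟩ := by
  have key : ∀ (σ : Fin 2 → ι) (W : Opens X) (h : Le Us σ W), d c σ ⟨W, h⟩ =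
      c (fun _ => σ 1) ⟨W, fun _ => h 1⟩ - c (fun _ => σ 0) ⟨W, fun _ => h 0⟩ := fun σ W h => by
    have e : ∀ (τ τ' : Fin 1 → ι), τ = τ' → ∀ (h₁ : Le Us τ W) (h₂ : Le Us τ' W),
        c τ ⟨W, h₁⟩ = c τ' ⟨W, h₂⟩ := by rintro τ _ rfl _ _; rfl
    rw [d, Fin.sum_univ_two]
    simp only [Fin.val_zero, pow_zero, one_smul, Fin.val_one, pow_one, neg_one_smul, ← sub_eq_add_neg]
    exact congrArg₂ (fun x y => x - y)
      (e _ (fun _ => σ 1) (funext fun b => by rw [Subsingleton.elim b 0]; rfl) _ _)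
      (e _ (fun _ => σ 0) (funext fun b => by rw [Subsingleton.elim b 0]; rfl) _ _)
  refine ⟨fun h σ W hW => sub_eq_zero.1 ((key σ W hW).symm.trans (congrFun (congrFun h σ) ⟨W, hW⟩)),
    fun h => funext fun σ => funext fun W => (key σ W.1 W.2).trans (sub_eq_zero.2 (h σ W.1 W.2))⟩

theorem CechExact.exists_of_cocycle {V : Opens X} (hP : CechExact P V Us) (hle : ∀ i, Us i ≤ V)
    {c : Cochain P Us 1} (hc : IsNatural c) (hd : d c = 0) :
    ∃ z : P.obj (op V), c = fun σ W => pr P ((W.2 0).trans (hle _)) z := by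
  obtain ⟨z, hz⟩ := hP.glue hle (fun i => c (fun _ => i) ⟨Us i, fun _ => le_rfl⟩) fun i j =>
    (hc (fun _ => i) (Us i) (Us i ⊓ Us j) (fun _ => le_rfl) (fun _ => inf_le_left)
      (homOfLE inf_le_left)).trans
      (((d_one_eq_zero_iff.1 hd) ![i, j] (Us i ⊓ Us j)
        (Fin.forall_fin_two.2 ⟨inf_le_left, inf_le_right⟩)).symm.trans
        (hc (fun _ => j) (Us j) (Us i ⊓ Us j) (fun _ => le_rfl) (fun _ => inf_le_right)
          (homOfLE inf_le_right)).symm)
  refine ⟨z, funext fun σ => funext fun W => ?_⟩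
  have e : σ = fun _ => σ 0 := funext fun b => by rw [Subsingleton.elim b 0]
  have := congrArg (pr P (W.2 0)) (hz (σ 0))
  rw [pr_pr] at this
  refine Eq.trans ?_ this.symm
  obtain ⟨W, hW⟩ := W
  refine Eq.trans ?_ (hc (fun _ => σ 0) (Us (σ 0)) W (fun _ => le_rfl) (fun _ => hW 0)
    (homOfLE (hW 0))).symm
  have ext_tuple : ∀ (τ τ' : Fin 1 → ι), τ = τ' → ∀ (h₁ : Le Us τ W) (h₂ : Le Us τ' W),
      c τ ⟨W, h₁⟩ = c τ' ⟨W, h₂⟩ := by rintro τ _ rfl _ _; rfl
  exact ext_tuple _ _ e _ _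

section Localization

variable {V : Opens X} {R : Type u} [CommRing R]

/-- An action of a ring on a presheaf below an open, with restrictions to some opens being
localisations. -/
structure LocData (P : TopCat.Presheaf AddCommGrpCat.{u} X) (V : Opens X) (Us : ι → Opens X)
    (G : Opens X → Prop) (f : ι → R) where
  act : ∀ {W : Opens X}, W ≤ V → R →+* AddMonoid.End (P.obj (op W))
  act_pr : ∀ {W W' : Opens X} (h : W ≤ V) (h' : W' ≤ W) (r : R) (x : P.obj (op W)),
    pr P h' (act h r x) = act (h'.trans h) r (pr P h' x)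
  exists_lift : ∀ {B : Opens X} (hB : B ≤ V), G B → ∀ (i : ι) (x : P.obj (op (B ⊓ Us i))),
    ∃ (m : ℕ) (y : P.obj (op B)), pr P inf_le_left y = act (inf_le_left.trans hB) (f i ^ m) x
  exists_kill : ∀ {B : Opens X} (hB : B ≤ V), G B → ∀ (i : ι) (y : P.obj (op B)),
    pr P (inf_le_left : B ⊓ Us i ≤ B) y = 0 → ∃ m : ℕ, act hB (f i ^ m) y = 0

variable {G : Opens X → Prop} {f : ι → R} (D : LocData P V Us G f)

include D

theorem act_act {W : Opens X} (h : W ≤ V) (r r' : R) (x : P.obj (op W)) :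
    D.act h r (D.act h r' x) = D.act h (r * r') x := by
  rw [map_mul]
  rfl

theorem act_add_left {W : Opens X} (h : W ≤ V) (r r' : R) (x : P.obj (op W)) :
    D.act h (r + r') x = D.act h r x + D.act h r' x := by
  rw [map_add]
  rfl

theorem act_pow_le {W : Opens X} (h : W ≤ V) {i : ι} {m N : ℕ} (hm : m ≤ N) {x : P.obj (op W)}
    (hx : D.act h (f i ^ m) x = 0) : D.act h (f i ^ N) x = 0 := by
  rw [← Nat.sub_add_cancel hm, pow_add, ← act_act D, hx, map_zero]

theorem cechExact_of_locData [Finite ι] (hf : Ideal.span (Set.range f) = ⊤)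
    (hle : ∀ i, Us i ≤ V) (hV : G V) (hU : ∀ i, G (Us i))
    (hG : ∀ {q : ℕ} (σ : Fin (q + 1) → ι), G (⨅ a, Us (σ a))) : CechExact P V Us := by
  cases nonempty_fintype ι
  have hone : ∀ N : ℕ, ∃ e : ι → R, ∑ i, e i * f i ^ N = 1 := fun N =>
    Ideal.mem_span_range_iff_exists_fun.1 ((Ideal.eq_top_iff_one _).1 (by
      rw [show (fun i => f i ^ N) = (fun x => x ^ N) ∘ f from rfl, Set.range_comp]
      exact Ideal.span_pow_eq_top _ hf _))
  have act_sum : ∀ {W : Opens X} (h : W ≤ V) (r : ι → R) (x : P.obj (op W)),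
      D.act h (∑ i, r i) x = ∑ i, D.act h (r i) x := fun h r x => by
    rw [map_sum]
    exact map_sum (AddMonoidHom.eval x) (fun i => D.act h (r i)) Finset.univ
  have act_one : ∀ {W : Opens X} (h : W ≤ V) (x : P.obj (op W)), D.act h 1 x = x := fun h x => by
    rw [map_one]
    rfl
  have sep : ∀ (h : ∀ i, Us i ≤ V) (x : P.obj (op V)), (∀ i, pr P (h i) x = 0) → x = 0 := fun h x hx => by
    choose m hm using fun i => D.exists_kill le_rfl hV i x (by
      rw [← pr_pr P (h i) (inf_le_right : V ⊓ Us i ≤ Us i), hx, map_zero])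
    obtain ⟨e, he⟩ := hone (∑ i, m i)
    rw [← act_one le_rfl x, ← he, act_sum]
    refine Finset.sum_eq_zero fun i _ => ?_
    rw [← act_act D, act_pow_le D _ (Finset.single_le_sum (fun _ _ => Nat.zero_le _) (Finset.mem_univ i))
      (hm i), map_zero]
  refine ⟨sep, fun h y hy => ?_, fun p c hc hd => ?_⟩
  · choose m r hr using fun i => D.exists_lift le_rfl hV i (pr P inf_le_right (y i))
    let M := ∑ i, m i
    let r' : ι → P.obj (op V) := fun i => D.act le_rfl (f i ^ (M - m i)) (r i)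
    have hr' : ∀ i, pr P (h i) (r' i) = D.act (h i) (f i ^ M) (y i) := fun i => by
      have e := congrArg (pr P (le_inf (h i) le_rfl : Us i ≤ V ⊓ Us i)) (hr i)
      rw [pr_pr, D.act_pr, pr_pr, pr_self] at e
      rw [D.act_pr, e, act_act D, ← pow_add, Nat.sub_add_cancel
        (Finset.single_le_sum (f := m) (fun _ _ => Nat.zero_le _) (Finset.mem_univ i))]
    clear_value r'
    have hk : ∀ x : ι × ι, ∃ n : ℕ, D.act (h x.1) (f x.2 ^ n)
        (pr P (h x.1) (r' x.2) - D.act (h x.1) (f x.2 ^ M) (y x.1)) = 0 := fun ⟨i, j⟩ => by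
      refine D.exists_kill (h i) (hU i) j _ ?_
      rw [map_sub, pr_pr, D.act_pr, hy i j]
      have e := congrArg (pr P (inf_le_right : Us i ⊓ Us j ≤ Us j)) (hr' j)
      rw [pr_pr, D.act_pr] at e
      rw [e, sub_self]
    choose n hn using hk
    obtain ⟨e, he⟩ := hone ((∑ x, n x) + M)
    refine ⟨∑ j, D.act le_rfl (e j * f j ^ (∑ x, n x)) (r' j), fun i => ?_⟩
    rw [map_sum]
    conv_rhs => rw [← act_one (h i) (y i), ← he, act_sum]
    refine Finset.sum_congr rfl fun j _ => ?_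
    have hle' : n (i, j) ≤ ∑ x, n x :=
      Finset.single_le_sum (f := n) (fun _ _ => Nat.zero_le _) (Finset.mem_univ (i, j))
    have e' := act_pow_le D (h i) hle' (hn (i, j))
    rw [map_sub, sub_eq_zero, act_act D, ← pow_add] at e'
    rw [D.act_pr, ← act_act D, e', act_act D]
  · have hBV : ∀ {q : ℕ} (σ : Fin (q + 1) → ι), (⨅ a, Us (σ a)) ≤ V := fun σ =>
      (iInf_le (fun a => Us (σ a)) 0).trans (hle _)
    have hle₁ : ∀ (τ : Fin (p + 1) → ι) i, Le Us (Fin.cons i τ) ((⨅ a, Us (τ a)) ⊓ Us i) := fun τ i =>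
      Fin.cases inf_le_right fun b => inf_le_left.trans (iInf_le _ b)
    choose m t ht using fun (τ : Fin (p + 1) → ι) (i : ι) =>
      D.exists_lift (hBV τ) (hG τ) i (c (Fin.cons i τ) ⟨_, hle₁ τ i⟩)
    let N := ∑ τ, ∑ i, m τ i
    let t' : ∀ (τ : Fin (p + 1) → ι) (i : ι), P.obj (op (⨅ a, Us (τ a))) := fun τ i =>
      D.act (hBV τ) (f i ^ (N - m τ i)) (t τ i)
    have ht' : ∀ τ i, pr P inf_le_left (t' τ i) =
        D.act (inf_le_left.trans (hBV τ)) (f i ^ N) (c (Fin.cons i τ) ⟨_, hle₁ τ i⟩) := fun τ i => by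
      have hm : m τ i ≤ N := (Finset.single_le_sum (f := fun i => m τ i) (fun _ _ => Nat.zero_le _)
        (Finset.mem_univ i)).trans (Finset.single_le_sum (f := fun τ => ∑ i, m τ i)
          (fun _ _ => Nat.zero_le _) (Finset.mem_univ τ))
      rw [D.act_pr, ht, act_act D, ← pow_add, Nat.sub_add_cancel hm]
    have hface : ∀ (σ : Fin (p + 2) → ι) (a : Fin (p + 2)),
        (⨅ b, Us (σ b)) ≤ ⨅ b, Us (σ (a.succAbove b)) := fun σ a =>
      le_iInf fun b => iInf_le _ (a.succAbove b)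
    have hD : ∀ x : (Fin (p + 2) → ι) × ι, ∃ n : ℕ, D.act (hBV x.1) (f x.2 ^ n)
        (D.act (hBV x.1) (f x.2 ^ N) (c x.1 ⟨_, fun a => iInf_le _ a⟩) -
          ∑ a : Fin (p + 2), (-1 : ℤ) ^ (a : ℕ) •
            pr P (hface x.1 a) (t' (fun b => x.1 (a.succAbove b)) x.2)) = 0 := by
      rintro ⟨σ, i⟩
      refine D.exists_kill (hBV σ) (hG σ) i _ ?_
      let W := (⨅ a, Us (σ a)) ⊓ Us i
      have hWi : W ≤ Us i := inf_le_right
      have hWσ : Le Us σ W := fun a => inf_le_left.trans (iInf_le _ a)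
      have e := congrFun (congrFun hd (Fin.cons i σ)) ⟨W, Fin.cases hWi hWσ⟩
      rw [d_cons c i σ W hWi hWσ] at e
      have e' := sub_eq_zero.1 e
      rw [map_sub, map_sum, D.act_pr, sub_eq_zero]
      refine (congrArg (D.act (inf_le_left.trans (hBV σ)) (f i ^ N))
        ((hc σ _ W _ hWσ (homOfLE inf_le_left)).trans e')).trans ?_
      rw [map_sum]
      refine Finset.sum_congr rfl fun a _ => ?_
      rw [map_zsmul, map_zsmul]
      congr 1
      have hWa : W ≤ (⨅ b, Us (σ (a.succAbove b))) ⊓ Us i :=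
        le_inf (inf_le_left.trans (hface σ a)) inf_le_right
      rw [pr_pr, show inf_le_left.trans (hface σ a) = hWa.trans inf_le_left from rfl, ← pr_pr P inf_le_left hWa,
        ht', D.act_pr]
      exact congrArg _ (hc _ _ W _ _ (homOfLE hWa)).symm
    choose n hn using hD
    let K := ∑ x, n x
    obtain ⟨e, he⟩ := hone (K + N)
    let H : ∀ τ : Fin (p + 1) → ι, P.obj (op (⨅ a, Us (τ a))) := fun τ =>
      ∑ i, D.act (hBV τ) (e i * f i ^ K) (t' τ i)
    refine ⟨mkCochain H, mkCochain_natural H, cochain_ext (d_natural (mkCochain_natural H)) hc fun σ => ?_⟩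
    show ∑ a : Fin (p + 2), (-1 : ℤ) ^ (a : ℕ) • pr P (hface σ a) (H _) = _
    simp only [H, map_sum, Finset.smul_sum, D.act_pr]
    rw [Finset.sum_comm]
    conv_rhs => rw [← act_one (hBV σ) (c σ ⟨_, fun a => iInf_le _ a⟩), ← he, act_sum]
    refine Finset.sum_congr rfl fun i _ => ?_
    have hle' : n (σ, i) ≤ K := Finset.single_le_sum (f := n) (fun _ _ => Nat.zero_le _)
      (Finset.mem_univ (σ, i))
    have e₁ := act_pow_le D (hBV σ) hle' (hn (σ, i))
    rw [map_sub, sub_eq_zero, act_act D, ← pow_add, map_sum] at e₁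
    rw [← act_act D, e₁, map_sum]
    refine Finset.sum_congr rfl fun a _ => ?_
    rw [map_zsmul, map_zsmul, act_act D]

end Localization

section Tower

variable {V : Opens X} {Q : ℕ → TopCat.Presheaf AddCommGrpCat.{u} X}

theorem exists_lift_cochain {P Q : TopCat.Presheaf AddCommGrpCat.{u} X} (φ : P ⟶ Q) {q : ℕ}
    (hs : ∀ σ : Fin (q + 1) → ι, Function.Surjective (φ.app (op (⨅ a, Us (σ a)))))
    {c : Cochain Q Us (q + 1)} (hc : IsNatural c) :
    ∃ c' : Cochain P Us (q + 1), IsNatural c' ∧ push φ c' = c := by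
  choose y hy using fun σ => hs σ (c σ ⟨⨅ a, Us (σ a), fun a => iInf_le _ a⟩)
  refine ⟨mkCochain y, mkCochain_natural y,
    cochain_ext (push_natural φ (mkCochain_natural y)) hc fun σ => ?_⟩
  rw [push, mkCochain_apply, hy]

theorem exists_lift_cocycle {P Q : TopCat.Presheaf AddCommGrpCat.{u} X} (φ : P ⟶ Q)
    (hQ : CechExact Q V Us) (hle : ∀ i, Us i ≤ V) (hV : Function.Surjective (φ.app (op V)))
    (hs : ∀ {q : ℕ} (σ : Fin (q + 1) → ι), Function.Surjective (φ.app (op (⨅ a, Us (σ a)))))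
    {q : ℕ} {c : Cochain Q Us (q + 1)} (hc : IsNatural c) (hd : d c = 0) :
    ∃ c' : Cochain P Us (q + 1), IsNatural c' ∧ d c' = 0 ∧ push φ c' = c := by
  cases q with
  | zero =>
    obtain ⟨z, hz⟩ := hQ.exists_of_cocycle hle hc hd
    obtain ⟨z', rfl⟩ := hV z
    refine ⟨fun σ W => pr P ((W.2 0).trans (hle _)) z', fun σ W W' h h' i => pr_pr P _ i.le _,
      d_one_eq_zero_iff.2 fun σ W h => rfl, ?_⟩
    rw [hz]
    exact funext fun σ => funext fun W => pr_app φ _ z'
  | succ q =>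
    obtain ⟨g, hgn, hg⟩ := hQ.acyclic q c hc hd
    obtain ⟨g', hg'n, rfl⟩ := exists_lift_cochain φ (fun σ => hs σ) hgn
    exact ⟨d g', d_natural hg'n, d_d g', (d_push φ g').symm.trans hg⟩

/-- Exactness passes to limits of towers with surjective transitions. -/
theorem cechExact_of_tower (π : ∀ n, P ⟶ Q n) (t : ∀ n, Q (n + 1) ⟶ Q n)
    (ht : ∀ n, π (n + 1) ≫ t n = π n) (G : Opens X → Prop) (hle : ∀ i, Us i ≤ V) (hV : G V)
    (hU : ∀ i, G (Us i)) (hinter : ∀ {q : ℕ} (σ : Fin (q + 1) → ι), G (⨅ a, Us (σ a)))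
    (hinter₂ : ∀ i j, G (Us i ⊓ Us j))
    (hs : ∀ {B : Opens X}, G B → ∀ n, Function.Surjective ((π n).app (op B)))
    (hinj : ∀ {B : Opens X}, G B → ∀ x : P.obj (op B), (∀ n, (π n).app (op B) x = 0) → x = 0)
    (hlim : ∀ {B : Opens X}, G B → ∀ y : ∀ n, (Q n).obj (op B),
      (∀ n, (t n).app (op B) (y (n + 1)) = y n) → ∃ x, ∀ n, (π n).app (op B) x = y n)
    (hQ : ∀ n, CechExact (Q n) V Us) : CechExact P V Us := by
  have htπ : ∀ n (B : Opens X) (x : P.obj (op B)),
      (t n).app (op B) ((π (n + 1)).app (op B) x) = (π n).app (op B) x := fun n B x =>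
    congr($(ht n).app (op B) x)
  have hts : ∀ n {B : Opens X}, G B → Function.Surjective ((t n).app (op B)) := fun n B hB y => by
    obtain ⟨x, hx⟩ := hs hB n y
    exact ⟨(π (n + 1)).app (op B) x, (htπ n B x).trans hx⟩
  refine ⟨fun h x hx => hinj hV x fun n => (hQ n).sep h _ fun i => by
      rw [← pr_app, hx i, map_zero],
    fun h y hy => ?_, fun p c hcn hcd => ?_⟩
  · choose z hz using fun n => (hQ n).glue h (fun i => (π n).app _ (y i)) fun i j => by
      rw [← pr_app, ← pr_app, hy]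
    obtain ⟨x, hx⟩ := hlim hV z fun n => sub_eq_zero.1 ((hQ n).sep h _ fun i => by
      rw [map_sub, ← pr_app, hz, hz, htπ, sub_self])
    exact ⟨x, fun i => sub_eq_zero.1 (hinj (hU i) _ fun n => by
      rw [map_sub, pr_app, hx, hz, sub_self])⟩
  · have hπc : ∀ n, IsNatural (push (π n) c) ∧ d (push (π n) c) = 0 := fun n =>
      ⟨push_natural _ hcn, by
        rw [d_push, hcd]
        funext σ W
        exact map_zero _⟩
    let Sol : ℕ → Type u := fun n => {g : Cochain (Q n) Us (p + 1) // IsNatural g ∧ d g = push (π n) c}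
    have hstep : ∀ n (g : Sol n), ∃ g' : Sol (n + 1), push (t n) g'.1 = g.1 := fun n g => by
      obtain ⟨a, han, had⟩ := (hQ (n + 1)).acyclic p _ (hπc (n + 1)).1 (hπc (n + 1)).2
      obtain ⟨b, hbn, hbd, hb⟩ := exists_lift_cocycle (t n) (hQ n) hle (hts n hV)
        (fun σ => hts n (hinter σ)) (sub_natural (push_natural (t n) han) g.2.1) (by
          rw [d_sub, d_push, had, g.2.2, sub_eq_zero]
          funext σ W
          exact htπ n W.1 _)
      refine ⟨⟨a - b, sub_natural han hbn, by rw [d_sub, hbd, sub_zero, had]⟩, ?_⟩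
      show push (t n) (a - b) = g.1
      rw [push_sub, hb, sub_sub_cancel]
    obtain ⟨a₀, h₀⟩ := (hQ 0).acyclic p _ (hπc 0).1 (hπc 0).2
    choose nx hnx using hstep
    let g : ∀ n, Sol n := fun n => Nat.rec ⟨a₀, h₀⟩ (fun n gn => nx n gn) n
    choose x hx using fun σ : Fin (p + 1) → ι => hlim (hinter σ)
      (fun n => (g n).1 σ ⟨_, fun a => iInf_le _ a⟩)
      fun n => congrFun (congrFun (hnx n (g n)) σ) ⟨_, fun a => iInf_le _ a⟩
    refine ⟨mkCochain x, mkCochain_natural x, cochain_ext (d_natural (mkCochain_natural x)) hcn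
      fun σ => sub_eq_zero.1 (hinj (hinter σ) _ fun n => ?_)⟩
    rw [map_sub, sub_eq_zero]
    have e : push (π n) (mkCochain x) = (g n).1 :=
      cochain_ext (push_natural _ (mkCochain_natural x)) (g n).2.1 fun τ => by
        rw [push, mkCochain_apply, hx]
    refine Eq.trans ?_ (congrFun (congrFun (g n).2.2 σ) ⟨_, fun a => iInf_le _ a⟩)
    rw [← e, d_push]
    rfl

end Tower

end Groth.Agent.FormalSch78
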