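import Groth.Agent.FormalSch78.Base
import Groth.Agent.FormalSch78.CechExact
import Groth.Agent.FormalSch78.AwayMod
import Groth.Agent.FormalSch78.AssOps
import Mathlib.RingTheory.AdicCompletion.Basic
import Mathlib.RingTheory.Finiteness.Basic

/-!
# Adic charts
-/

universe u

open CategoryTheory Opposite TopologicalSpace TensorProduct

namespace Groth.Agent.FormalSch78

variable {X : TopCat.{u}} (O : Sheaf (Opens.grothendieckTopology X) CommRingCat.{u})

/-- An open on which functions are adically complete, with localisations modulo the powers of an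
ideal along the distinguished coverings. -/
structure IsAdicChart (S : QCoh.Ab.CoverSystem X) (U : Opens X) (I : Ideal (Rg O U)) : Prop where
  good : S.Good U
  basis : ∀ {V : Opens X}, V ≤ U → ∀ p ∈ V, ∃ W, S.Good W ∧ p ∈ W ∧ W ≤ V
  flat : IsFlatBase O S U
  complete : ∀ (C : Type u) [AddCommGroup C] [Module (Rg O U) C] [Module.Finite (Rg O U) C]
    ⦃W : Opens X⦄, S.Good W → W ≤ U → IsAdicComplete I (T O U C W)
  loc : ∀ ⦃V : Opens X⦄ ⦃ι : Type u⦄ ⦃Us : ι → Opens X⦄, S.Good V → V ≤ U → S.Cov V Us →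
    Finite ι ∧ ∃ f : ι → Rg O (V ⊓ U), Ideal.span (Set.range f) = ⊤ ∧
      ∀ ⦃B : Opens X⦄ (hB : B ≤ V), S.Good B → ∀ i n,
        IsAwayMod (I ^ n) (resAlg O U (inf_le_left : B ⊓ Us i ≤ B))
          (rO O (inf_le_inf_right U hB) (f i))

variable {O} {U : Opens X} (I : Ideal (Rg O U)) (C : Type u) [AddCommGroup C] [Module (Rg O U) C]

theorem tres_mem {W W' : Opens X} (h : W' ≤ W) {n : ℕ} {y : T O U C W}
    (hy : y ∈ I ^ n • (⊤ : Submodule (Rg O U) (T O U C W))) :
    tres h y ∈ I ^ n • (⊤ : Submodule (Rg O U) (T O U C W')) :=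
  map_mem_smul _ (tres h) hy

/-- The tensor product presheaf modulo a power of the ideal. -/
noncomputable def tQ (n : ℕ) : TopCat.Presheaf AddCommGrpCat.{u} X where
  obj W := AddCommGrpCat.of (T O U C W.unop ⧸ (I ^ n • ⊤ : Submodule (Rg O U) (T O U C W.unop)))
  map f := AddCommGrpCat.ofHom
    ((Submodule.mapQ _ _ (tres (leOfHom f.unop)) fun _ hy => tres_mem I C _ hy).toAddMonoidHom)
  map_id W := AddCommGrpCat.hom_ext (AddMonoidHom.ext fun z => by
    obtain ⟨y, rfl⟩ := Submodule.Quotient.mk_surjective _ z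
    exact congrArg (Submodule.Quotient.mk (p := (I ^ n • ⊤ : Submodule (Rg O U) (T O U C W.unop))))
      (tres_self _ y))
  map_comp {A B D} f g := AddCommGrpCat.hom_ext (AddMonoidHom.ext fun z => by
    obtain ⟨y, rfl⟩ := Submodule.Quotient.mk_surjective _ z
    exact congrArg (Submodule.Quotient.mk (p := (I ^ n • ⊤ : Submodule (Rg O U) (T O U C D.unop))))
      (tres_tres _ _ y).symm)

/-- The projection. -/
noncomputable def tπ (n : ℕ) : tPre O U C ⟶ tQ I C n where
  app W := AddCommGrpCat.ofHom (Submodule.mkQ (I ^ n • ⊤ : Submodule (Rg O U) (T O U C W.unop))).toAddMonoidHom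
  naturality _ _ _ := rfl

/-- The transition maps. -/
noncomputable def tt (n : ℕ) : tQ I C (n + 1) ⟶ tQ I C n where
  app W := AddCommGrpCat.ofHom
    (Submodule.factor (Submodule.smul_mono_left (Ideal.pow_le_pow_right (Nat.le_succ n)) :
      (I ^ (n + 1) • ⊤ : Submodule (Rg O U) (T O U C W.unop)) ≤ I ^ n • ⊤)).toAddMonoidHom
  naturality A B f := AddCommGrpCat.hom_ext (AddMonoidHom.ext fun z => by
    obtain ⟨y, rfl⟩ := Submodule.Quotient.mk_surjective _ z
    rfl)

variable {S : QCoh.Ab.CoverSystem X} {I}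

/-- Multiplication by the restriction of a function on `V`. -/
noncomputable def actT {V W : Opens X} (h : W ≤ V) (r : Rg O (V ⊓ U)) :
    T O U C W →ₗ[Rg O U] T O U C W :=
  DistribSMul.toLinearMap (Rg O U) (T O U C W) (rO O (inf_le_inf_right U h) r)

theorem actT_apply {V W : Opens X} (h : W ≤ V) (r : Rg O (V ⊓ U)) (y : T O U C W) :
    actT C h r y = rO O (inf_le_inf_right U h) r • y := rfl

/-- The action of functions on `V` on the reductions below `V`. -/
noncomputable def tAct (n : ℕ) {V W : Opens X} (h : W ≤ V) :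
    Rg O (V ⊓ U) →+* AddMonoid.End ((tQ I C n).obj (op W)) where
  toFun r := (Submodule.mapQ (I ^ n • ⊤ : Submodule (Rg O U) (T O U C W)) (I ^ n • ⊤)
    (actT C h r) fun _ hy => map_mem_smul _ _ hy).toAddMonoidHom
  map_one' := AddMonoidHom.ext fun z => by
    obtain ⟨y, rfl⟩ := Submodule.Quotient.mk_surjective _ z
    show Submodule.Quotient.mk (actT C h 1 y) = _
    rw [actT_apply, map_one, one_smul]
    rfl
  map_zero' := AddMonoidHom.ext fun z => by
    obtain ⟨y, rfl⟩ := Submodule.Quotient.mk_surjective _ z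
    show Submodule.Quotient.mk (actT C h 0 y) = _
    rw [actT_apply, map_zero, zero_smul]
    rfl
  map_add' r r' := AddMonoidHom.ext fun z => by
    obtain ⟨y, rfl⟩ := Submodule.Quotient.mk_surjective _ z
    show Submodule.Quotient.mk (actT C h (r + r') y) = _
    rw [actT_apply, map_add, add_smul]
    rfl
  map_mul' r r' := AddMonoidHom.ext fun z => by
    obtain ⟨y, rfl⟩ := Submodule.Quotient.mk_surjective _ z
    show Submodule.Quotient.mk (actT C h (r * r') y) = _
    rw [actT_apply, map_mul, mul_smul]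
    rfl

theorem cechExact_tQ (hC : IsAdicChart O S U I) {V : Opens X} {ι : Type u} {Us : ι → Opens X}
    (hV : S.Good V) (hVU : V ≤ U) (hc : S.Cov V Us) (n : ℕ) : CechExact (tQ I C n) V Us := by
  obtain ⟨hfin, f, hf, hloc⟩ := hC.loc hV hVU hc
  refine cechExact_of_locData (G := fun B => S.Good B)
    { act := fun h => tAct C n h
      act_pr := fun {W W'} h h' r x => ?_
      exists_lift := fun {B} hB hGB i x => ?_
      exists_kill := fun {B} hB hGB i y hy => ?_ } hf (S.le hc) hV (good_of_cov hc) fun σ => S.inter hc σ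
  · obtain ⟨y, rfl⟩ := Submodule.Quotient.mk_surjective _ x
    show Submodule.Quotient.mk (tres h' (actT C h r y)) = Submodule.Quotient.mk (actT C (h'.trans h) r (tres h' y))
    rw [actT_apply, actT_apply, tres_smul, rO_rO]
  · obtain ⟨x, rfl⟩ := Submodule.Quotient.mk_surjective _ x
    obtain ⟨m, y, hy⟩ := (hloc hB hGB i n).exists_lift x
    refine ⟨m, Submodule.Quotient.mk y, ?_⟩
    show Submodule.Quotient.mk (tres (inf_le_left : B ⊓ Us i ≤ B) y) =
      Submodule.Quotient.mk (actT C ((inf_le_left : B ⊓ Us i ≤ B).trans hB) (f i ^ m) x)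
    rw [Submodule.Quotient.eq, actT_apply, map_pow, ← rO_rO (inf_le_inf_right U hB) (inf_le_inf_right U inf_le_left)]
    exact hy
  · obtain ⟨y, rfl⟩ := Submodule.Quotient.mk_surjective _ y
    obtain ⟨m, hm⟩ := (hloc hB hGB i n).exists_kill y ((Submodule.Quotient.mk_eq_zero _).1 hy)
    refine ⟨m, ?_⟩
    show Submodule.Quotient.mk (actT C hB (f i ^ m) y) = 0
    rw [Submodule.Quotient.mk_eq_zero, actT_apply, map_pow]
    exact hm

theorem cechExact_finite (hC : IsAdicChart O S U I) [Module.Finite (Rg O U) C] {V : Opens X}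
    {ι : Type u} {Us : ι → Opens X} (hV : S.Good V) (hVU : V ≤ U) (hc : S.Cov V Us) :
    CechExact (tPre O U C) V Us := by
  have hGU : ∀ {B : Opens X}, (S.Good B ∧ B ≤ U) → IsAdicComplete I (T O U C B) := fun h =>
    hC.complete C h.1 h.2
  refine cechExact_of_tower (fun n => tπ I C n) (fun n => tt I C n)
    (fun n => NatTrans.ext (funext fun W => AddCommGrpCat.hom_ext (AddMonoidHom.ext fun y => rfl)))
    (fun B => S.Good B ∧ B ≤ U) (S.le hc) ⟨hV, hVU⟩
    (fun i => ⟨good_of_cov hc i, (S.le hc i).trans hVU⟩)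
    (fun σ => ⟨S.inter hc σ, ((iInf_le (fun a => Us (σ a)) 0).trans (S.le hc _)).trans hVU⟩)
    (fun i j => ⟨good_inf_of_cov hc i j, (inf_le_left.trans (S.le hc i)).trans hVU⟩)
    (fun {B} _ n => Submodule.mkQ_surjective (I ^ n • ⊤ : Submodule (Rg O U) (T O U C B))) (fun {B} hB x hx => ?_) (fun {B} hB y hy => ?_)
    fun n => cechExact_tQ C hC hV hVU hc n
  · have := hGU hB
    exact IsHausdorff.haus (hGU hB).toIsHausdorff (x : T O U C B) fun n =>
      SModEq.zero.2 ((Submodule.Quotient.mk_eq_zero _).1 (hx n))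
  · choose z hz using fun n => Submodule.Quotient.mk_surjective _ (y n)
    have hcompat : ∀ {m n}, m ≤ n → z m - z n ∈ (I ^ m • ⊤ : Submodule (Rg O U) (T O U C B)) := by
      intro m n hmn
      induction n, hmn using Nat.le_induction with
      | base => simp
      | succ n hmn ih =>
        have e : z n - z (n + 1) ∈ (I ^ n • ⊤ : Submodule (Rg O U) (T O U C B)) := by
          rw [← Submodule.Quotient.eq, hz n, ← hy n, ← hz (n + 1)]
          rfl
        have := Submodule.add_mem _ ih (Submodule.smul_mono_left (Ideal.pow_le_pow_right hmn) e)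
        rwa [sub_add_sub_cancel] at this
    obtain ⟨L, hL⟩ := IsPrecomplete.prec (hGU hB).toIsPrecomplete (f := z) fun hmn =>
      SModEq.sub_mem.2 (hcompat hmn)
    refine ⟨L, fun n => ?_⟩
    refine Eq.trans ?_ (hz n)
    exact ((Submodule.Quotient.eq _).2 (SModEq.sub_mem.1 (hL n))).symm

theorem lTensor_incl_injective (hC : IsAdicChart O S U I) {W : Opens X} (hW : S.Good W) (hWU : W ≤ U)
    (D : Submodule (Rg O U) C) : Function.Injective (D.subtype.lTensor (Rg O (W ⊓ U))) :=
  haveI := hC.flat hW hWU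
  Module.Flat.lTensor_preserves_injective_linearMap _ D.injective_subtype

theorem exists_fg_lift {W : Opens X} (y : T O U C W) :
    ∃ D : Submodule (Rg O U) C, D.FG ∧ ∃ y', D.subtype.lTensor (Rg O (W ⊓ U)) y' = y := by
  induction y using TensorProduct.induction_on with
  | zero => exact ⟨⊥, Submodule.fg_bot, 0, map_zero _⟩
  | tmul a c =>
    exact ⟨Submodule.span _ {c}, Submodule.fg_span_singleton c, a ⊗ₜ ⟨c, Submodule.mem_span_singleton_self c⟩, rfl⟩
  | add y y' hy hy' =>
    obtain ⟨D, hD, z, rfl⟩ := hy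
    obtain ⟨D', hD', z', rfl⟩ := hy'
    refine ⟨D ⊔ D', hD.sup hD', (Submodule.inclusion le_sup_left).lTensor _ z +
      (Submodule.inclusion le_sup_right).lTensor _ z', ?_⟩
    rw [map_add, ← LinearMap.comp_apply, ← LinearMap.lTensor_comp, Submodule.subtype_comp_inclusion,
      ← LinearMap.comp_apply, ← LinearMap.lTensor_comp, Submodule.subtype_comp_inclusion]

theorem exists_fg_lift_family {J : Type u} [Finite J] {W : J → Opens X} (y : ∀ j, T O U C (W j)) :
    ∃ D : Submodule (Rg O U) C, D.FG ∧ ∀ j, ∃ y', D.subtype.lTensor (Rg O (W j ⊓ U)) y' = y j := by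
  choose D hD z hz using fun j => exists_fg_lift C (y j)
  refine ⟨⨆ j, D j, Submodule.fg_iSup D hD, fun j =>
    ⟨(Submodule.inclusion (le_iSup D j)).lTensor _ (z j), ?_⟩⟩
  rw [← LinearMap.comp_apply, ← LinearMap.lTensor_comp, Submodule.subtype_comp_inclusion]
  exact hz j

/-- The inclusion as a map of presheaves. -/
noncomputable def tIncl (D : Submodule (Rg O U) C) : tPre O U D ⟶ tPre O U C where
  app W := AddCommGrpCat.ofHom (D.subtype.lTensor (Rg O (W.unop ⊓ U))).toAddMonoidHom
  naturality _ _ f := AddCommGrpCat.hom_ext (AddMonoidHom.ext fun y =>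
    (tres_lTensor (leOfHom f.unop) D.subtype y).symm)

/-- Adic charts are charts. -/
theorem IsAdicChart.isTBase (hC : IsAdicChart O S U I) : IsTBase O S U where
  good := hC.good
  basis := hC.basis
  sep C _ _ V ι Us hV hVU hc y hy := by
    obtain ⟨D, hD, y', rfl⟩ := exists_fg_lift C y
    have := Module.Finite.iff_fg.2 hD
    rw [(cechExact_finite D hC hV hVU hc).sep (S.le hc) y' fun i =>
      lTensor_incl_injective C hC (good_of_cov hc i) ((S.le hc i).trans hVU) D ?_]
    · exact map_zero _
    · exact ((tres_lTensor (S.le hc i) D.subtype y').symm.trans (hy i)).trans (map_zero _).symm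
  glue C _ _ V ι Us hV hVU hc y hy := by
    have := (hC.loc hV hVU hc).1
    obtain ⟨D, hD, hy'⟩ := exists_fg_lift_family C y
    choose y' hy' using hy'
    have := Module.Finite.iff_fg.2 hD
    obtain ⟨z, hz⟩ := (cechExact_finite D hC hV hVU hc).glue (S.le hc) y' fun i j =>
      lTensor_incl_injective C hC (good_inf_of_cov hc i j)
        ((inf_le_left.trans (S.le hc i)).trans hVU) D (by
          show D.subtype.lTensor _ (tres inf_le_left (y' i)) = D.subtype.lTensor _ (tres inf_le_right (y' j))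
          rw [← tres_lTensor, ← tres_lTensor, hy', hy', hy])
    refine ⟨D.subtype.lTensor _ z, fun i => ?_⟩
    refine (tres_lTensor (S.le hc i) D.subtype (show T O U D V from z)).trans ?_
    exact (congrArg _ (hz i)).trans (hy' i)
  acyclic C _ _ V ι Us hV hVU hc := by
    intro p c hcn hcd
    have := (hC.loc hV hVU hc).1
    obtain ⟨D, hD, hy'⟩ := exists_fg_lift_family C
      fun σ : Fin (p + 2) → ι => (show T O U C (⨅ a, Us (σ a)) from c σ ⟨_, fun a => iInf_le _ a⟩)
    choose y' hy' using hy'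
    have := Module.Finite.iff_fg.2 hD
    have hcc : QCoh.Ab.push (tIncl C D) (mkCochain (P := tPre O U D) y') = c :=
      cochain_ext (QCoh.Ab.push_natural _ (mkCochain_natural _)) hcn fun σ => by
        exact (congrArg ((tIncl C D).app _) (mkCochain_apply (P := tPre O U D) y' σ)).trans (hy' σ)
    have hd' : QCoh.Ab.d (mkCochain (P := tPre O U D) y') = 0 :=
      cochain_ext (QCoh.Ab.d_natural (mkCochain_natural _)) zero_natural fun σ =>
        lTensor_incl_injective C hC (S.inter hc σ)
          (((iInf_le (fun a => Us (σ a)) 0).trans (S.le hc _)).trans hVU) D (by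
          have e := congrFun (congrFun ((QCoh.Ab.d_push (tIncl C D) _).symm.trans
            ((congrArg QCoh.Ab.d hcc).trans hcd)) σ) ⟨⨅ a, Us (σ a), fun a => iInf_le _ a⟩
          exact e.trans (map_zero (D.subtype.lTensor (Rg O ((⨅ a, Us (σ a)) ⊓ U)))).symm)
    obtain ⟨g, hgn, hg⟩ := (cechExact_finite D hC hV hVU hc).acyclic p _ (mkCochain_natural y') hd'
    exact ⟨QCoh.Ab.push (tIncl C D) g, QCoh.Ab.push_natural _ hgn, by rw [QCoh.Ab.d_push, hg, hcc]⟩

end Groth.Agent.FormalSch78
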