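import Groth.Agent.FormalSch78.Sec
import Mathlib.Algebra.Category.ModuleCat.Sheaf.Abelian
import Mathlib.Algebra.Homology.ShortComplex.Exact
import Mathlib.CategoryTheory.Preadditive.Basic

/-!
# Local criteria for monomorphisms, epimorphisms and exactness
-/

universe u

open CategoryTheory CategoryTheory.Limits Opposite TopologicalSpace
open Groth.Agent.ModTensor Groth.Agent.ModPull

namespace Groth.Agent.FormalSch78

variable {X : TopCat.{u}} {O : Sheaf (Opens.grothendieckTopology X) CommRingCat.{u}}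
  {F G : ModSite.Mod O}

theorem mono_of_nhds (φ : F ⟶ G)
    (h : ∀ (W : Opens X) (x : Ms F W), app φ W x = 0 →
      ∀ p ∈ W, ∃ (V : Opens X) (hV : V ≤ W), p ∈ V ∧ rM F hV x = 0) : Mono φ := by
  refine Preadditive.mono_of_cancel_zero _ fun {H} g hg => hom_ext fun V y => ?_
  refine eq_of_nhds F fun p hp => ?_
  have h0 : app φ V (app g V y) = 0 := congrArg (fun ψ => app ψ V y) hg
  obtain ⟨V', hV', hpV, h'⟩ := h V _ h0 p hp
  exact ⟨V', hV', hpV, h'.trans (map_zero (rM F hV')).symm⟩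

theorem epi_of_nhds (φ : F ⟶ G)
    (h : ∀ (W : Opens X) (x : Ms G W), ∀ p ∈ W,
      ∃ (V : Opens X) (hV : V ≤ W), p ∈ V ∧ ∃ y : Ms F V, app φ V y = rM G hV x) : Epi φ := by
  refine Preadditive.epi_of_cancel_zero _ fun {H} g hg => hom_ext fun V x => ?_
  refine eq_of_nhds H fun p hp => ?_
  obtain ⟨V', hV', hpV, y, hy⟩ := h V x p hp
  refine ⟨V', hV', hpV, ?_⟩
  rw [← app_rM, ← hy, ← app_comp, hg]
  exact (map_zero (rM H hV')).symm

theorem exact_of_nhds {S : ShortComplex (ModSite.Mod O)}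
    (h : ∀ (W : Opens X) (x : Ms S.X₂ W), app S.g W x = 0 →
      ∀ p ∈ W, ∃ (V : Opens X) (hV : V ≤ W), p ∈ V ∧ ∃ y : Ms S.X₁ V, app S.f V y = rM S.X₂ hV x) :
    S.Exact := by
  rw [ShortComplex.exact_iff_epi_toCycles]
  refine epi_of_nhds _ fun W z p hp => ?_
  have h0 : app S.g W (app S.iCycles W z) = 0 :=
    congrArg (fun ψ => app ψ W z) S.iCycles_g
  obtain ⟨V, hV, hpV, y, hy⟩ := h W _ h0 p hp
  refine ⟨V, hV, hpV, y, app_injective S.iCycles (op V) ?_⟩
  show app S.iCycles V (app S.toCycles V y) = app S.iCycles V (rM _ hV z)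
  rw [← app_comp, S.toCycles_i, hy, app_rM]

theorem app_zero (W : Opens X) (x : Ms F W) : app (0 : F ⟶ G) W x = 0 := rfl

end Groth.Agent.FormalSch78
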