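import Groth.Agent.FormalSch78.Base
import Groth.Agent.ModPull.Tensor
import Groth.Agent.FormalSch78.Crit

/-!
# Inverse images over a chart
-/

universe u

open CategoryTheory CategoryTheory.Limits Opposite TopologicalSpace
open Groth.Agent.ModTensor Groth.Agent.ModPull

namespace Groth.Agent.FormalSch78

variable {X X' : TopCat.{u}} {O : Sheaf (Opens.grothendieckTopology X) CommRingCat.{u}}
  {O' : Sheaf (Opens.grothendieckTopology X') CommRingCat.{u}} (g : X' ⟶ X)
  (sharp : O ⟶ ((Opens.map g).sheafPushforwardContinuous CommRingCat.{u} (Opens.grothendieckTopology X)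
    (Opens.grothendieckTopology X')).obj O')

/-- The morphism of ringed spaces. -/
noncomputable abbrev mor : ModSite.RMor O' O := ModSite.RMor.ofFlat (Opens.map g) sharp

variable {F : ModSite.Mod O} {N : ModSite.Mod O'} {U : Opens X}

/-- Functions on `U` as functions on an open over it. -/
noncomputable def pl {V : Opens X'} (h : V ≤ (Opens.map g).obj U) : Rg O U →+* Rg O' V :=
  (rO O' h).comp (sharp.hom.app (op U)).hom

/-- Sections on `U` as sections on an open over it. -/
noncomputable def pm (φ : F ⟶ (mor g sharp).push.obj N) {V : Opens X'} (h : V ≤ (Opens.map g).obj U) :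
    Ms F U →+ Ms N V :=
  (rM N h).comp (AddMonoidHom.mk' (fun c => (show Ms N ((Opens.map g).obj U) from app φ U c))
    fun c c' => map_add (app φ U) c c')

theorem pm_smul (φ : F ⟶ (mor g sharp).push.obj N) {V : Opens X'} (h : V ≤ (Opens.map g).obj U)
    (r : Rg O U) (c : Ms F U) : pm g sharp φ h (r • c) = pl g sharp h r • pm g sharp φ h c := by
  show rM N h (show Ms N ((Opens.map g).obj U) from app φ U (r • c)) = _
  rw [map_smul]
  exact rM_smul N h _ _

theorem rM_pm (φ : F ⟶ (mor g sharp).push.obj N) {V V' : Opens X'} (h : V ≤ (Opens.map g).obj U)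
    (h' : V' ≤ V) (c : Ms F U) : rM N h' (pm g sharp φ h c) = pm g sharp φ (h'.trans h) c :=
  rM_rM N h h' _

theorem rM_mem_span (φ : F ⟶ (mor g sharp).push.obj N) {V V' : Opens X'} (h : V ≤ (Opens.map g).obj U)
    (h' : V' ≤ V) {z : Ms N V} (hz : z ∈ Submodule.span (Rg O' V) (Set.range (pm g sharp φ h))) :
    rM N h' z ∈ Submodule.span (Rg O' V') (Set.range (pm g sharp φ (h'.trans h))) := by
  induction hz using Submodule.span_induction with
  | mem z hz =>
    obtain ⟨c, rfl⟩ := hz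
    exact Submodule.subset_span ⟨c, (rM_pm g sharp φ h h' c).symm⟩
  | zero => rw [map_zero]; exact Submodule.zero_mem _
  | add z z' _ _ hz hz' => rw [map_add]; exact Submodule.add_mem _ hz hz'
  | smul a z _ hz => rw [rM_smul]; exact Submodule.smul_mem _ _ hz

/-- Over `V`, the sections of `N` are the base change of the sections of `F` over `U`. -/
structure IsBC (φ : F ⟶ (mor g sharp).push.obj N) {V : Opens X'} (h : V ≤ (Opens.map g).obj U) : Prop where
  span : Submodule.span (Rg O' V) (Set.range (pm g sharp φ h)) = ⊤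
  lift : ∀ (Q : Type u) [AddCommGroup Q] [Module (Rg O' V) Q] (ρ : Ms F U →+ Q),
    (∀ r c, ρ (r • c) = pl g sharp h r • ρ c) →
      ∃ ℓ : Ms N V →ₗ[Rg O' V] Q, ∀ c, ℓ (pm g sharp φ h c) = ρ c

variable (F U) in
/-- Sections of `F` below `U` are locally combinations of sections over `U`. -/
def LocSpan : Prop :=
  ∀ ⦃W : Opens X⦄, W ≤ U → ∀ (x : Ms F W), ∀ p ∈ W, ∃ (W' : Opens X) (h : W' ≤ W) (hU : W' ≤ U),
    p ∈ W' ∧ rM F h x ∈ Submodule.span (Rg O W') (Set.range fun c : Ms F U => rM F hU c)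

theorem span_of_ass {S : QCoh.Ab.CoverSystem X} (hB : IsTBase O S U) (hF : Ass S U F) : LocSpan F U := by
  intro W hWU x p hp
  obtain ⟨W', hW', hpW', hle⟩ := hB.basis hWU p hp
  refine ⟨W' ⊓ U, inf_le_left.trans hle, inf_le_right, ⟨hpW', hWU (hle hpW')⟩, ?_⟩
  obtain ⟨y, hy⟩ := (hF hW' (hle.trans hWU)).2 (rM F (inf_le_left.trans hle) x)
  rw [← hy]
  clear hy
  induction y using TensorProduct.induction_on with
  | zero => rw [map_zero]; exact Submodule.zero_mem _
  | tmul a c => rw [θ_tmul]; exact Submodule.smul_mem _ _ (Submodule.subset_span ⟨c, rfl⟩)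
  | add y y' hy hy' => rw [map_add]; exact Submodule.add_mem _ hy hy'

variable {g sharp}

/-- The unit on a chart. -/
noncomputable abbrev pmu (F : ModSite.Mod O) {V : Opens X'} (h : V ≤ (Opens.map g).obj U) :
    Ms F U →+ Ms ((mor g sharp).pull.obj F) V :=
  pm g sharp ((mor g sharp).adj.unit.app F) h

theorem rM_pu {A B : Opens X} (h : B ≤ A) {V : Opens X'} (hB : V ≤ (Opens.map g).obj B) (x : Ms F A) :
    rM ((mor g sharp).pull.obj F) hB (pu (mor g sharp) F (U := op B) (rM F h x)) =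
      rM ((mor g sharp).pull.obj F) (hB.trans ((Opens.map g).map (homOfLE h)).le)
        (pu (mor g sharp) F (U := op A) x) :=
  (congrArg (rM ((mor g sharp).pull.obj F) hB) (app_rM ((mor g sharp).adj.unit.app F) h x)).trans
    (rM_rM _ _ _ _)

/-- Sections of an inverse image are locally combinations of the sections over a chart. -/
theorem locally_span_pull (hgen : LocSpan F U) {V : Opens X'} (hV : V ≤ (Opens.map g).obj U)
    (z : Ms ((mor g sharp).pull.obj F) V) {q : X'} (hq : q ∈ V) :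
    ∃ (V' : Opens X') (h : V' ≤ V), q ∈ V' ∧ rM _ h z ∈
      Submodule.span (Rg O' V') (Set.range (pmu (sharp := sharp) F (h.trans hV))) := by
  obtain ⟨V₁, h₁, hq₁, X₀, hX₀, n, a, k, hz⟩ :=
    locally_nhd (locally_combination (mor g sharp) F z) q hq
  have hterm : ∀ l, ∃ (V' : Opens X') (h : V' ≤ V₁), q ∈ V' ∧
      rM _ (h.trans hX₀.le) (pu (mor g sharp) F (U := op X₀) (k l)) ∈
        Submodule.span (Rg O' V') (Set.range (pmu (sharp := sharp) F ((h.trans h₁).trans hV))) := by
    intro l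
    obtain ⟨W', hW', hW'U, hpW', hspan⟩ := hgen (inf_le_right : X₀ ⊓ U ≤ U)
      (rM F inf_le_left (k l)) (g q) ⟨hX₀.le hq₁, hV (h₁ hq₁)⟩
    refine ⟨V₁ ⊓ (Opens.map g).obj W', inf_le_left, ⟨hq₁, hpW'⟩, ?_⟩
    rw [rM_rM] at hspan
    have e : rM _ ((inf_le_left : V₁ ⊓ (Opens.map g).obj W' ≤ V₁).trans hX₀.le)
        (pu (mor g sharp) F (U := op X₀) (k l)) =
        rM _ (inf_le_right : V₁ ⊓ (Opens.map g).obj W' ≤ (Opens.map g).obj W')
          (pu (mor g sharp) F (U := op W') (rM F (hW'.trans inf_le_left) (k l))) := by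
      exact (rM_pu (sharp := sharp) (hW'.trans inf_le_left) inf_le_right (k l)).symm
    rw [e]
    generalize rM F (hW'.trans inf_le_left) (k l) = t at hspan
    clear e
    show pm g sharp ((mor g sharp).adj.unit.app F) (U := W')
      (inf_le_right : V₁ ⊓ (Opens.map g).obj W' ≤ (Opens.map g).obj W') t ∈ _
    induction hspan using Submodule.span_induction with
    | mem t ht =>
      obtain ⟨c, rfl⟩ := ht
      refine Submodule.subset_span ⟨c, ?_⟩
      exact (rM_pu (sharp := sharp) hW'U inf_le_right c).symm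
    | zero => rw [map_zero]; exact Submodule.zero_mem _
    | add t t' _ _ ht ht' => rw [map_add]; exact Submodule.add_mem _ ht ht'
    | smul r t _ ht => rw [pm_smul]; exact Submodule.smul_mem _ _ ht
  choose V' hV' hqV' hmem using hterm
  let V'' : Opens X' := V₁ ⊓ Finset.univ.inf V'
  have hle : ∀ l, V'' ≤ V' l := fun l => inf_le_right.trans (Finset.inf_le (Finset.mem_univ l))
  refine ⟨V'', (inf_le_left : V'' ≤ V₁).trans h₁, ⟨hq₁, ?_⟩, ?_⟩
  · have : ∀ s : Finset (Fin n), q ∈ s.inf V' := by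
      intro s
      classical
      induction s using Finset.induction_on with
      | empty => exact trivial
      | insert b s _ ih => rw [Finset.inf_insert]; exact ⟨hqV' b, ih⟩
    exact this _
  · rw [← rM_rM _ h₁ (inf_le_left : V'' ≤ V₁), rM_eq_rs _ h₁ (homOfLE h₁), hz, map_sum]
    refine Submodule.sum_mem _ fun l _ => ?_
    rw [rM_smul]
    refine Submodule.smul_mem _ _ ?_
    rw [← rM_eq_rs _ hX₀.le, rM_rM, ← rM_rM _ ((hV' l).trans hX₀.le) (hle l)]
    exact rM_mem_span g sharp _ _ (hle l) (hmem l)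

theorem app_pmu (ψ : (mor g sharp).pull.obj F ⟶ N) {V : Opens X'} (h : V ≤ (Opens.map g).obj U)
    (c : Ms F U) :
    app ψ V (pmu (sharp := sharp) F h c) = pm g sharp ((mor g sharp).adj.homEquiv F N ψ) h c := by
  refine (app_rM ψ h _).trans (congrArg (rM N h) ?_)
  exact (adj_homEquiv_app (mor g sharp) ψ (U := op U) c).symm

/-- An adjunct is bijective on sections below a chart where the target is the base change. -/
theorem bijective_adjunct (φ : F ⟶ (mor g sharp).push.obj N) (hgen : LocSpan F U)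
    (hbase : ∀ V : Opens X', V ≤ (Opens.map g).obj U → ∀ q ∈ V,
      ∃ (V' : Opens X') (_ : V' ≤ V) (h : V' ≤ (Opens.map g).obj U), q ∈ V' ∧ IsBC g sharp φ h)
    {V : Opens X'} (hV : V ≤ (Opens.map g).obj U) :
    Function.Bijective (app (((mor g sharp).adj.homEquiv F N).symm φ) V) := by
  set ψ := ((mor g sharp).adj.homEquiv F N).symm φ
  have hψ : ∀ {V : Opens X'} (h : V ≤ (Opens.map g).obj U) c,
      app ψ V (pmu (sharp := sharp) F h c) = pm g sharp φ h c := fun h c => by
    rw [app_pmu, Equiv.apply_symm_apply]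
  have hinj : ∀ {V : Opens X'}, V ≤ (Opens.map g).obj U → Function.Injective (app ψ V) := by
    intro V hV
    refine (injective_iff_map_eq_zero _).2 fun x hx => eq_of_nhds _ fun q hq => ?_
    obtain ⟨V₁, h₁, hq₁, hspan⟩ := locally_span_pull (sharp := sharp) hgen hV x hq
    obtain ⟨V₂, h₂, hU₂, hq₂, hbc⟩ := hbase V₁ (h₁.trans hV) q hq₁
    refine ⟨V₂, h₂.trans h₁, hq₂, ?_⟩
    rw [map_zero, ← rM_rM _ h₁ h₂]
    obtain ⟨ℓ, hℓ⟩ := hbc.lift _ (pmu (sharp := sharp) F hU₂) (pm_smul g sharp _ hU₂)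
    have hid : ∀ z ∈ Submodule.span (Rg O' V₂) (Set.range (pmu (sharp := sharp) F hU₂)),
        ℓ (app ψ V₂ z) = z := by
      intro z hz
      induction hz using Submodule.span_induction with
      | mem z hz =>
        obtain ⟨c, rfl⟩ := hz
        rw [hψ, hℓ]
      | zero => rw [map_zero, map_zero]
      | add z z' _ _ hz hz' => rw [map_add, map_add, hz, hz']
      | smul a z _ hz => rw [map_smul, map_smul, hz]
    rw [← hid _ (rM_mem_span g sharp _ (h₁.trans hV) h₂ hspan), app_rM, app_rM, hx, map_zero, map_zero,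
      map_zero]
  refine ⟨hinj hV, fun y => ?_⟩
  have hloc : ∀ q : V, ∃ (V' : Opens X') (h : V' ≤ V), q.1 ∈ V' ∧ ∃ x, app ψ V' x = rM N h y := by
    intro q
    obtain ⟨V', h', hU', hq', hbc⟩ := hbase V hV q.1 q.2
    refine ⟨V', h', hq', ?_⟩
    have : rM N h' y ∈ Submodule.span (Rg O' V') (Set.range (pm g sharp φ hU')) := by
      rw [hbc.span]; exact Submodule.mem_top
    revert this
    generalize rM N h' y = t
    intro ht
    induction ht using Submodule.span_induction with
    | mem t ht =>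
      obtain ⟨c, rfl⟩ := ht
      exact ⟨_, hψ hU' c⟩
    | zero => exact ⟨0, map_zero _⟩
    | add t t' _ _ ht ht' =>
      obtain ⟨x, rfl⟩ := ht
      obtain ⟨x', rfl⟩ := ht'
      exact ⟨x + x', map_add _ _ _⟩
    | smul a t _ ht =>
      obtain ⟨x, rfl⟩ := ht
      exact ⟨a • x, map_smul _ _ _⟩
  choose V' hV' hq' x hx using hloc
  obtain ⟨z, hz⟩ := exists_glue ((mor g sharp).pull.obj F) V' hV'
    (fun p hp => Opens.mem_iSup.2 ⟨⟨p, hp⟩, hq' ⟨p, hp⟩⟩) x fun i j =>
      hinj ((inf_le_left.trans (hV' i)).trans hV) (by rw [app_rM, app_rM, hx, hx, rM_rM, rM_rM])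
  refine ⟨z, eq_of_nhds N fun p hp => ⟨V' ⟨p, hp⟩, hV' _, hq' ⟨p, hp⟩, ?_⟩⟩
  rw [← app_rM, hz, hx]

/-- An adjunct is an isomorphism when the target is the base change on a covering family of charts. -/
theorem isIso_adjunct (φ : F ⟶ (mor g sharp).push.obj N)
    (h : ∀ q : X', ∃ U : Opens X, g q ∈ U ∧ LocSpan F U ∧
      ∀ V : Opens X', V ≤ (Opens.map g).obj U → ∀ q ∈ V,
        ∃ (V' : Opens X') (_ : V' ≤ V) (h : V' ≤ (Opens.map g).obj U), q ∈ V' ∧ IsBC g sharp φ h) :
    IsIso (((mor g sharp).adj.homEquiv F N).symm φ) := by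
  set ψ := ((mor g sharp).adj.homEquiv F N).symm φ
  have : Mono ψ := mono_of_nhds ψ fun W x hx q hq => by
    obtain ⟨U, hqU, hgen, hbase⟩ := h q
    refine ⟨W ⊓ (Opens.map g).obj U, inf_le_left, ⟨hq, hqU⟩, ?_⟩
    refine (bijective_adjunct (sharp := sharp) φ hgen hbase inf_le_right).1 ?_
    rw [app_rM, hx, map_zero, map_zero]
  have : Epi ψ := epi_of_nhds ψ fun W x q hq => by
    obtain ⟨U, hqU, hgen, hbase⟩ := h q
    exact ⟨W ⊓ (Opens.map g).obj U, inf_le_left, ⟨hq, hqU⟩,
      (bijective_adjunct (sharp := sharp) φ hgen hbase inf_le_right).2 _⟩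
  exact isIso_of_mono_of_epi ψ

end Groth.Agent.FormalSch78
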