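import Groth.Agent.FormalSch78.OverPres
import Mathlib.Algebra.Module.FinitePresentation
import Mathlib.Topology.Sheaves.SheafCondition.Sites

/-!
# Quasi-coherence and finite presentation through charts
-/

universe u

open CategoryTheory CategoryTheory.Limits Opposite TopologicalSpace

namespace Groth.Agent.FormalSch78

variable {X : TopCat.{u}} {O : Sheaf (Opens.grothendieckTopology X) CommRingCat.{u}}
variable {S : QCoh.Ab.CoverSystem X} {U U' : Opens X} {F : ModSite.Mod O}

theorem ass_of_presentation (hB : IsTBase O S U') (h : U' ≤ U) (hc : IsCompact (U' : Set X))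
    (P : ((ModSite.restr O U).obj F).Presentation) :
    Ass S U' F ∧ (P.IsFinite → Module.FinitePresentation (Rg O U') (Ms F U')) := by
  obtain ⟨s, v, hp⟩ := exists_isPres h hc P
  obtain ⟨hA, hs, hk⟩ := hp.ass (S := S) hB
  refine ⟨hA, fun hfin => ?_⟩
  have : Finite P.generators.I := hfin.isFiniteType_generators.finite
  have : Finite P.relations.I := hfin.isFiniteType_relations.finite
  refine Module.finitePresentation_of_surjective (Finsupp.linearCombination (Rg O U') s) ?_ ?_
  · rw [← LinearMap.range_eq_top, Finsupp.range_linearCombination, hs]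
  · rw [hk]
    exact Submodule.fg_span (Set.finite_range v)

theorem Ass.exists_presentation (hB : IsTBase O S U) (hF : Ass S U F) :
    ∃ P : ((ModSite.restr O U).obj F).Presentation,
      Module.FinitePresentation (Rg O U) (Ms F U) → P.IsFinite := by
  by_cases hfp : Module.FinitePresentation (Rg O U) (Ms F U)
  · obtain ⟨n, s, hs⟩ := Submodule.fg_iff_exists_fin_generating_family.1
      (Module.Finite.fg_top : (⊤ : Submodule (Rg O U) (Ms F U)).FG)
    let s' : ULift.{u} (Fin n) → Ms F U := fun i => s i.down
    have hs' : Submodule.span (Rg O U) (Set.range s') = ⊤ := by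
      rw [show Set.range s' = Set.range s from Equiv.ulift.surjective.range_comp s, hs]
    obtain ⟨m, v, hv⟩ := Submodule.fg_iff_exists_fin_generating_family.1
      (Module.FinitePresentation.fg_ker (Finsupp.linearCombination (Rg O U) s')
        (by rw [← LinearMap.range_eq_top, Finsupp.range_linearCombination, hs']))
    let v' : ULift.{u} (Fin m) → ULift.{u} (Fin n) →₀ Rg O U := fun j => v j.down
    have hv' : Submodule.span (Rg O U) (Set.range v') = Submodule.span (Rg O U) (Set.range v) := by
      rw [show Set.range v' = Set.range v from Equiv.ulift.surjective.range_comp v]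
    obtain ⟨P, hP⟩ := FormalSch78.exists_presentation (hF.isPres hB hs' (hv.symm.trans hv'.symm))
    exact ⟨P, fun _ => hP inferInstance inferInstance⟩
  · have hs : Submodule.span (Rg O U) (Set.range (id : Ms F U → Ms F U)) = ⊤ := by
      rw [Set.range_id, Submodule.span_univ]
    let K := LinearMap.ker (Finsupp.linearCombination (Rg O U) (id : Ms F U → Ms F U))
    obtain ⟨P, -⟩ := FormalSch78.exists_presentation (hF.isPres hB hs
      (v := fun k : K => (k : Ms F U →₀ Rg O U))
      (by rw [Subtype.range_coe_subtype]; exact (Submodule.span_eq K).symm))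
    exact ⟨P, fun h => absurd h hfp⟩

theorem isQuasicoherent_of_forall
    (h : ∀ x : X, ∃ U : Opens X, x ∈ U ∧ Nonempty ((ModSite.restr O U).obj F).Presentation) :
    SheafOfModules.IsQuasicoherent.{u} F := by
  choose U hU hP using h
  exact (show SheafOfModules.QuasicoherentData.{u} (R := ModSite.ringSh O) F from
    { I := X
      X := U
      coversTop := (Opens.coversTop_iff _ U).2 (top_le_iff.1 fun x _ => Opens.mem_iSup.2 ⟨x, hU x⟩)
      presentation := fun x => (hP x).some }).isQuasicoherent

theorem isFinitePresentation_of_forall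
    (h : ∀ x : X, ∃ U : Opens X, x ∈ U ∧
      ∃ P : ((ModSite.restr O U).obj F).Presentation, P.IsFinite) :
    SheafOfModules.IsFinitePresentation.{u} F := by
  choose U hU P hP using h
  let q : SheafOfModules.QuasicoherentData.{u} (R := ModSite.ringSh O) F :=
    { I := X
      X := U
      coversTop := (Opens.coversTop_iff _ U).2 (top_le_iff.1 fun x _ => Opens.mem_iSup.2 ⟨x, hU x⟩)
      presentation := P }
  exact SheafOfModules.IsFinitePresentation.mk.{u, u, u} ⟨q,
    SheafOfModules.QuasicoherentData.IsFinitePresentation.mk.{u, u, u, u} fun i => hP i⟩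

theorem isQuasicoherent_of_ass
    (h : ∀ x : X, ∃ U : Opens X, x ∈ U ∧ IsTBase O S U ∧ Ass S U F) :
    SheafOfModules.IsQuasicoherent.{u} F :=
  isQuasicoherent_of_forall fun x => by
    obtain ⟨U, hx, hB, hF⟩ := h x
    exact ⟨U, hx, ⟨(hF.exists_presentation hB).choose⟩⟩

theorem isFinitePresentation_of_ass
    (h : ∀ x : X, ∃ U : Opens X, x ∈ U ∧ IsTBase O S U ∧ Ass S U F ∧
      Module.FinitePresentation (Rg O U) (Ms F U)) :
    SheafOfModules.IsFinitePresentation.{u} F :=
  isFinitePresentation_of_forall fun x => by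
    obtain ⟨U, hx, hB, hF, hfp⟩ := h x
    obtain ⟨P, hP⟩ := hF.exists_presentation hB
    exact ⟨U, hx, P, hP hfp⟩

theorem exists_ass_of_isQuasicoherent [SheafOfModules.IsQuasicoherent.{u} F] (x : X) :
    ∃ W : Opens X, x ∈ W ∧ ∀ U', U' ≤ W → IsCompact (U' : Set X) → IsTBase O S U' → Ass S U' F := by
  obtain ⟨q⟩ := SheafOfModules.IsQuasicoherent.nonempty_quasicoherentData (M := F)
  obtain ⟨i, hi⟩ := Opens.mem_iSup.1
    (((Opens.coversTop_iff _ q.X).1 q.coversTop).symm.le (Set.mem_univ x))
  exact ⟨q.X i, hi, fun U' h hc hB => (ass_of_presentation hB h hc (q.presentation i)).1⟩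

theorem exists_ass_of_isFinitePresentation [SheafOfModules.IsFinitePresentation.{u} F] (x : X) :
    ∃ W : Opens X, x ∈ W ∧ ∀ U', U' ≤ W → IsCompact (U' : Set X) → IsTBase O S U' →
      Ass S U' F ∧ Module.FinitePresentation (Rg O U') (Ms F U') := by
  obtain ⟨q, hq⟩ := SheafOfModules.IsFinitePresentation.exists_quasicoherentData F
  obtain ⟨i, hi⟩ := Opens.mem_iSup.1
    (((Opens.coversTop_iff _ q.X).1 q.coversTop).symm.le (Set.mem_univ x))
  exact ⟨q.X i, hi, fun U' h hc hB =>
    ⟨(ass_of_presentation hB h hc (q.presentation i)).1,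
      (ass_of_presentation hB h hc (q.presentation i)).2 (hq.isFinite_presentation i)⟩⟩

theorem Ass.of_iso {G : ModSite.Mod O} (e : F ≅ G) (hF : Ass S U F) : Ass S U G := by
  intro W hW hWU
  have hinv : ∀ V, Function.LeftInverse (app e.inv V) (app e.hom V) := fun V x => by
    rw [← app_comp, e.hom_inv_id, app_id]
  have hhom : ∀ V, Function.RightInverse (app e.inv V) (app e.hom V) := fun V x => by
    rw [← app_comp, e.inv_hom_id, app_id]
  let eU : Ms F U ≃ₗ[Rg O U] Ms G U :=
    { app e.hom U with invFun := app e.inv U, left_inv := hinv U, right_inv := hhom U }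
  have hcomp : (θ (U := U) (F := G) LinearMap.id W) ∘ (eU.lTensor (Rg O (W ⊓ U))) =
      app e.hom (W ⊓ U) ∘ θ (U := U) (F := F) LinearMap.id W :=
    funext fun y => (app_θ_id e.hom W y).symm
  refine (Function.Bijective.of_comp_iff _ (eU.lTensor (Rg O (W ⊓ U))).bijective).1 ?_
  rw [hcomp]
  exact Function.Bijective.comp
    (show Function.Bijective (app e.hom (W ⊓ U)) from ⟨(hinv _).injective, (hhom _).surjective⟩)
    (hF hW hWU)

end Groth.Agent.FormalSch78
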