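import Groth.Agent.FormalSch78.AssOps
import Groth.Agent.FormalSch78.Loc
import Groth.Agent.FormalSch78.Crit
import Mathlib.CategoryTheory.Limits.Constructions.Filtered
import Mathlib.CategoryTheory.Abelian.Basic

/-!
# Coproducts and colimits of modules given by tensor products on a chart
-/

universe u

open CategoryTheory CategoryTheory.Limits Opposite TopologicalSpace TensorProduct

namespace Groth.Agent.FormalSch78

variable {X : TopCat.{u}} {O : Sheaf (Opens.grothendieckTopology X) CommRingCat.{u}}
  {S : QCoh.Ab.CoverSystem X} {U : Opens X}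

attribute [local instance] Abelian.hasFiniteBiproducts

theorem app_add' {F G : ModSite.Mod O} (φ ψ : F ⟶ G) (V : Opens X) : app (φ + ψ) V = app φ V + app ψ V :=
  LinearMap.ext fun _ => rfl

/-- `app` as an additive map. -/
noncomputable def appHom (F G : ModSite.Mod O) (V : Opens X) : (F ⟶ G) →+ (Ms F V →ₗ[Rg O V] Ms G V) :=
  AddMonoidHom.mk' (fun φ => app φ V) fun φ ψ => app_add' φ ψ V

theorem app_sum {F G : ModSite.Mod O} {ι : Type*} (s : Finset ι) (φ : ι → (F ⟶ G)) (V : Opens X) :
    app (∑ i ∈ s, φ i) V = ∑ i ∈ s, app (φ i) V :=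
  map_sum (appHom F G V) φ s

/-- Finite direct sums. -/
theorem Ass.biproduct {ι : Type} [Finite ι] (f : ι → ModSite.Mod O) (h : ∀ i, Ass S U (f i)) :
    Ass S U (⨁ f) := by
  intro W hW hWU
  have := Fintype.ofFinite ι
  have hid : ∀ V, (LinearMap.id : Ms (⨁ f) V →ₗ[Rg O V] Ms (⨁ f) V) =
      ∑ i, app (biproduct.ι f i) V ∘ₗ app (biproduct.π f i) V := fun V => by
    refine Eq.trans (LinearMap.ext fun x => ?_) ((congrArg (fun φ => app φ V) biproduct.total).symm.trans (app_sum _ _ _))
    rfl
  refine ⟨(injective_iff_map_eq_zero _).2 fun y hy => ?_, fun x => ?_⟩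
  · have h0 : ∀ i, (app (biproduct.π f i) U).lTensor (Rg O (W ⊓ U)) y = 0 := fun i => (h i hW hWU).1 (by
      rw [← app_θ_id, hy, map_zero, map_zero])
    have e := congrArg (fun u => LinearMap.lTensor (Rg O (W ⊓ U)) u y) (hid U)
    simp only [LinearMap.lTensor_id, LinearMap.id_apply, ← LinearMap.coe_lTensorHom, map_sum,
      LinearMap.sum_apply] at e
    rw [e]
    refine Finset.sum_eq_zero fun i _ => ?_
    rw [LinearMap.coe_lTensorHom, LinearMap.lTensor_comp, LinearMap.comp_apply, h0, map_zero]
  · choose z hz using fun i => (h i hW hWU).2 (app (biproduct.π f i) (W ⊓ U) x)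
    refine ⟨∑ i, (app (biproduct.ι f i) U).lTensor (Rg O (W ⊓ U)) (z i), ?_⟩
    have e := LinearMap.congr_fun (hid (W ⊓ U)) x
    simp only [LinearMap.id_apply, LinearMap.sum_apply, LinearMap.comp_apply] at e
    rw [map_sum, e]
    exact Finset.sum_congr rfl fun i _ => by rw [← app_θ_id, hz]

/-- Finite coproducts. -/
theorem Ass.finite_sigma {ι : Type u} [Finite ι] (f : ι → ModSite.Mod O) (h : ∀ i, Ass S U (f i)) :
    Ass S U (∐ f) := by
  obtain ⟨n, ⟨e⟩⟩ := Finite.exists_equiv_fin ι
  exact (Ass.biproduct (fun k => f (e.symm k)) fun k => h _).of_iso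
    ((biproduct.isoCoproduct _) ≪≫ Sigma.reindex e.symm f)

/-- Coproducts. -/
theorem Ass.sigma (hB : IsTBase O S U) {ι : Type u} (f : ι → ModSite.Mod O) (h : ∀ i, Ass S U (f i)) :
    Ass S U (∐ f) := by
  classical
  let cc := CoproductsFromFiniteFiltered.liftToFinsetColimitCocone (Discrete.functor f)
  let e : cc.cocone.pt ≅ ∐ f := cc.isColimit.coconePointUniqueUpToIso (colimit.isColimit (Discrete.functor f))
  exact (Ass.of_isColimit hB
    (colimit.isColimit (CoproductsFromFiniteFiltered.liftToFinsetObj (Discrete.functor f)))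
    fun s => Ass.finite_sigma _ fun i => h i.1.as).of_iso e

theorem Ass.cokernel (hB : IsTBase O S U) {F G : ModSite.Mod O} (φ : F ⟶ G) (hF : Ass S U F) (hG : Ass S U G) :
    Ass S U (cokernel φ) :=
  Ass.of_exact_epi hB (ShortComplex.exact_cokernel φ) hF hG

section Colimit

variable {K : Type u} [SmallCategory K] (D : K ⥤ ModSite.Mod O)

/-- The arrows of the diagram. -/
abbrev Arr : Type u := Σ p : K × K, (p.1 ⟶ p.2)

/-- The relations of a colimit. -/
noncomputable def colimRel : (∐ fun a : Arr (K := K) => D.obj a.1.1) ⟶ ∐ D.obj :=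
  Sigma.desc fun a => D.map a.2 ≫ Sigma.ι D.obj a.1.2 - Sigma.ι D.obj a.1.1

/-- A colimit is a cokernel of a map between coproducts. -/
noncomputable def colimIsoCokernel {c : Cocone D} (hc : IsColimit c) : c.pt ≅ cokernel (colimRel D) :=
  let d : Cocone D :=
    { pt := cokernel (colimRel D)
      ι :=
        { app := fun j => Sigma.ι D.obj j ≫ cokernel.π _
          naturality := fun i j a => by
            have h := congrArg (Sigma.ι (fun a : Arr (K := K) => D.obj a.1.1) ⟨(i, j), a⟩ ≫ ·)
              (cokernel.condition (colimRel D))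
            rw [colimRel] at h
            simp only [Sigma.ι_desc_assoc, Preadditive.sub_comp, comp_zero, sub_eq_zero, Category.assoc] at h
            simpa [colimRel] using h } }
  hc.coconePointUniqueUpToIso (s := c) (t := d)
    { desc := fun s => cokernel.desc _ (Sigma.desc fun j => s.ι.app j) (Sigma.hom_ext _ _ fun a => by
        simp [colimRel, Preadditive.sub_comp])
      fac := fun s j => by simp [d]
      uniq := fun s m hm => coequalizer.hom_ext (Sigma.hom_ext _ _ fun j => by
        simpa [d] using hm j) }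

/-- Colimits of any shape. -/
theorem Ass.colimit (hB : IsTBase O S U) {c : Cocone D} (hc : IsColimit c) (h : ∀ j, Ass S U (D.obj j)) :
    Ass S U c.pt :=
  (Ass.cokernel hB (colimRel D) (Ass.sigma hB _ fun a => h a.1.1) (Ass.sigma hB _ h)).of_iso
    (colimIsoCokernel D hc).symm

end Colimit

end Groth.Agent.FormalSch78
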