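import Groth.Agent.FormalSch78.Sec
import Groth.Agent.QCoh.Ab.Cartan
import Mathlib.LinearAlgebra.TensorProduct.RightExactness
import Mathlib.RingTheory.Flat.Basic

/-!
# Charts on which modules are given by tensor products with their sections
-/

universe u

open CategoryTheory CategoryTheory.Limits Opposite TopologicalSpace TensorProduct
open Groth.Agent.ModTensor

namespace Groth.Agent.FormalSch78

variable {X : TopCat.{u}} {O : Sheaf (Opens.grothendieckTopology X) CommRingCat.{u}}

noncomputable instance algInf (W U : Opens X) : Algebra (Rg O U) (Rg O (W ⊓ U)) :=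
  (rO O (inf_le_right : W ⊓ U ≤ U)).toAlgebra

theorem algInf_apply (W U : Opens X) (r : Rg O U) :
    algebraMap (Rg O U) (Rg O (W ⊓ U)) r = rO O (inf_le_right : W ⊓ U ≤ U) r := rfl

variable (O) in
/-- Restriction of functions inside a chart. -/
noncomputable def resAlg (U : Opens X) {W W' : Opens X} (h : W' ≤ W) :
    Rg O (W ⊓ U) →ₐ[Rg O U] Rg O (W' ⊓ U) :=
  { rO O (inf_le_inf_right U h) with
    commutes' := fun r => rO_rO _ _ r }

theorem resAlg_apply (U : Opens X) {W W' : Opens X} (h : W' ≤ W) (a : Rg O (W ⊓ U)) :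
    resAlg O U h a = rO O (inf_le_inf_right U h) a := rfl

variable {U : Opens X}

section Tensor

variable {C C' : Type u} [AddCommGroup C] [Module (Rg O U) C] [AddCommGroup C'] [Module (Rg O U) C']

variable (O U C) in
/-- The sections over `W` of the tensor product presheaf. -/
abbrev T (W : Opens X) : Type u := Rg O (W ⊓ U) ⊗[Rg O U] C

/-- Restriction in the tensor product presheaf. -/
noncomputable def tres {W W' : Opens X} (h : W' ≤ W) : T O U C W →ₗ[Rg O U] T O U C W' :=
  (resAlg O U h).toLinearMap.rTensor C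

theorem tres_tmul {W W' : Opens X} (h : W' ≤ W) (a : Rg O (W ⊓ U)) (c : C) :
    tres h (a ⊗ₜ[Rg O U] c) = rO O (inf_le_inf_right U h) a ⊗ₜ[Rg O U] c := rfl

theorem tres_tres {W W' W'' : Opens X} (h : W' ≤ W) (h' : W'' ≤ W') (y : T O U C W) :
    tres h' (tres h y) = tres (h'.trans h) y := by
  induction y using TensorProduct.induction_on with
  | zero => simp
  | tmul a c => rw [tres_tmul, tres_tmul, tres_tmul, rO_rO]
  | add y y' hy hy' => simp only [map_add, hy, hy']

theorem tres_self {W : Opens X} (h : W ≤ W) (y : T O U C W) : tres h y = y := by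
  induction y using TensorProduct.induction_on with
  | zero => simp
  | tmul a c => rw [tres_tmul, rO_self]
  | add y y' hy hy' => simp only [map_add, hy, hy']

theorem tres_lTensor {W W' : Opens X} (h : W' ≤ W) (u : C →ₗ[Rg O U] C') (y : T O U C W) :
    tres h (u.lTensor (Rg O (W ⊓ U)) y) = u.lTensor (Rg O (W' ⊓ U)) (tres h y) := by
  induction y using TensorProduct.induction_on with
  | zero => simp
  | tmul a c => rfl
  | add y y' hy hy' => simp only [map_add, hy, hy']

theorem tres_smul {W W' : Opens X} (h : W' ≤ W) (a : Rg O (W ⊓ U)) (y : T O U C W) :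
    tres h (a • y) = rO O (inf_le_inf_right U h) a • tres h y := by
  induction y using TensorProduct.induction_on with
  | zero => simp
  | tmul b c => simp only [TensorProduct.smul_tmul', tres_tmul, smul_eq_mul, map_mul]
  | add y y' hy hy' => simp only [smul_add, map_add, hy, hy']

variable (O U C) in
/-- The tensor product presheaf. -/
noncomputable def tPre : TopCat.Presheaf AddCommGrpCat.{u} X where
  obj W := AddCommGrpCat.of (T O U C W.unop)
  map f := AddCommGrpCat.ofHom (tres (leOfHom f.unop)).toAddMonoidHom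
  map_id W := AddCommGrpCat.hom_ext (AddMonoidHom.ext fun y => tres_self _ y)
  map_comp f g := AddCommGrpCat.hom_ext (AddMonoidHom.ext fun y => (tres_tres _ _ y).symm)

/-- `c ↦ 1 ⊗ c`. -/
theorem bijective_one_tmul :
    Function.Bijective (fun c : C => ((1 : Rg O (U ⊓ U)) ⊗ₜ[Rg O U] c : T O U C U)) := by
  refine ⟨fun c c' h => ?_, fun y => ?_⟩
  · let back : T O U C U →+ C := TensorProduct.liftAddHom (R := Rg O U)
      (AddMonoidHom.mk' (fun a : Rg O (U ⊓ U) => AddMonoidHom.mk'
          (fun c : C => rO O (le_inf le_rfl le_rfl : U ≤ U ⊓ U) a • c) fun c c' => smul_add _ c c')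
        fun a b => by ext c; simp [add_smul])
      fun r a c => by
        show rO O (le_inf le_rfl le_rfl : U ≤ U ⊓ U) (r • a) • c =
          rO O (le_inf le_rfl le_rfl : U ≤ U ⊓ U) a • (r • c)
        rw [Algebra.smul_def, map_mul, algInf_apply, rO_rO, rO_self, mul_smul, smul_comm]
    have e := congrArg back h
    simp only [back, TensorProduct.liftAddHom_tmul, AddMonoidHom.mk'_apply, map_one,
      one_smul] at e
    exact e
  · induction y using TensorProduct.induction_on with
    | zero => exact ⟨0, TensorProduct.tmul_zero _ _⟩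
    | tmul a c =>
      refine ⟨rO O (le_inf le_rfl le_rfl : U ≤ U ⊓ U) a • c, ?_⟩
      show (1 : Rg O (U ⊓ U)) ⊗ₜ[Rg O U] (_ • c) = a ⊗ₜ[Rg O U] c
      rw [TensorProduct.tmul_smul, TensorProduct.smul_tmul']
      congr 1
      rw [Algebra.smul_def, mul_one, algInf_apply, rO_rO, rO_self]
    | add y y' hy hy' =>
      obtain ⟨c, hc⟩ := hy
      obtain ⟨c', hc'⟩ := hy'
      exact ⟨c + c', by rw [← hc, ← hc']; exact TensorProduct.tmul_add _ _ _⟩

variable {F G : ModSite.Mod O}

/-- The comparison map from the tensor product presheaf attached to `t : C → F(U)`. -/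
noncomputable def θ (t : C →ₗ[Rg O U] Ms F U) (W : Opens X) : T O U C W →+ Ms F (W ⊓ U) :=
  TensorProduct.liftAddHom (R := Rg O U)
    (AddMonoidHom.mk' (fun a : Rg O (W ⊓ U) => AddMonoidHom.mk'
        (fun c : C => a • rM F (inf_le_right : W ⊓ U ≤ U) (t c))
        fun c c' => by rw [map_add t, map_add, smul_add])
      fun a b => by ext c; simp [add_smul])
    fun r a c => by
      show (r • a) • rM F (inf_le_right : W ⊓ U ≤ U) (t c) =
        a • rM F (inf_le_right : W ⊓ U ≤ U) (t (r • c))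
      rw [map_smul, rM_smul, Algebra.smul_def, algInf_apply, mul_smul, smul_comm]

theorem θ_tmul (t : C →ₗ[Rg O U] Ms F U) (W : Opens X) (a : Rg O (W ⊓ U)) (c : C) :
    θ t W (a ⊗ₜ[Rg O U] c) = a • rM F (inf_le_right : W ⊓ U ≤ U) (t c) :=
  TensorProduct.liftAddHom_tmul _ _ _ _

theorem θ_smul (t : C →ₗ[Rg O U] Ms F U) (W : Opens X) (a : Rg O (W ⊓ U)) (y : T O U C W) :
    θ t W (a • y) = a • θ t W y := by
  induction y using TensorProduct.induction_on with
  | zero => simp
  | tmul b c => simp only [TensorProduct.smul_tmul', θ_tmul, smul_eq_mul, mul_smul]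
  | add y y' hy hy' => simp only [smul_add, map_add, hy, hy']

theorem rM_θ (t : C →ₗ[Rg O U] Ms F U) {W W' : Opens X} (h : W' ≤ W) (y : T O U C W) :
    rM F (inf_le_inf_right U h) (θ t W y) = θ t W' (tres h y) := by
  induction y using TensorProduct.induction_on with
  | zero => simp
  | tmul a c => rw [tres_tmul, θ_tmul, θ_tmul, rM_smul, rM_rM]
  | add y y' hy hy' => simp only [map_add, hy, hy']

theorem θ_lTensor (t : C' →ₗ[Rg O U] Ms F U) (u : C →ₗ[Rg O U] C') (W : Opens X) (y : T O U C W) :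
    θ t W (u.lTensor (Rg O (W ⊓ U)) y) = θ (t ∘ₗ u) W y := by
  induction y using TensorProduct.induction_on with
  | zero => simp
  | tmul a c => rw [LinearMap.lTensor_tmul, θ_tmul, θ_tmul]; rfl
  | add y y' hy hy' => simp only [map_add, hy, hy']

theorem app_θ (φ : F ⟶ G) (t : C →ₗ[Rg O U] Ms F U) (W : Opens X) (y : T O U C W) :
    app φ (W ⊓ U) (θ t W y) = θ (app φ U ∘ₗ t) W y := by
  induction y using TensorProduct.induction_on with
  | zero => simp
  | tmul a c => rw [θ_tmul, θ_tmul, map_smul, app_rM]; rfl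
  | add y y' hy hy' => simp only [map_add, hy, hy']

end Tensor

variable (O) in
/-- `U` is a chart on which tensor products with modules are sheaves without higher cohomology. -/
structure IsTBase (S : QCoh.Ab.CoverSystem X) (U : Opens X) : Prop where
  good : S.Good U
  basis : ∀ {V : Opens X}, V ≤ U → ∀ p ∈ V, ∃ W, S.Good W ∧ p ∈ W ∧ W ≤ V
  sep : ∀ (C : Type u) [AddCommGroup C] [Module (Rg O U) C] {V : Opens X} {ι : Type u}
    {Us : ι → Opens X}, S.Good V → V ≤ U → ∀ hc : S.Cov V Us, ∀ y : T O U C V,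
    (∀ i, tres (S.le hc i) y = 0) → y = 0
  glue : ∀ (C : Type u) [AddCommGroup C] [Module (Rg O U) C] {V : Opens X} {ι : Type u}
    {Us : ι → Opens X}, S.Good V → V ≤ U → ∀ hc : S.Cov V Us, ∀ y : ∀ i, T O U C (Us i),
    (∀ i j, tres (inf_le_left : Us i ⊓ Us j ≤ Us i) (y i) = tres inf_le_right (y j)) →
    ∃ z : T O U C V, ∀ i, tres (S.le hc i) z = y i
  acyclic : ∀ (C : Type u) [AddCommGroup C] [Module (Rg O U) C] {V : Opens X} {ι : Type u}
    {Us : ι → Opens X}, S.Good V → V ≤ U → S.Cov V Us → QCoh.Ab.Acyclic (tPre O U C) Us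

variable {S : QCoh.Ab.CoverSystem X}

theorem good_of_cov {V : Opens X} {ι : Type u} {Us : ι → Opens X} (hc : S.Cov V Us) (i : ι) :
    S.Good (Us i) := by
  have := S.inter hc (p := 0) fun _ => i
  rwa [iInf_const] at this

theorem good_inf_of_cov {V : Opens X} {ι : Type u} {Us : ι → Opens X} (hc : S.Cov V Us) (i j : ι) :
    S.Good (Us i ⊓ Us j) := by
  have := S.inter hc (p := 1) ![i, j]
  have e : (⨅ a : Fin (1 + 1), Us (![i, j] a)) = Us i ⊓ Us j :=
    le_antisymm (le_inf (iInf_le_of_le 0 le_rfl) (iInf_le_of_le 1 le_rfl))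
      (le_iInf (Fin.forall_fin_two.2 ⟨inf_le_left, inf_le_right⟩))
  rwa [e] at this

variable {C : Type u} [AddCommGroup C] [Module (Rg O U) C] {F : ModSite.Mod O}

/-- Locally every section comes from the tensor product. -/
def LocSurj (t : C →ₗ[Rg O U] Ms F U) : Prop :=
  ∀ ⦃V : Opens X⦄ (hV : V ≤ U) (x : Ms F V), ∀ p ∈ V, ∃ (W : Opens X) (h : W ≤ V), p ∈ W ∧
    ∃ y : T O U C W, θ t W y = rM F (inf_le_left.trans h) x

/-- What is killed by the comparison map is locally zero. -/
def LocInj (t : C →ₗ[Rg O U] Ms F U) : Prop :=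
  ∀ ⦃W : Opens X⦄, W ≤ U → ∀ y : T O U C W, θ t W y = 0 → ∀ p ∈ W,
    ∃ (W' : Opens X) (h : W' ≤ W), p ∈ W' ∧ tres h y = 0

theorem IsTBase.θ_injective (hB : IsTBase O S U) {t : C →ₗ[Rg O U] Ms F U} (hi : LocInj t)
    {V : Opens X} (hV : S.Good V) (hVU : V ≤ U) : Function.Injective (θ t V) := by
  refine (injective_iff_map_eq_zero _).2 fun y hy => ?_
  choose W hW hpW hyW using hi hVU y hy
  obtain ⟨ι, Us, hc, hUs⟩ := S.exists_refinement hV (fun x => W x.1 x.2) fun x => hpW x.1 x.2
  refine hB.sep C hV hVU hc y fun i => ?_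
  obtain ⟨x, hx⟩ := hUs i
  rw [← tres_tres (hW x.1 x.2) hx, hyW, map_zero]

theorem IsTBase.θ_bijective (hB : IsTBase O S U) {t : C →ₗ[Rg O U] Ms F U} (hs : LocSurj t)
    (hi : LocInj t) {V : Opens X} (hV : S.Good V) (hVU : V ≤ U) : Function.Bijective (θ t V) := by
  refine ⟨hB.θ_injective hi hV hVU, fun x => ?_⟩
  choose W hW hpW y hy using hs (inf_le_right : V ⊓ U ≤ U) x
  have hmem : ∀ p : V, p.1 ∈ V ⊓ U := fun p => ⟨p.2, hVU p.2⟩
  obtain ⟨ι, Us, hc, hUs⟩ := S.exists_refinement hV
    (fun p => W p.1 (hmem p)) fun p => hpW p.1 (hmem p)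
  choose P hP using hUs
  obtain ⟨z, hz⟩ : ∃ z : ∀ i, T O U C (Us i),
      ∀ i, θ t (Us i) (z i) = rM F (inf_le_inf_right U (S.le hc i)) x := by
    have : ∀ i, ∃ z : T O U C (Us i), θ t (Us i) z = rM F (inf_le_inf_right U (S.le hc i)) x := by
      intro i
      refine ⟨tres (hP i) (y (P i).1 (hmem (P i))), ?_⟩
      rw [← rM_θ, hy, rM_rM]
    choose z hz using this
    exact ⟨z, hz⟩
  obtain ⟨Z, hZ⟩ := hB.glue C hV hVU hc z fun i j =>
    hB.θ_injective hi (good_inf_of_cov hc i j) ((inf_le_left.trans (S.le hc i)).trans hVU)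
      (by rw [← rM_θ, ← rM_θ, hz i, hz j, rM_rM, rM_rM])
  refine ⟨Z, eq_of_cover F (fun i => Us i ⊓ U) (fun i => inf_le_inf_right U (S.le hc i))
    (fun p hp => ?_) fun i => ?_⟩
  · obtain ⟨i, hi'⟩ := Opens.mem_iSup.1 (S.covers hc hp.1)
    exact Opens.mem_iSup.2 ⟨i, hi', hp.2⟩
  · rw [rM_θ t (S.le hc i), hZ, hz]

theorem IsTBase.bijective_of_locIso (hB : IsTBase O S U) {t : C →ₗ[Rg O U] Ms F U} (hs : LocSurj t)
    (hi : LocInj t) : Function.Bijective t := by
  have h := (hB.θ_bijective hs hi hB.good le_rfl).comp bijective_one_tmul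
  have e : (fun c : C => θ t U ((1 : Rg O (U ⊓ U)) ⊗ₜ[Rg O U] c)) =
      rM F (inf_le_right : U ⊓ U ≤ U) ∘ t := funext fun c => by
    simp [θ_tmul]
  rw [show θ t U ∘ (fun c : C => ((1 : Rg O (U ⊓ U)) ⊗ₜ[Rg O U] c : T O U C U)) =
    rM F (inf_le_right : U ⊓ U ≤ U) ∘ t from e] at h
  refine ⟨Function.Injective.of_comp h.1, fun x => ?_⟩
  obtain ⟨c, hc⟩ := h.2 (rM F inf_le_right x)
  exact ⟨c, rM_injective F _ (le_inf le_rfl le_rfl) hc⟩

/-- The module is given on the chart by tensor products with its sections. -/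
def Ass (S : QCoh.Ab.CoverSystem X) (U : Opens X) (F : ModSite.Mod O) : Prop :=
  ∀ ⦃W : Opens X⦄, S.Good W → W ≤ U → Function.Bijective (θ (U := U) (F := F) LinearMap.id W)

theorem IsTBase.ass_of_locIso (hB : IsTBase O S U) {t : C →ₗ[Rg O U] Ms F U} (hs : LocSurj t)
    (hi : LocInj t) : Ass S U F := by
  intro W hW hWU
  have h := hB.θ_bijective hs hi hW hWU
  let e := LinearEquiv.ofBijective t (hB.bijective_of_locIso hs hi)
  have he : θ t W = fun y => θ LinearMap.id W (t.lTensor (Rg O (W ⊓ U)) y) :=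
    funext fun y => by rw [θ_lTensor]; rfl
  have hbij : Function.Bijective (t.lTensor (Rg O (W ⊓ U))) :=
    (LinearEquiv.lTensor (Rg O (W ⊓ U)) e).bijective
  rw [he] at h
  exact (Function.Bijective.of_comp_iff _ hbij).1 h

theorem Ass.locSurj (hB : IsTBase O S U) (hF : Ass S U F) :
    LocSurj (U := U) (F := F) LinearMap.id := fun V hV x p hp => by
  obtain ⟨W, hW, hpW, hWV⟩ := hB.basis hV p hp
  exact ⟨W, hWV, hpW, (hF hW (hWV.trans hV)).2 _⟩

theorem Ass.locInj (hB : IsTBase O S U) (hF : Ass S U F) :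
    LocInj (U := U) (F := F) LinearMap.id := fun W hWU y hy p hp => by
  obtain ⟨W', hW', hpW', hle⟩ := hB.basis hWU p hp
  refine ⟨W', hle, hpW', (hF hW' (hle.trans hWU)).1 ?_⟩
  rw [← rM_θ, hy, map_zero, map_zero]

end Groth.Agent.FormalSch78
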