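import Groth.Agent.FormalSch78.PullLevels
import Groth.Agent.QCoh.FT
import Groth.Agent.QCoh.ClosedPush
import Groth.Agent.Adic7.Basic

/-!
# Coherent modules are modules of coherent systems
-/

universe u

open CategoryTheory CategoryTheory.Limits AlgebraicGeometry Opposite

namespace Groth.Agent.FormalSch78

variable {𝔛 : FSch.Sys.{u}} (hF : 𝔛.IsFormal) (hA : 𝔛.IsAdic) (hN : ∀ n, IsLocallyNoetherian (𝔛.X n))
  (𝔉 : FSch.ModF 𝔛 hF)

/-- `W` is a chart of `𝔉`. -/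
def IsChart (W : (𝔛.X 0).Opens) : Prop :=
  IsAffineOpen W ∧ Ass (QCoh.stdCovers (𝔛.X 0)) W 𝔉 ∧ Module.FinitePresentation (Rg (𝔛.Osh hF) W) (Ms 𝔉 W)

include hA hN in
theorem exists_isChart (h𝔉 : FSch.IsCohF 𝔛 hF 𝔉) (x : 𝔛.X 0) {V : (𝔛.X 0).Opens} (hxV : x ∈ V) :
    ∃ W : (𝔛.X 0).Opens, IsChart hF 𝔉 W ∧ x ∈ W ∧ W ≤ V ∧
      ∀ W' : (𝔛.X 0).Opens, IsAffineOpen W' → W' ≤ W → IsChart hF 𝔉 W' := by
  obtain ⟨W, hW, hx, hWV, h⟩ := exists_chart_of_isCohF hF hA hN 𝔉 h𝔉 x hxV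
  exact ⟨W, ⟨hW, h W hW le_rfl⟩, hx, hWV, fun W' hW' h' => ⟨hW', h W' hW' h'⟩⟩

section

variable {W : (𝔛.X 0).Opens} (hc : IsChart hF 𝔉 W) (n : ℕ)

include hA hN hc

/-- On a chart, the level is the quotient by a power of the ideal of definition. -/
theorem unitM_spec :
    Function.Surjective (unitM hF 𝔉 n W) ∧
      LinearMap.ker (unitM hF 𝔉 n W) = formalIdeal hF W ^ (n + 1) • (⊤ : Submodule (Rg (𝔛.Osh hF) W) (Ms 𝔉 W)) := by
  obtain ⟨hW, hass, -⟩ := hc
  let A := Rg (𝔛.Osh hF) W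
  let R := lv hF n W
  let N := Γ((pullLv hF 𝔉).F n, 𝔛.lvU hF n W)
  let : Algebra A R := (πlv hF n W).toAlgebra
  let : Module A N := Module.compHom _ (algebraMap A R)
  have : IsScalarTower A R N := ⟨fun a b x => by rw [Algebra.smul_def, mul_smul]; rfl⟩
  let l : Ms 𝔉 W →ₗ[A] N :=
    { toFun := fun c => lM hF (pullLv hF 𝔉) n W (unitM hF 𝔉 n W c)
      map_add' := fun c c' => by rw [map_add, map_add]
      map_smul' := fun a c => by rw [map_smul, lM_smul]; rfl }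
  let : Algebra A (Rg (𝔛.X n).sheaf ((TopologicalSpace.Opens.map (𝔛.gInv hF n)).obj W)) :=
    (inferInstance : Algebra A R)
  let : Module A (Ms (O := (𝔛.X n).sheaf) ((FSch.levelMor 𝔛 hF n).pull.obj 𝔉) ((TopologicalSpace.Opens.map (𝔛.gInv hF n)).obj W)) :=
    (inferInstance : Module A N)
  have : IsScalarTower A (Rg (𝔛.X n).sheaf ((TopologicalSpace.Opens.map (𝔛.gInv hF n)).obj W))
      (Ms (O := (𝔛.X n).sheaf) ((FSch.levelMor 𝔛 hF n).pull.obj 𝔉) ((TopologicalSpace.Opens.map (𝔛.gInv hF n)).obj W)) :=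
    (inferInstance : IsScalarTower A R N)
  have hbc : IsBaseChange R l :=
    (isBC_unit hF hA hN 𝔉 hW hass n hW le_rfl).isBaseChange (g := 𝔛.gInv hF n) (sharp := 𝔛.OshProj hF n)
      (O' := (𝔛.X n).sheaf) (fun r => (rO_self _ _).symm) (l := l) fun c => (rM_self _ _ _).symm
  obtain ⟨h1, h2⟩ := QCoh.baseChange_surjection (A := A) (surjective_πlv hF hW n) hbc
  obtain ⟨-, -, -, hker, -⟩ := formalIdeal_spec hF hA hW hN
  refine ⟨fun y => ?_, ?_⟩
  · obtain ⟨c, hc⟩ := h1 (lM hF (pullLv hF 𝔉) n W y)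
    exact ⟨c, (lM_bijective hF _ n W).1 hc⟩
  · rw [← hker n]
    refine Eq.trans ?_ h2
    ext c
    exact (map_eq_zero_iff _ (lM_bijective hF (pullLv hF 𝔉) n W).1).symm

/-- The sections of a level on a chart are finite. -/
theorem finite_level : Module.Finite (lv hF n W) Γ((pullLv hF 𝔉).F n, 𝔛.lvU hF n W) := by
  have := hc.2.2
  let σ := πlv hF n W
  have hl : Function.Surjective fun c => lM hF (pullLv hF 𝔉) n W (unitM hF 𝔉 n W c) :=
    (lM_bijective hF _ n W).2.comp (unitM_spec hF hA hN 𝔉 hc n).1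
  obtain ⟨m, s, hs⟩ := Submodule.fg_iff_exists_fin_generating_family.1
    (Module.Finite.fg_top : (⊤ : Submodule (Rg (𝔛.Osh hF) W) (Ms 𝔉 W)).FG)
  refine ⟨Submodule.fg_iff_exists_fin_generating_family.2
    ⟨m, fun i => lM hF (pullLv hF 𝔉) n W (unitM hF 𝔉 n W (s i)), eq_top_iff.2 fun y hy => ?_⟩⟩
  clear hy
  obtain ⟨c, rfl⟩ := hl y
  have hc : c ∈ Submodule.span (Rg (𝔛.Osh hF) W) (Set.range s) := hs ▸ Submodule.mem_top
  induction hc using Submodule.span_induction with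
  | mem z hz =>
    obtain ⟨i, rfl⟩ := hz
    exact Submodule.subset_span ⟨i, rfl⟩
  | zero => simp only [map_zero]; exact Submodule.zero_mem _
  | add z z' _ _ hz hz' => simp only [map_add]; exact Submodule.add_mem _ hz hz'
  | smul a z _ hz => simp only [map_smul, lM_smul]; exact Submodule.smul_mem _ _ hz

/-- The module is the limit of its levels on a chart. -/
theorem bijective_toLevels : Function.Bijective (app (toLevels hF 𝔉) W) := by
  obtain ⟨-, -, hcompl, -, hNoeth⟩ := formalIdeal_spec hF hA hc.1 hN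
  have := hc.2.2
  let I := formalIdeal hF W
  have hC : IsAdicComplete I (Ms 𝔉 W) := Adic7.isAdicComplete_of_finite I _
  refine ⟨(injective_iff_map_eq_zero _).2 fun c h0 => IsHausdorff.haus hC.toIsHausdorff c fun m => ?_, fun z => ?_⟩
  · rw [SModEq.zero]
    rcases m with _ | m
    · simp
    rw [← (unitM_spec hF hA hN 𝔉 hc m).2, LinearMap.mem_ker, ← πM_toLevels, h0, map_zero]
  · choose x hx using fun m => (unitM_spec hF hA hN 𝔉 hc m).1 (πM hF (pullLv hF 𝔉) m W z)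
    have htr : ∀ m c, trM hF (pullLv hF 𝔉) m W (unitM hF 𝔉 (m + 1) W c) = unitM hF 𝔉 m W c := fun m c => by
      rw [← πM_toLevels, ← πM_toLevels, trM_πM]
    have hstep : ∀ m, x (m + 1) - x m ∈ I ^ (m + 1) • (⊤ : Submodule (Rg (𝔛.Osh hF) W) (Ms 𝔉 W)) := fun m => by
      rw [← (unitM_spec hF hA hN 𝔉 hc m).2, LinearMap.mem_ker, map_sub, ← htr, hx, trM_πM, hx, sub_self]
    have hle : ∀ {a b : ℕ}, a ≤ b → x a ≡ x b [SMOD I ^ (a + 1) • (⊤ : Submodule (Rg (𝔛.Osh hF) W) (Ms 𝔉 W))] := by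
      intro a b hab
      induction b, hab using Nat.le_induction with
      | base => exact SModEq.rfl
      | succ b hab ih =>
        refine ih.trans (SModEq.sub_mem.2 ?_).symm
        exact Submodule.smul_mono_left (Ideal.pow_le_pow_right (by omega)) (hstep b)
    obtain ⟨L, hL⟩ := hC.toIsPrecomplete.prec (f := x) (fun {a b} hab =>
      (hle hab).mono (Submodule.smul_mono_left (Ideal.pow_le_pow_right (by omega))))
    refine ⟨L, πM_ext hF _ fun m => ?_⟩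
    rw [πM_toLevels, ← hx m, eq_comm, ← sub_eq_zero, ← map_sub, ← LinearMap.mem_ker,
      (unitM_spec hF hA hN 𝔉 hc m).2, ← SModEq.sub_mem]
    exact ((hle (Nat.le_succ m)).trans (hL (m + 1)))

end

include hA hN

variable (h𝔉 : FSch.IsCohF 𝔛 hF 𝔉)

include h𝔉

/-- The levels of a coherent module are coherent. -/
theorem isCoh_pullLv : (pullLv hF 𝔉).IsCoh := fun n => by
  choose W hW hx _ _ using fun x : 𝔛.X 0 => exists_isChart hF hA hN 𝔉 h𝔉 x (V := ⊤) trivial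
  let U : 𝔛.X 0 → (𝔛.X n).Opens := fun x => 𝔛.lvU hF n (W x)
  have hU : TopologicalSpace.IsOpenCover U :=
    top_le_iff.1 fun q _ => TopologicalSpace.Opens.mem_iSup.2 ⟨(𝔛.gInv hF n).hom q, hx _⟩
  have hUa : ∀ x, IsAffineOpen (U x) := fun x => isAffineOpen_lvU hF (hW x).1 n
  have hQ : Coh.IsQCoh ((pullLv hF 𝔉).F n) := QCoh.isQCoh_of_isOpenCover U hU fun x => by
    refine (QCoh.isQCoh_restrict_iff_of_iso (hUa x).isoSpec.inv).1 ?_
    exact (QCoh.isQCoh_iff_iso (QCoh.restrictRestrict _ (hUa x).isoSpec.inv (U x).ι)).2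
      (isQCoh_restrict_pull hF hA hN 𝔉 (hW x).1 (hW x).2.1 n)
  exact ⟨hQ, QCoh.isFT_of_finite hQ U hU hUa fun x => finite_level hF hA hN 𝔉 (hW x) n⟩

/-- A coherent module is the limit of its levels. -/
theorem isIso_toLevels : IsIso (toLevels hF 𝔉) := by
  have : Mono (toLevels hF 𝔉) := mono_of_nhds _ fun V x hx p hp => by
    obtain ⟨W, hW, hpW, hWV, -⟩ := exists_isChart hF hA hN 𝔉 h𝔉 p hp
    refine ⟨W, hWV, hpW, (bijective_toLevels hF hA hN 𝔉 hW).1 ?_⟩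
    rw [app_rM, hx, map_zero, map_zero]
  have : Epi (toLevels hF 𝔉) := epi_of_nhds _ fun V x p hp => by
    obtain ⟨W, hW, hpW, hWV, -⟩ := exists_isChart hF hA hN 𝔉 h𝔉 p hp
    exact ⟨W, hWV, hpW, (bijective_toLevels hF hA hN 𝔉 hW).2 _⟩
  exact isIso_of_mono_of_epi _

end Groth.Agent.FormalSch78
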