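import Groth.Agent.FormalSch78.CohLevels
import Groth.Agent.FormalSch78.Crit

/-!
# Kernels, epimorphisms and perturbations for coherent modules
-/

universe u

open CategoryTheory CategoryTheory.Limits AlgebraicGeometry Opposite TensorProduct

namespace Groth.Agent.FormalSch78

/-- The structure sheaf is given by tensor products on any chart. -/
theorem ass_unit {X : TopCat.{u}} {O : Sheaf (Opens.grothendieckTopology X) CommRingCat.{u}}
    {S : QCoh.Ab.CoverSystem X} (U : TopologicalSpace.Opens X) : Ass S U (ModSite.unit O) := fun W _ _ => by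
  have e : θ (U := U) (F := ModSite.unit O) LinearMap.id W =
      (TensorProduct.rid (Rg O U) (Rg O (W ⊓ U))).toAddEquiv.toAddMonoidHom := AddMonoidHom.ext fun y => by
    induction y using TensorProduct.induction_on with
    | zero => exact (map_zero _).trans (map_zero _).symm
    | tmul a c =>
      rw [θ_tmul]
      refine Eq.trans ?_ (TensorProduct.rid_tmul a (show Rg O U from c)).symm
      exact (mul_comm a (rO O inf_le_right (show Rg O U from c))).trans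
        (Algebra.smul_def (show Rg O U from c) a).symm
    | add y y' hy hy' => exact (map_add _ y y').trans ((congrArg₂ (· + ·) hy hy').trans (map_add _ y y').symm)
  rw [e]
  exact (TensorProduct.rid (Rg O U) (Rg O (W ⊓ U))).bijective

/-- A submodule cut out by an ideal of the chart is given by tensor products. -/
theorem ass_of_ideal_smul {X : TopCat.{u}} {O : Sheaf (Opens.grothendieckTopology X) CommRingCat.{u}}
    {S : QCoh.Ab.CoverSystem X} {U : TopologicalSpace.Opens X} (hfl : IsFlatBase O S U) {K F : ModSite.Mod O}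
    (ι : K ⟶ F) [Mono ι] (hF : Ass S U F) (J : Ideal (Rg O U))
    (hU : ∀ a ∈ J, ∀ c : Ms F U, a • c ∈ LinearMap.range (app ι U))
    (hW : ∀ W, S.Good W → W ≤ U → ∀ z, app ι (W ⊓ U) z ∈
      J.map (algebraMap (Rg O U) (Rg O (W ⊓ U))) • (⊤ : Submodule (Rg O (W ⊓ U)) (Ms F (W ⊓ U)))) :
    Ass S U K := by
  intro W hg hWU
  have := hfl hg hWU
  have hinj : ∀ V, Function.Injective (app ι V) := fun V => ModPull.app_injective ι (op V)
  let B := Rg O (W ⊓ U)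
  have hinj' : Function.Injective ((app ι U).lTensor B) :=
    Module.Flat.lTensor_preserves_injective_linearMap _ (hinj U)
  refine ⟨fun y y' e => hinj' ((hF hg hWU).1 ?_), fun z => ?_⟩
  · rw [← app_θ_id, ← app_θ_id, e]
  have key : ∀ r ∈ J.map (algebraMap (Rg O U) B), ∀ w : T O U (Ms F U) W,
      r • w ∈ LinearMap.range ((app ι U).baseChange B) := by
    intro r hr w
    induction hr using Submodule.span_induction with
    | mem r hr =>
      obtain ⟨a, ha, rfl⟩ := hr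
      induction w using TensorProduct.induction_on with
      | zero => rw [smul_zero]; exact Submodule.zero_mem _
      | add q q' hq hq' => rw [smul_add]; exact Submodule.add_mem _ hq hq'
      | tmul b c =>
        obtain ⟨k, hk⟩ := hU a ha c
        refine ⟨b ⊗ₜ k, ?_⟩
        rw [LinearMap.baseChange_tmul, hk, algebraMap_smul, TensorProduct.tmul_smul]
    | zero => rw [zero_smul]; exact Submodule.zero_mem _
    | add r r' _ _ hr hr' => rw [add_smul]; exact Submodule.add_mem _ hr hr'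
    | smul r r' _ hr => rw [smul_eq_mul, mul_smul]; exact Submodule.smul_mem _ _ hr
  let f : T O U (Ms F U) W →ₗ[B] Ms F (W ⊓ U) :=
    { toFun := θ LinearMap.id W
      map_add' := map_add _
      map_smul' := fun b y => θ_smul LinearMap.id W b y }
  have hle : J.map (algebraMap (Rg O U) B) • (⊤ : Submodule B (Ms F (W ⊓ U))) ≤
      LinearMap.range (f ∘ₗ (app ι U).baseChange B) := Submodule.smul_le.2 fun r hr w _ => by
    obtain ⟨q, rfl⟩ := (hF hg hWU).2 w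
    obtain ⟨y, hy⟩ := key r hr q
    exact ⟨y, (congrArg f hy).trans (map_smul f r q)⟩
  obtain ⟨y, hy⟩ := hle (hW W hg hWU z)
  exact ⟨y, hinj _ ((app_θ_id ι W y).trans hy)⟩

theorem mem_range_kernel {X : TopCat.{u}} {O : Sheaf (Opens.grothendieckTopology X) CommRingCat.{u}}
    {F G : ModSite.Mod O} (φ : F ⟶ G) {W : TopologicalSpace.Opens X} (x : Ms F W) (hx : app φ W x = 0) :
    x ∈ LinearMap.range (app (kernel.ι φ) W) :=
  exists_app_eq_of_mono (ShortComplex.exact_kernel φ) x hx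

variable {𝔛 : FSch.Sys.{u}} (hF : 𝔛.IsFormal) (hA : 𝔛.IsAdic) (hN : ∀ n, IsLocallyNoetherian (𝔛.X n))
  {𝔉 𝔊 : FSch.ModF 𝔛 hF} (h𝔉 : FSch.IsCohF 𝔛 hF 𝔉) (h𝔊 : FSch.IsCohF 𝔛 hF 𝔊)

include hA hN

theorem isCohF_unitF : FSch.IsCohF 𝔛 hF (FSch.unitF 𝔛 hF) :=
  isFinitePresentation_of_ass (S := QCoh.stdCovers (𝔛.X 0)) fun x => by
    obtain ⟨U, hU, hxU, -⟩ := exists_isAffineOpen_mem_and_subset (x := x) (U := (⊤ : (𝔛.X 0).Opens)) trivial
    refine ⟨U, hxU, isTBase_formal hF hA hN hU, ass_unit U, ?_⟩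
    exact (inferInstance : Module.FinitePresentation (Rg (𝔛.Osh hF) U) (Rg (𝔛.Osh hF) U))

omit hA hN

theorem exists_isChart₂ (hA : 𝔛.IsAdic) (hN : ∀ n, IsLocallyNoetherian (𝔛.X n))
    (h𝔉 : FSch.IsCohF 𝔛 hF 𝔉) (h𝔊 : FSch.IsCohF 𝔛 hF 𝔊) (x : 𝔛.X 0) {V : (𝔛.X 0).Opens} (hxV : x ∈ V) :
    ∃ W : (𝔛.X 0).Opens, IsAffineOpen W ∧ x ∈ W ∧ W ≤ V ∧
      ∀ W' : (𝔛.X 0).Opens, IsAffineOpen W' → W' ≤ W → IsChart hF 𝔉 W' ∧ IsChart hF 𝔊 W' := by
  obtain ⟨W₁, -, hx₁, hW₁, h₁⟩ := exists_isChart hF hA hN 𝔉 h𝔉 x hxV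
  obtain ⟨W₂, hW₂, hx₂, hle, h₂⟩ := exists_isChart hF hA hN 𝔊 h𝔊 x hx₁
  exact ⟨W₂, hW₂.1, hx₂, hle.trans hW₁, fun W' hW' h => ⟨h₁ W' hW' (h.trans hle), h₂ W' hW' h⟩⟩

theorem unitM_app (θ : 𝔉 ⟶ 𝔊) (n : ℕ) (W : (𝔛.X 0).Opens) (c : Ms 𝔉 W) :
    app ((FSch.levelMor 𝔛 hF n).push.map ((FSch.levelMor 𝔛 hF n).pull.map θ)) W (unitM hF 𝔉 n W c) =
      unitM hF 𝔊 n W (app θ W c) :=
  (congrArg (fun φ => app φ W c) ((FSch.levelMor 𝔛 hF n).adj.unit.naturality θ)).symm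

theorem unit_eq_zero_of_succ (ψ : 𝔉 ⟶ 𝔊) (n : ℕ)
    (h : ψ ≫ (FSch.levelMor 𝔛 hF (n + 1)).adj.unit.app 𝔊 = 0) :
    ψ ≫ (FSch.levelMor 𝔛 hF n).adj.unit.app 𝔊 = 0 := by
  refine (congrArg (ψ ≫ ·) (unit_trans hF 𝔊 n)).symm.trans ?_
  refine (Category.assoc _ _ _).symm.trans ((congrArg (· ≫ _) h).trans ?_)
  exact zero_comp

theorem unit_eq_zero_zero (ψ : 𝔉 ⟶ 𝔊) : ∀ n, ψ ≫ (FSch.levelMor 𝔛 hF n).adj.unit.app 𝔊 = 0 →
    ψ ≫ (FSch.levelMor 𝔛 hF 0).adj.unit.app 𝔊 = 0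
  | 0, h => h
  | n + 1, h => unit_eq_zero_zero ψ n (unit_eq_zero_of_succ hF ψ n h)

include hA hN

/-- The range of a map killed by the unit lies in a power of the ideal of definition. -/
theorem app_mem_pow (ψ : 𝔉 ⟶ 𝔊) {n : ℕ} (h : ψ ≫ (FSch.levelMor 𝔛 hF n).adj.unit.app 𝔊 = 0)
    {W : (𝔛.X 0).Opens} (hW : IsChart hF 𝔊 W) (c : Ms 𝔉 W) :
    app ψ W c ∈ formalIdeal hF W ^ (n + 1) • (⊤ : Submodule (Rg (𝔛.Osh hF) W) (Ms 𝔊 W)) := by
  rw [← (unitM_spec hF hA hN 𝔊 hW n).2, LinearMap.mem_ker]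
  exact congrArg (fun φ => app φ W c) h

include h𝔉 h𝔊

/-- An epimorphism on the smallest level gives surjectivity on charts. -/
theorem surjective_app_of_epi_zero (θ : 𝔉 ⟶ 𝔊) [Epi ((FSch.levelMor 𝔛 hF 0).pull.map θ)]
    {W : (𝔛.X 0).Opens} (hW' : IsChart hF 𝔉 W) (hW : IsChart hF 𝔊 W) :
    Function.Surjective (app θ W) := by
  let θ₀ : Quiver.Hom (V := (𝔛.X 0).Modules) ((pullLv hF 𝔉).F 0) ((pullLv hF 𝔊).F 0) :=
    (FSch.levelMor 𝔛 hF 0).pull.map θ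
  have : Epi θ₀ := (inferInstance : Epi ((FSch.levelMor 𝔛 hF 0).pull.map θ))
  have hsurj := QCoh.app_surjective_of_epi (isCoh_pullLv hF hA hN 𝔉 h𝔉 0).1
    (isCoh_pullLv hF hA hN 𝔊 h𝔊 0).1 θ₀ (isAffineOpen_lvU hF hW.1 0)
  obtain ⟨-, -, hc, -, -⟩ := formalIdeal_spec hF hA hW.1 hN
  have := hW.2.2
  have hle : (⊤ : Submodule (Rg (𝔛.Osh hF) W) (Ms 𝔊 W)) ≤
      LinearMap.range (app θ W) ⊔ formalIdeal hF W • ⊤ := by
    intro d _
    obtain ⟨z, hz⟩ := hsurj (lM hF (pullLv hF 𝔊) 0 W (unitM hF 𝔊 0 W d))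
    obtain ⟨p, rfl⟩ := (lM_bijective hF (pullLv hF 𝔉) 0 W).2 z
    obtain ⟨c, rfl⟩ := (unitM_spec hF hA hN 𝔉 hW' 0).1 p
    have hch : unitM hF 𝔊 0 W (app θ W c) = unitM hF 𝔊 0 W d :=
      (unitM_app hF θ 0 W c).symm.trans ((lM_bijective hF (pullLv hF 𝔊) 0 W).1 hz)
    refine Submodule.mem_sup.2 ⟨app θ W c, ⟨c, rfl⟩, d - app θ W c, ?_, add_sub_cancel _ _⟩
    rw [← pow_one (formalIdeal hF W), ← (unitM_spec hF hA hN 𝔊 hW 0).2, LinearMap.mem_ker, map_sub, hch, sub_self]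
  intro y
  exact Submodule.le_of_le_smul_of_le_jacobson_bot Module.Finite.fg_top
    (IsAdicComplete.le_jacobson_bot (formalIdeal hF W)) hle (Submodule.mem_top (x := y))

theorem epi_iff_epi_pull_zero (θ : 𝔉 ⟶ 𝔊) :
    Epi θ ↔ Epi ((FSch.levelMor 𝔛 hF 0).pull.map θ) := by
  refine ⟨fun h => ?_, fun h => epi_of_nhds θ fun V x p hp => ?_⟩
  · have := (FSch.levelMor 𝔛 hF 0).adj.isLeftAdjoint
    exact inferInstance
  · obtain ⟨W, hW, hpW, hWV, hch⟩ := exists_isChart₂ hF hA hN h𝔉 h𝔊 p hp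
    obtain ⟨h1, h2⟩ := hch W hW le_rfl
    exact ⟨W, hWV, hpW, surjective_app_of_epi_zero hF hA hN h𝔉 h𝔊 θ h1 h2 _⟩

omit h𝔉 h𝔊

/-- Injectivity on a chart passes to the affine opens below it. -/
theorem injective_app_of_le (φ : 𝔉 ⟶ 𝔊) {U W : (𝔛.X 0).Opens} (hU₁ : IsChart hF 𝔉 U) (hU₂ : IsChart hF 𝔊 U)
    (hφ : Function.Injective (app φ U)) (hW : IsAffineOpen W) (hWU : W ≤ U) :
    Function.Injective (app φ W) := by
  have := isFlatBase_formal hF hA hN hU₁.1 hW hWU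
  have h1 : Function.Injective (app φ (W ⊓ U)) := by
    intro a b h
    obtain ⟨y, rfl⟩ := (hU₁.2.1 hW hWU).2 a
    obtain ⟨y', rfl⟩ := (hU₁.2.1 hW hWU).2 b
    rw [app_θ_id, app_θ_id] at h
    exact congrArg _ (Module.Flat.lTensor_preserves_injective_linearMap _ hφ ((hU₂.2.1 hW hWU).1 h))
  intro a b h
  refine rM_injective 𝔉 (inf_le_left : W ⊓ U ≤ W) (le_inf le_rfl hWU) (h1 ?_)
  rw [app_rM, app_rM, h]

theorem mono_of_injective_charts (φ : 𝔉 ⟶ 𝔊)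
    (h : ∀ x : 𝔛.X 0, ∃ U : (𝔛.X 0).Opens, x ∈ U ∧ IsChart hF 𝔉 U ∧ IsChart hF 𝔊 U ∧
      Function.Injective (app φ U)) : Mono φ :=
  mono_of_nhds φ fun V x hx p hp => by
    obtain ⟨U, hpU, h1, h2, hinj⟩ := h p
    obtain ⟨W, hW, hpW, hle⟩ := exists_isAffineOpen_mem_and_subset (x := p) (U := (V ⊓ U : (𝔛.X 0).Opens)) ⟨hp, hpU⟩
    refine ⟨W, fun y hy => (hle hy).1, hpW,
      injective_app_of_le hF hA hN φ h1 h2 hinj hW (fun y hy => (hle hy).2) ?_⟩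
    rw [app_rM, hx, map_zero, map_zero]

include h𝔉 h𝔊

theorem exists_level_mono_epi_add [CompactSpace (𝔛.X 0)] (θ : 𝔉 ⟶ 𝔊) :
    ∃ n : ℕ, ∀ ψ : 𝔉 ⟶ 𝔊, ψ ≫ (FSch.levelMor 𝔛 hF n).adj.unit.app 𝔊 = 0 →
      (Mono θ → Mono (θ + ψ)) ∧ (Epi θ → Epi (θ + ψ)) := by
  choose W hW hx _ hch using fun x : 𝔛.X 0 => exists_isChart₂ hF hA hN h𝔉 h𝔊 x (V := ⊤) trivial
  obtain ⟨s, hs⟩ := isCompact_univ.elim_finite_subcover (fun x => (W x : Set (𝔛.X 0)))
    (fun x => (W x).isOpen) fun x _ => Set.mem_iUnion.2 ⟨x, hx x⟩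
  have hlev : ∀ x, ∃ m : ℕ, Mono θ → ∀ w : Ms 𝔉 (W x) →ₗ[Rg (𝔛.Osh hF) (W x)] Ms 𝔊 (W x),
      LinearMap.range w ≤ formalIdeal hF (W x) ^ m • ⊤ → Function.Injective (app θ (W x) + w) := by
    intro x
    by_cases hθ : Mono θ
    · obtain ⟨-, -, hc, -, hn⟩ := formalIdeal_spec hF hA (hW x) hN
      have := ((hch x (W x) (hW x) le_rfl).1).2.2
      have := ((hch x (W x) (hW x) le_rfl).2).2.2
      obtain ⟨k, hk⟩ := Adic7.exists_injective_add (formalIdeal hF (W x)) (app θ (W x))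
        (ModPull.app_injective θ (op (W x)))
      obtain ⟨m, hm⟩ := Adic7.exists_forall_range_le_imp (formalIdeal hF (W x))
        (M := Ms 𝔉 (W x)) (N := Ms 𝔊 (W x)) k
      exact ⟨m, fun _ w hw => hk w (hm w hw)⟩
    · exact ⟨0, fun h => absurd h hθ⟩
  choose m hm using hlev
  refine ⟨s.sup m, fun ψ hψ => ⟨fun hθ => mono_of_injective_charts hF hA hN _ fun x => ?_, fun hθ => ?_⟩⟩
  · obtain ⟨i, hi, hxi⟩ := Set.mem_iUnion₂.1 (hs (Set.mem_univ x))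
    obtain ⟨h1, h2⟩ := hch i (W i) (hW i) le_rfl
    refine ⟨W i, hxi, h1, h2, hm i hθ (app ψ (W i)) ?_⟩
    rintro _ ⟨c, rfl⟩
    exact Submodule.smul_mono_left (Ideal.pow_le_pow_right ((Finset.le_sup hi).trans (Nat.le_succ _)))
      (app_mem_pow hF hA hN ψ hψ h2 c)
  · refine (epi_iff_epi_pull_zero hF hA hN h𝔉 h𝔊 _).2 ?_
    have he := (epi_iff_epi_pull_zero hF hA hN h𝔉 h𝔊 θ).1 hθ
    have h0 : (FSch.levelMor 𝔛 hF 0).pull.map (θ + ψ) = (FSch.levelMor 𝔛 hF 0).pull.map θ := by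
      refine ((FSch.levelMor 𝔛 hF 0).adj.homEquiv _ _).injective ?_
      refine Eq.trans ?_ (Eq.trans (Preadditive.add_comp _ _ _ θ ψ ((FSch.levelMor 𝔛 hF 0).adj.unit.app 𝔊))
        ((congrArg (θ ≫ _ + ·) (unit_eq_zero_zero hF ψ _ hψ)).trans (add_zero _))) |>.trans ?_
      · exact ((FSch.levelMor 𝔛 hF 0).adj.homEquiv_unit _ _ _).trans
          ((FSch.levelMor 𝔛 hF 0).adj.unit.naturality (θ + ψ)).symm
      · exact ((FSch.levelMor 𝔛 hF 0).adj.unit.naturality θ).trans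
          ((FSch.levelMor 𝔛 hF 0).adj.homEquiv_unit _ _ _).symm
    rw [h0]
    exact he

omit h𝔉 h𝔊

/-- Submodules cut out by powers of the ideal of definition are coherent. -/
theorem isCohF_kernel_of_pow {ℌ : FSch.ModF 𝔛 hF} (η : 𝔉 ⟶ ℌ) (n : ℕ) (h𝔉 : FSch.IsCohF 𝔛 hF 𝔉)
    (hη : ∀ W, IsChart hF 𝔉 W → LinearMap.ker (app η W) =
      formalIdeal hF W ^ (n + 1) • (⊤ : Submodule (Rg (𝔛.Osh hF) W) (Ms 𝔉 W))) :
    FSch.IsCohF 𝔛 hF (kernel η) :=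
  isFinitePresentation_of_ass (S := QCoh.stdCovers (𝔛.X 0)) fun x => by
    obtain ⟨U, hU, hxU, -, hch⟩ := exists_isChart hF hA hN 𝔉 h𝔉 x (V := ⊤) trivial
    let ι : kernel η ⟶ 𝔉 := kernel.ι η
    have hinj : ∀ V, Function.Injective (app ι V) := fun V => ModPull.app_injective ι (op V)
    have hz : ∀ V (y : Ms (kernel η) V), app η V (app ι V y) = 0 := fun V y => by
      rw [← app_comp, kernel.condition]; rfl
    obtain ⟨-, -, -, -, hn⟩ := formalIdeal_spec hF hA hU.1 hN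
    have := hU.2.2
    have : _root_.IsNoetherian (Rg (𝔛.Osh hF) U) (Ms 𝔉 U) := isNoetherian_of_isNoetherianRing_of_finite _ _
    have hfin : Module.Finite (Rg (𝔛.Osh hF) U) (Ms (kernel η) U) := Module.Finite.of_injective (app ι U) (hinj U)
    refine ⟨U, hxU, isTBase_formal hF hA hN hU.1, ass_of_ideal_smul (isFlatBase_formal hF hA hN hU.1) ι hU.2.1
      (formalIdeal hF U ^ (n + 1)) (fun a ha c => ?_) (fun V hV hVU z => ?_), Module.finitePresentation_of_finite _ _⟩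
    · refine mem_range_kernel (F := 𝔉) η (a • c) (LinearMap.mem_ker.1 ?_)
      rw [hη U hU]
      exact Submodule.smul_mem_smul ha Submodule.mem_top
    · have hV' : IsAffineOpen (V ⊓ U) := by rwa [inf_eq_left.2 hVU]
      rw [Ideal.map_pow, map_formalIdeal_algInf hF hA hN hU.1 hV',
        ← hη _ (hch _ hV' inf_le_right), LinearMap.mem_ker]
      exact hz _ _

/-- Kernels of maps into a level. -/
theorem isCohF_kernel_unit (n : ℕ) (h𝔉 : FSch.IsCohF 𝔛 hF 𝔉) :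
    FSch.IsCohF 𝔛 hF (kernel ((FSch.levelMor 𝔛 hF n).adj.unit.app 𝔉)) :=
  isCohF_kernel_of_pow hF hA hN (ℌ := (FSch.levelMor 𝔛 hF n).push.obj ((FSch.levelMor 𝔛 hF n).pull.obj 𝔉))
    ((FSch.levelMor 𝔛 hF n).adj.unit.app 𝔉) n h𝔉 fun W hW => (unitM_spec hF hA hN 𝔉 hW n).2

include h𝔉 h𝔊

/-- Kernels of maps of coherent modules are coherent. -/
theorem isCohF_kernel (φ : 𝔉 ⟶ 𝔊) : FSch.IsCohF 𝔛 hF (kernel φ) :=
  isFinitePresentation_of_ass (S := QCoh.stdCovers (𝔛.X 0)) fun x => by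
    obtain ⟨U, hU, hxU, -, hch⟩ := exists_isChart₂ hF hA hN h𝔉 h𝔊 x (V := ⊤) trivial
    obtain ⟨h1, h2⟩ := hch U hU le_rfl
    obtain ⟨-, -, -, -, hn⟩ := formalIdeal_spec hF hA hU hN
    have := h1.2.2
    have : _root_.IsNoetherian (Rg (𝔛.Osh hF) U) (Ms 𝔉 U) := isNoetherian_of_isNoetherianRing_of_finite _ _
    have hfin : Module.Finite (Rg (𝔛.Osh hF) U) (Ms (kernel φ) U) :=
      Module.Finite.of_injective (app (kernel.ι φ) U) (ModPull.app_injective (kernel.ι φ) (op U))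
    exact ⟨U, hxU, isTBase_formal hF hA hN hU, Ass.of_mono_exact (isFlatBase_formal hF hA hN hU)
      (ShortComplex.exact_kernel φ) h1.2.1 h2.2.1, Module.finitePresentation_of_finite _ _⟩

end Groth.Agent.FormalSch78
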