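import Groth.Agent.FormalSch78.RealMod

/-!
# Coherent modules on locally Noetherian formal schemes
-/

universe u

open CategoryTheory CategoryTheory.Limits AlgebraicGeometry Opposite

namespace Groth.Agent.FormalSch78

variable {𝔛 : FSch.Sys.{u}} (hF : 𝔛.IsFormal) (hA : 𝔛.IsAdic)
  (hN : ∀ n, IsLocallyNoetherian (𝔛.X n))

include hA hN

/-- The module of a coherent system is coherent. -/
theorem isCohF_realMod (𝔐 : FSch.ModSys 𝔛) (h𝔐 : 𝔐.IsCoh) : FSch.IsCohF 𝔛 hF (𝔐.realMod hF) :=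
  isFinitePresentation_of_ass (S := QCoh.stdCovers (𝔛.X 0)) fun x => by
    obtain ⟨U, hU, hxU, -⟩ := exists_isAffineOpen_mem_and_subset (x := x) (U := (⊤ : (𝔛.X 0).Opens)) trivial
    obtain ⟨h1, h2⟩ := isCohF_realMod_aux hF 𝔐 hA hN h𝔐 hU hU
    exact ⟨U, hxU, isTBase_formal hF hA hN hU, h1, h2⟩

/-- Coherent modules are given by tensor products on small affine opens. -/
theorem exists_chart_of_isCohF (𝔉 : FSch.ModF 𝔛 hF) (h𝔉 : FSch.IsCohF 𝔛 hF 𝔉) (x : 𝔛.X 0)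
    {V : (𝔛.X 0).Opens} (hxV : x ∈ V) :
    ∃ U : (𝔛.X 0).Opens, IsAffineOpen U ∧ x ∈ U ∧ U ≤ V ∧
      ∀ U' : (𝔛.X 0).Opens, IsAffineOpen U' → U' ≤ U →
        Ass (QCoh.stdCovers (𝔛.X 0)) U' 𝔉 ∧ Module.FinitePresentation (Rg (𝔛.Osh hF) U') (Ms 𝔉 U') := by
  obtain ⟨W, hxW, hW⟩ :=
    exists_ass_of_isFinitePresentation (S := QCoh.stdCovers (𝔛.X 0)) (F := 𝔉) x
  obtain ⟨U, hU, hxU, hUW⟩ :=
    exists_isAffineOpen_mem_and_subset (x := x) (U := (W ⊓ V : (𝔛.X 0).Opens)) ⟨hxW, hxV⟩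
  exact ⟨U, hU, hxU, fun y hy => (hUW hy).2, fun U' hU' h => hW U' (fun y hy => (hUW (h hy)).1)
    hU'.isCompact (isTBase_formal hF hA hN hU')⟩

end Groth.Agent.FormalSch78
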