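import Groth.Agent.FormalSch78.AwayMod
import Groth.Agent.Adic7.Basic
import Mathlib.RingTheory.IsTensorProduct

/-!
# Base change into complete rings through the levels
-/

universe u

open TensorProduct

namespace Groth.Agent.FormalSch78

variable {A B C M : Type u} [CommRing A] [CommRing B] [Algebra A B] [AddCommGroup C] [Module A C]
  [AddCommGroup M] [Module A M] [Module B M] [IsScalarTower A B M] (J : Ideal B) (ρ : C →ₗ[A] M)
  {R N : ℕ → Type u} [∀ n, CommRing (R n)] [∀ n, Algebra A (R n)] [∀ n, AddCommGroup (N n)]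
  [∀ n, Module A (N n)] [∀ n, Module (R n) (N n)] [∀ n, IsScalarTower A (R n) (N n)]

/-- A map of finite modules into a complete ring is a base change if it is one on every level. -/
theorem isBaseChange_of_levels [IsNoetherianRing B] [IsAdicComplete J B] [Module.Finite A C]
    [Module.Finite B M] (π : ∀ n, B →ₐ[A] R n) (hπ : ∀ n, Function.Surjective (π n))
    (hπk : ∀ n, RingHom.ker (π n) = J ^ (n + 1)) (q : ∀ n, M →+ N n)
    (hqsmul : ∀ n b x, q n (b • x) = π n b • q n x)
    (hqk : ∀ n x, q n x = 0 → x ∈ J ^ (n + 1) • (⊤ : Submodule B M))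
    (r : ∀ n, C →ₗ[A] N n) (hr : ∀ n c, r n c = q n (ρ c)) (hbc : ∀ n, IsBaseChange (R n) (r n)) :
    IsBaseChange B ρ := by
  let f : B ⊗[A] C →ₗ[B] M := (TensorProduct.isBaseChange A C B).lift ρ
  have hf : ∀ (b : B) (c : C), f (b ⊗ₜ c) = b • ρ c := fun b c => by
    rw [show (b ⊗ₜ[A] c : B ⊗[A] C) = b • ((1 : B) ⊗ₜ[A] c) by
      rw [TensorProduct.smul_tmul', smul_eq_mul, mul_one], map_smul]
    exact congrArg (b • ·) ((TensorProduct.isBaseChange A C B).lift_eq ρ c)
  have key : ∀ n (y : B ⊗[A] C), q n (f y) = (hbc n).equiv ((π n).toLinearMap.rTensor C y) := by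
    intro n y
    induction y using TensorProduct.induction_on with
    | zero => simp
    | tmul b c => rw [LinearMap.rTensor_tmul, (hbc n).equiv_tmul, hf, hqsmul, hr]; rfl
    | add y y' hy hy' => simp only [map_add, hy, hy']
  have hker : ∀ n (y : B ⊗[A] C), (π n).toLinearMap.rTensor C y = 0 →
      y ∈ J ^ (n + 1) • (⊤ : Submodule B (B ⊗[A] C)) := by
    intro n y hy
    obtain ⟨z, rfl⟩ := (rTensor_exact C (LinearMap.exact_subtype_ker_map (π n).toLinearMap) (hπ n) y).1 hy
    clear hy
    induction z using TensorProduct.induction_on with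
    | zero => simp
    | tmul b c =>
      rw [LinearMap.rTensor_tmul]
      have hb : (b : B) ∈ J ^ (n + 1) := by
        rw [← hπk n]; exact LinearMap.mem_ker.1 b.2
      rw [Submodule.subtype_apply, show ((b : B) ⊗ₜ[A] c : B ⊗[A] C) = (b : B) • ((1 : B) ⊗ₜ[A] c) by
        rw [TensorProduct.smul_tmul', smul_eq_mul, mul_one]]
      exact Submodule.smul_mem_smul hb Submodule.mem_top
    | add z z' hz hz' => rw [map_add]; exact Submodule.add_mem _ hz hz'
  have hcT : IsAdicComplete J (B ⊗[A] C) := Adic7.isAdicComplete_of_finite J _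
  refine IsBaseChange.of_equiv (LinearEquiv.ofBijective f ⟨?_, ?_⟩) fun c => (hf 1 c).trans (one_smul B _)
  · refine (injective_iff_map_eq_zero _).2 fun y hy => ?_
    refine IsHausdorff.haus hcT.toIsHausdorff y fun k => SModEq.zero.2 ?_
    rcases k with _ | k
    · simp
    · exact hker k y ((hbc k).equiv.injective (by rw [← key, hy, map_zero, map_zero]))
  · rw [← LinearMap.range_eq_top, eq_top_iff]
    refine Submodule.le_of_le_smul_of_le_jacobson_bot Module.Finite.fg_top
      (IsAdicComplete.le_jacobson_bot J) fun x _ => ?_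
    obtain ⟨z, hz⟩ := (hbc 0).equiv.surjective (q 0 x)
    obtain ⟨y, rfl⟩ := LinearMap.rTensor_surjective C (g := (π 0).toLinearMap) (hπ 0) z
    have hxy : x - f y ∈ J • (⊤ : Submodule B M) := by
      have := hqk 0 (x - f y) (by rw [map_sub, key, hz, sub_self])
      rwa [zero_add, pow_one] at this
    exact (add_sub_cancel (f y) x) ▸ Submodule.add_mem_sup (LinearMap.mem_range_self f y) hxy

end Groth.Agent.FormalSch78
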