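import Groth.Agent.FormalSch78.IndExt
import Groth.Agent.ModTensor.FreeOn
import Mathlib.CategoryTheory.Adjunction.AdjointFunctorTheorems
import Mathlib.CategoryTheory.Limits.FullSubcategory
import Mathlib.CategoryTheory.Abelian.Subobject

/-!
# The coreflection onto ind-coherent modules
-/

universe u

open CategoryTheory CategoryTheory.Limits AlgebraicGeometry Opposite TopologicalSpace TensorProduct
open Groth.Agent.ModTensor

namespace Groth.Agent.FormalSch78

/-- An epimorphism exhibits its target as the cokernel of a subobject. -/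
theorem exists_cokernel_iso {C : Type (u + 1)} [Category.{u} C] [Abelian C] [WellPowered.{u} C] {G F : C}
    (π : G ⟶ F) [Epi π] :
    ∃ q : Shrink.{u} (Subobject G), Nonempty (cokernel ((equivShrink.{u} (Subobject G)).symm q).arrow ≅ F) := by
  refine ⟨equivShrink.{u} _ (kernelSubobject π), ?_⟩
  rw [Equiv.symm_apply_apply]
  let e₁ : cokernel (kernel.ι π) ≅ F :=
    (colimit.isColimit _).coconePointUniqueUpToIso (Abelian.epiIsCokernelOfKernel _ (limit.isLimit _))
  exact ⟨(cokernel.mapIso _ _ (kernelSubobjectIso π) (Iso.refl _) (by simp)) ≪≫ e₁⟩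

section Generic

variable {X : TopCat.{u}} (O : Sheaf (Opens.grothendieckTopology X) CommRingCat.{u})

/-- Copies of the modules freely generated on opens. -/
noncomputable def genFree (n : Opens X → ℕ) : ModSite.Mod O :=
  ∐ fun a : Σ U : Opens X, Fin (n U) => ModSite.freeOn O a.1

/-- All quotients of the modules freely generated on opens. -/
noncomputable def quotFam (i : Σ n : Opens X → ℕ, Shrink.{u} (Subobject (genFree O n))) : ModSite.Mod O :=
  cokernel ((equivShrink.{u} (Subobject (genFree O i.1))).symm i.2).arrow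

variable {O}

theorem mem_range_of_comp {U : Opens X} {G F : ModSite.Mod O} (π : G ⟶ F) (ι : ModSite.freeOn O U ⟶ G)
    (y : Ms F U) (h : (freeOnCorepr O U).homEquiv (ι ≫ π) = y) : y ∈ LinearMap.range (app π U) :=
  ⟨(freeOnCorepr O U).homEquiv ι, ((freeOnCorepr O U).homEquiv_comp π ι).symm.trans h⟩

theorem mem_range_desc {ι : Type u} {F : ModSite.Mod O} (V : ι → Opens X) (s : ∀ a, Ms F (V a)) (a : ι) :
    s a ∈ LinearMap.range (app (Sigma.desc fun a => (freeOnCorepr O (V a)).homEquiv.symm (s a) :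
      (∐ fun a => ModSite.freeOn O (V a)) ⟶ F) (V a)) := by
  refine mem_range_of_comp _ (Sigma.ι (fun a => ModSite.freeOn O (V a)) a) _ ?_
  rw [Sigma.ι_desc]
  exact Equiv.apply_symm_apply _ _

/-- A map hitting generators on charts is an epimorphism. -/
theorem epi_of_span {S : QCoh.Ab.CoverSystem X} {F G : ModSite.Mod O} (π : G ⟶ F)
    (h : ∀ x : X, ∃ U, x ∈ U ∧ IsTBase O S U ∧ Ass S U F ∧ LinearMap.range (app π U) = ⊤) : Epi π :=
  epi_of_nhds π fun W x p hp => by
    obtain ⟨U, hpU, hB, hass, hr⟩ := h p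
    obtain ⟨V, hV, hpV, hVW⟩ := hB.basis (inf_le_right : W ⊓ U ≤ U) p ⟨hp, hpU⟩
    have key : ∀ y : T O U (Ms F U) V, ∃ z, app π (V ⊓ U) z = θ LinearMap.id V y := fun y => by
      induction y using TensorProduct.induction_on with
      | zero => exact ⟨0, (map_zero _).trans (map_zero _).symm⟩
      | add y y' hy hy' =>
        obtain ⟨z, hz⟩ := hy
        obtain ⟨z', hz'⟩ := hy'
        exact ⟨z + z', (map_add _ z z').trans ((congrArg₂ (· + ·) hz hz').trans (map_add _ y y').symm)⟩
      | tmul a c =>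
        obtain ⟨z, rfl⟩ : c ∈ LinearMap.range (app π U) := hr ▸ Submodule.mem_top
        refine ⟨a • rM G inf_le_right z, ?_⟩
        rw [map_smul, θ_tmul, app_rM]
        rfl
    obtain ⟨y, hy⟩ := (hass hV (hVW.trans inf_le_right)).2 (rM F (inf_le_left.trans (hVW.trans inf_le_left)) x)
    obtain ⟨z, hz⟩ := key y
    exact ⟨V ⊓ U, inf_le_left.trans (hVW.trans inf_le_left), ⟨hpV, hpU⟩, z, hz.trans hy⟩

/-- A module locally given by tensor products with finitely many sections is a quotient. -/
theorem exists_quotFam_iso {S : QCoh.Ab.CoverSystem X} (P : Opens X → Prop) (F : ModSite.Mod O)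
    (hP : ∀ x : X, ∃ U, P U ∧ x ∈ U)
    (h : ∀ U, P U → IsTBase O S U ∧ Ass S U F ∧ Module.Finite (Rg O U) (Ms F U)) :
    ∃ i, Nonempty (quotFam O i ≅ F) := by
  classical
  have hgen : ∀ U, ∃ (n : ℕ) (s : Fin n → Ms F U), P U → Submodule.span (Rg O U) (Set.range s) = ⊤ := by
    intro U
    by_cases hU : P U
    · obtain ⟨n, s, hs⟩ := (h U hU).2.2.exists_fin
      exact ⟨n, s, fun _ => hs⟩
    · exact ⟨0, Fin.elim0, fun h' => absurd h' hU⟩
  choose n s hs using hgen
  let π : genFree O n ⟶ F := Sigma.desc fun a => (freeOnCorepr O a.1).homEquiv.symm (s a.1 a.2)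
  have : Epi π := epi_of_span (S := S) π fun x => by
    obtain ⟨U, hU, hxU⟩ := hP x
    refine ⟨U, hxU, (h U hU).1, (h U hU).2.1, top_le_iff.1 ((hs U hU).symm.le.trans (Submodule.span_le.2 ?_))⟩
    rintro _ ⟨i, rfl⟩
    exact mem_range_desc (O := O) (F := F) (fun a : Σ U : Opens X, Fin (n U) => a.1) (fun a => s a.1 a.2) ⟨U, i⟩
  obtain ⟨q, hq⟩ := exists_cokernel_iso π
  exact ⟨⟨n, q⟩, hq⟩

end Generic

/-- Well-copoweredness passes to full subcategories with epimorphism-preserving inclusion. -/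
theorem wellPowered_op_of_fullyFaithful {C : Type*} [Category.{u} C] {D : Type*} [Category.{u} D] (F : C ⥤ D)
    [F.Full] [F.Faithful] [F.PreservesEpimorphisms] [WellPowered.{u} Dᵒᵖ] : WellPowered.{u} Cᵒᵖ where
  subobject_small Z := by
    have hmono : ∀ {A : Cᵒᵖ} (f : A ⟶ Z) [Mono f], Mono (F.op.map f) := fun f _ => by
      have : Epi f.unop := inferInstance
      exact inferInstanceAs (Mono (F.map f.unop).op)
    let φ : Subobject Z → Subobject (F.op.obj Z) :=
      Subobject.lift (fun A f _ => haveI := hmono f; Subobject.mk (F.op.map f)) fun A B f g _ _ i w =>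
        haveI := hmono f; haveI := hmono g
        Subobject.mk_eq_mk_of_comm _ _ (F.op.mapIso i) (((F.op.map_comp _ _).symm).trans (congrArg _ w))
    refine small_of_injective (f := φ) fun s t h => ?_
    induction s using Subobject.ind with
    | h f =>
      induction t using Subobject.ind with
      | h g =>
        have := hmono f
        have := hmono g
        change Subobject.mk (F.op.map f) = Subobject.mk (F.op.map g) at h
        refine Subobject.mk_eq_mk_of_comm _ _ (F.op.preimageIso (Subobject.isoOfMkEqMk _ _ h)) ?_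
        refine F.op.map_injective ?_
        rw [Functor.map_comp, Functor.preimageIso_hom, Functor.map_preimage]
        exact Subobject.ofMkLEMk_comp h.le

variable {𝔛 : FSch.Sys.{u}} (hF : 𝔛.IsFormal) (hA : 𝔛.IsAdic) (hN : ∀ n, IsLocallyNoetherian (𝔛.X n))

/-- Ind-coherent modules. -/
abbrev IndP : ObjectProperty (FSch.ModF 𝔛 hF) :=
  ObjectProperty.ind.{u} fun 𝔊 : FSch.ModF 𝔛 hF => FSch.IsCohF 𝔛 hF 𝔊

include hA hN

theorem isClosedUnderColimits_indP (J : Type u) [SmallCategory J] :
    (IndP hF).IsClosedUnderColimitsOfShape J where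
  colimitsOfShape_le := by
    rintro M ⟨c⟩
    refine (indCohF_iff hF hA hN).2 ⟨?_, ?_⟩
    · exact IsAssAll.of_isColimit hF hA hN c.isColimit fun j => ((indCohF_iff hF hA hN).1 (c.prop_diag_obj j)).1
    · exact IsCohCovered.of_isColimit hF hA hN c.isColimit fun j => ((indCohF_iff hF hA hN).1 (c.prop_diag_obj j)).2

/-- The inclusion of ind-coherent modules has a right adjoint. -/
theorem isLeftAdjoint_ι_indP : (IndP hF).ι.IsLeftAdjoint := by
  have hcl := fun (J : Type u) [SmallCategory J] => isClosedUnderColimits_indP hF hA hN J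
  have : HasColimits (IndP hF).FullSubcategory := ⟨fun J _ => by have := hcl J; infer_instance⟩
  have : PreservesColimits (IndP hF).ι :=
    ⟨fun {J} _ => by have := hcl J; exact preservesColimitOfShape_of_createsColimitsOfShape_and_hasColimitsOfShape _⟩
  have : PreservesColimitsOfSize.{0, 0} (IndP hF).ι := preservesColimitsOfSize_shrink _
  have : WellPowered.{u} (FSch.ModF 𝔛 hF)ᵒᵖ := Abelian.wellPowered_opposite
  have hwp : WellPowered.{u} (IndP hF).FullSubcategoryᵒᵖ := wellPowered_op_of_fullyFaithful (IndP hF).ι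
  let fam : {i : (Σ n : Opens (𝔛.X 0) → ℕ, Shrink.{u} (Subobject (genFree (𝔛.Osh hF) n))) //
      IndP hF (quotFam (𝔛.Osh hF) i)} → (IndP hF).FullSubcategory := fun i => ⟨quotFam (𝔛.Osh hF) i.1, i.2⟩
  refine isLeftAdjoint_of_preservesColimits_of_isSeparating (P := ObjectProperty.ofObj fam) ?_ _
  intro M N f g h
  refine (IndP hF).ι.map_injective (hom_ext fun V x => ?_)
  refine eq_of_nhds _ fun p hp => ?_
  obtain ⟨W, hW, hpW, G, hG, ι, y, hy⟩ := ((indCohF_iff hF hA hN).1 M.2).2 V x p hp
  obtain ⟨i, ⟨e⟩⟩ := exists_quotFam_iso (S := QCoh.stdCovers (𝔛.X 0)) (fun U => IsAffineOpen U) G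
    (fun x => by
      obtain ⟨U, hU, hx, -⟩ := exists_isAffineOpen_mem_and_subset (x := x) (U := (⊤ : (𝔛.X 0).Opens)) trivial
      exact ⟨U, hU, hx⟩)
    fun U hU => ⟨isTBase_formal hF hA hN hU, isAssAll_of_isCohF hF hA hN _ hG U hU, finite_of_isCohF hF hA hN hG hU⟩
  have hi : IndP hF (quotFam (𝔛.Osh hF) i) :=
    ObjectProperty.prop_of_iso _ e.symm (ObjectProperty.le_ind _ _ hG)
  have heq := congrArg (IndP hF).ι.map
    (h (fam ⟨i, hi⟩) (ObjectProperty.ofObj_apply fam ⟨i, hi⟩) (ObjectProperty.homMk (e.hom ≫ ι)))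
  refine ⟨W, hW, hpW, ?_⟩
  refine (app_rM _ hW x).symm.trans (Eq.trans ?_ (app_rM _ hW x))
  refine ((congrArg _ hy).symm.trans ?_).trans (congrArg _ hy)
  refine (app_comp ι _ W y).symm.trans (Eq.trans ?_ (app_comp ι _ W y))
  exact congrArg (fun φ => app φ W y) ((cancel_epi e.hom).1 ((Category.assoc _ _ _).symm.trans (heq.trans (Category.assoc _ _ _))))

end Groth.Agent.FormalSch78
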