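import Groth.Agent.FormalSch78.Base
import Mathlib.Algebra.Category.ModuleCat.Presheaf

/-!
# Morphisms out of a module given by tensor products on a chart
-/

universe u

open CategoryTheory CategoryTheory.Limits Opposite TopologicalSpace TensorProduct
open Groth.Agent.ModTensor

namespace Groth.Agent.FormalSch78

variable {X : TopCat.{u}} {O : Sheaf (Opens.grothendieckTopology X) CommRingCat.{u}}
  {S : QCoh.Ab.CoverSystem X} {U : Opens X} {F M : ModSite.Mod O}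

/-- `z` corresponds to `x` on the chart. -/
def Corr (S : QCoh.Ab.CoverSystem X) (ρ : Ms F U →ₗ[Rg O U] Ms M U) {W : Opens X}
    (x : Ms F W) (z : Ms M W) : Prop :=
  ∀ ⦃V : Opens X⦄, S.Good V → V ≤ U → ∀ (h : V ≤ W) (y : T O U (Ms F U) V),
    θ LinearMap.id V y = rM F (inf_le_left.trans h) x → θ ρ V y = rM M (inf_le_left.trans h) z

theorem Corr.res {ρ : Ms F U →ₗ[Rg O U] Ms M U} {W W' : Opens X} (hW : W' ≤ W) {x : Ms F W}
    {z : Ms M W} (hxz : Corr S ρ x z) : Corr S ρ (rM F hW x) (rM M hW z) := by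
  intro V hV hVU h y hy
  rw [rM_rM] at hy ⊢
  exact hxz hV hVU (h.trans hW) y hy

variable (hB : IsTBase O S U) (hF : Ass S U F)
  (hM : ∀ W, Function.Bijective (rM M (inf_le_left : W ⊓ U ≤ W))) (ρ : Ms F U →ₗ[Rg O U] Ms M U)

include hB hF hM

theorem corr_unique {W : Opens X} {x : Ms F W} {z z' : Ms M W} (hz : Corr S ρ x z)
    (hz' : Corr S ρ x z') : z = z' := by
  refine (hM W).1 (eq_of_nhds M fun p hp => ?_)
  obtain ⟨V, hV, hpV, hVle⟩ := hB.basis (inf_le_right : W ⊓ U ≤ U) p hp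
  have h : V ≤ W := hVle.trans inf_le_left
  have hVU : V ≤ U := hVle.trans inf_le_right
  refine ⟨V ⊓ U, inf_le_left.trans hVle, ⟨hpV, hVU hpV⟩, ?_⟩
  obtain ⟨y, hy⟩ := (hF hV hVU).2 (rM F (inf_le_left.trans h) x)
  rw [rM_rM, rM_rM, ← hz hV hVU h y hy, ← hz' hV hVU h y hy]

theorem exists_corr {W : Opens X} (x : Ms F W) : ∃ z : Ms M W, Corr S ρ x z := by
  have hmain : ∀ p : (W ⊓ U : Opens X), ∃ V : Opens X, S.Good V ∧ p.1 ∈ V ∧ V ≤ W ⊓ U := fun p =>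
    hB.basis (inf_le_right : W ⊓ U ≤ U) p.1 p.2
  choose V hV hpV hVle using hmain
  have hVW : ∀ i, V i ≤ W := fun i => (hVle i).trans inf_le_left
  have hVU : ∀ i, V i ≤ U := fun i => (hVle i).trans inf_le_right
  choose y hy using fun i => (hF (hV i) (hVU i)).2 (rM F (inf_le_left.trans (hVW i)) x)
  have hkey : ∀ i {V' : Opens X} (_ : S.Good V') (_ : V' ≤ U) (h' : V' ≤ W) (y' : T O U (Ms F U) V'),
      θ LinearMap.id V' y' = rM F (inf_le_left.trans h') x →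
      ∀ p ∈ V i ⊓ V', ∃ (V'' : Opens X) (h₁ : V'' ≤ V i) (h₂ : V'' ≤ V'), p ∈ V'' ∧
        tres h₁ (y i) = tres h₂ y' := by
    intro i V' hV' hV'U h' y' hy' p hp
    obtain ⟨V'', hV'', hpV'', hle⟩ := hB.basis ((inf_le_right : V i ⊓ V' ≤ V').trans hV'U) p hp
    refine ⟨V'', hle.trans inf_le_left, hle.trans inf_le_right, hpV'', ?_⟩
    refine (hF hV'' ((hle.trans inf_le_right).trans hV'U)).1 ?_
    rw [← rM_θ, ← rM_θ, hy, hy', rM_rM, rM_rM]
  obtain ⟨z₀, hz₀⟩ := exists_glue M (W := W ⊓ U) (fun i => V i ⊓ U) (fun i => inf_le_left.trans (hVle i))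
    (fun p hp => Opens.mem_iSup.2 ⟨⟨p, hp⟩, hpV _, hp.2⟩) (fun i => θ ρ (V i) (y i)) fun i j => by
      refine eq_of_nhds M fun p hp => ?_
      obtain ⟨V'', h₁, h₂, hpV'', he⟩ :=
        hkey i (hV j) (hVU j) (hVW j) (y j) (hy j) p ⟨hp.1.1, hp.2.1⟩
      refine ⟨V'' ⊓ U, le_inf (inf_le_inf_right U h₁) (inf_le_inf_right U h₂), ⟨hpV'', hp.1.2⟩, ?_⟩
      rw [rM_rM, rM_rM, rM_θ ρ h₁, rM_θ ρ h₂, he]
  obtain ⟨z, rfl⟩ := (hM W).2 z₀
  refine ⟨z, fun V' hV' hV'U h' y' hy' => eq_of_nhds M fun p hp => ?_⟩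
  have hpWU : p ∈ W ⊓ U := ⟨h' hp.1, hp.2⟩
  obtain ⟨V'', h₁, h₂, hpV'', he⟩ := hkey ⟨p, hpWU⟩ hV' hV'U h' y' hy' p ⟨hpV _, hp.1⟩
  refine ⟨V'' ⊓ U, inf_le_inf_right U h₂, ⟨hpV'', hp.2⟩, ?_⟩
  rw [rM_θ ρ h₂, ← he, ← rM_θ ρ h₁, ← hz₀, rM_rM, rM_rM, rM_rM]

theorem exists_hom_of_chart : ∃ φ : F ⟶ M, ∀ c, app φ U c = ρ c := by
  choose f hf using fun W x => exists_corr hB hF hM ρ (W := W) x
  have hadd : ∀ W x x', f W (x + x') = f W x + f W x' := by
    intro W x x'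
    refine corr_unique hB hF hM ρ (hf W _) fun V hV hVU h y hy => ?_
    obtain ⟨y₁, hy₁⟩ := (hF hV hVU).2 (rM F (inf_le_left.trans h) x)
    obtain ⟨y₂, hy₂⟩ := (hF hV hVU).2 (rM F (inf_le_left.trans h) x')
    have e : y = y₁ + y₂ := (hF hV hVU).1 (by rw [map_add, hy₁, hy₂, hy, map_add])
    rw [e, map_add, map_add, hf W x hV hVU h y₁ hy₁, hf W x' hV hVU h y₂ hy₂]
  have hsmul : ∀ W (r : Rg O W) x, f W (r • x) = r • f W x := by
    intro W r x
    refine corr_unique hB hF hM ρ (hf W _) fun V hV hVU h y hy => ?_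
    obtain ⟨y₁, hy₁⟩ := (hF hV hVU).2 (rM F (inf_le_left.trans h) x)
    have e : y = rO O (inf_le_left.trans h) r • y₁ :=
      (hF hV hVU).1 (by rw [θ_smul, hy₁, hy, rM_smul])
    rw [e, θ_smul, hf W x hV hVU h y₁ hy₁, rM_smul]
  let α : ((fg O).obj F).presheaf ⟶ ((fg O).obj M).presheaf :=
    { app := fun W => AddCommGrpCat.ofHom (AddMonoidHom.mk' (f W.unop) (hadd W.unop))
      naturality := fun W W' i => by
        refine AddCommGrpCat.hom_ext (AddMonoidHom.ext fun x => ?_)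
        show f W'.unop (rM F (leOfHom i.unop) x) = rM M (leOfHom i.unop) (f W.unop x)
        exact corr_unique hB hF hM ρ (hf _ _) ((hf W.unop x).res _) }
  let φ : F ⟶ M := (SheafOfModules.fullyFaithfulForget (ModSite.ringSh O)).preimage
    (PresheafOfModules.homMk α fun W r x => hsmul W.unop r x)
  have hφ : ∀ W (x : Ms F W), app φ W x = f W x := fun W x => rfl
  refine ⟨φ, fun c => (hφ U c).trans (corr_unique hB hF hM ρ (hf U c) fun V hV hVU h y hy => ?_)⟩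
  have e : y = (1 : Rg O (V ⊓ U)) ⊗ₜ[Rg O U] c := (hF hV hVU).1 (by
    rw [hy, θ_tmul, one_smul]; rfl)
  rw [e, θ_tmul, one_smul]

end Groth.Agent.FormalSch78
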