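import Groth.Agent.FormalSch78.FormalRing
import Groth.Agent.FormalSch78.AdicChart
import Groth.Agent.QCoh.CechStd
import Groth.Agent.LocalCrit.Flatness
import Groth.Agent.Adic7.Basic
import Mathlib.AlgebraicGeometry.Morphisms.Flat
import Mathlib.RingTheory.TensorProduct.Quotient

/-!
# The affine opens of a locally Noetherian formal scheme are adic charts
-/

universe u

open CategoryTheory CategoryTheory.Limits AlgebraicGeometry Opposite TensorProduct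

namespace Groth.Agent.FormalSch78

/-- Flatness modulo an ideal read off quotient maps. -/
theorem keepsInjective_of_flat_map {A B A' B' : Type u} [CommRing A] [CommRing B] [CommRing A']
    [CommRing B'] [Algebra A B] {J : Ideal A} (p : A →+* A') (q : B →+* B') (r : A' →+* B')
    (hp : Function.Surjective p) (hq : Function.Surjective q) (hr : r.Flat)
    (hc : ∀ a, q (algebraMap A B a) = r (p a)) (hkp : RingHom.ker p = J)
    (hkq : RingHom.ker q = J.map (algebraMap A B)) : LocalCrit.KeepsInjective J B := by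
  let eA : A ⧸ J ≃+* A' := (Ideal.quotEquivOfEq hkp.symm).trans (RingHom.quotientKerEquivOfSurjective hp)
  let eB : B ⧸ J.map (algebraMap A B) ≃+* B' :=
    (Ideal.quotEquivOfEq hkq.symm).trans (RingHom.quotientKerEquivOfSurjective hq)
  have e : algebraMap (A ⧸ J) (B ⧸ J.map (algebraMap A B)) =
      (eB.symm.toRingHom.comp r).comp eA.toRingHom := by
    refine RingHom.ext fun x => ?_
    obtain ⟨a, rfl⟩ := Ideal.Quotient.mk_surjective x
    apply eB.injective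
    show q (algebraMap A B a) = eB (eB.symm (r (p a)))
    rw [RingEquiv.apply_symm_apply, hc]
  have : Module.Flat (A ⧸ J) (B ⧸ J.map (algebraMap A B)) := by
    rw [← RingHom.flat_algebraMap_iff, e]
    exact (RingHom.Flat.of_bijective eA.bijective).comp (hr.comp (RingHom.Flat.of_bijective eB.symm.bijective))
  have : Module.Flat (A ⧸ J) ((A ⧸ J) ⊗[A] B) :=
    Module.Flat.of_linearEquiv (Algebra.TensorProduct.quotIdealMapEquivQuotTensor B J).toLinearEquiv.symm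
  exact LocalCrit.keepsInjective_of_flat J B

theorem id_appLE {X : Scheme.{u}} {U V : X.Opens} (e : V ≤ (𝟙 X : X ⟶ X) ⁻¹ᵁ U) :
    (𝟙 X : X ⟶ X).appLE U V e = X.presheaf.map (homOfLE (show V ≤ U from e)).op :=
  Category.id_comp _

variable {𝔛 : FSch.Sys.{u}} (hF : 𝔛.IsFormal)

theorem lvU_zero (W : (𝔛.X 0).Opens) : 𝔛.lvU hF 0 W = W := by
  ext x
  have : (𝔛.gInv hF 0).hom x = x :=
    congr($(FSch.Sys.gInv_toX_base 𝔛 hF 0).hom x)
  show (𝔛.gInv hF 0).hom x ∈ W ↔ x ∈ W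
  rw [this]

theorem lvU_le_toX (n : ℕ) (W : (𝔛.X 0).Opens) : 𝔛.lvU hF 0 W ≤ 𝔛.toX n ⁻¹ᵁ 𝔛.lvU hF n W := by
  intro x hx
  rw [lvU_zero] at hx
  show (𝔛.gInv hF n).hom ((𝔛.toX n).base.hom x) ∈ W
  have : (𝔛.gInv hF n).hom ((𝔛.toX n).base.hom x) = x :=
    congr($(FSch.Sys.toX_base_gInv 𝔛 hF n).hom x)
  rwa [this]

theorem πlv_zero_eq (n : ℕ) (W : (𝔛.X 0).Opens) (r : Rg (𝔛.Osh hF) W) :
    ((𝔛.toX n).appLE (𝔛.lvU hF n W) (𝔛.lvU hF 0 W) (lvU_le_toX hF n W)).hom (πlv hF n W r) =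
      πlv hF 0 W r := by
  induction n with
  | zero =>
    have e : (𝔛.toX 0).appLE (𝔛.lvU hF 0 W) (𝔛.lvU hF 0 W) (lvU_le_toX hF 0 W) = 𝟙 _ := by
      exact (id_appLE (X := 𝔛.X 0) (U := 𝔛.lvU hF 0 W) le_rfl).trans ((𝔛.X 0).presheaf.map_id _)
    exact congr(($e).hom (πlv hF 0 W r))
  | succ n ih =>
    refine Eq.trans ?_ ih
    rw [← trlv_πlv hF n W r]
    exact congr(($((Scheme.Hom.appLE_comp_appLE (𝔛.toX n) (𝔛.ι n) (𝔛.lvU hF (n + 1) W) (𝔛.lvU hF n W)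
      (𝔛.lvU hF 0 W) (𝔛.lvU_le hF n W) (lvU_le_toX hF n W)).symm)).hom (πlv hF (n + 1) W r))

/-- A function on an open of the smallest level transported to the corresponding open of the zeroth level. -/
noncomputable def toLv0 {V : (𝔛.X 0).Opens} (W : (𝔛.X 0).Opens) (h : W ≤ V) :
    Γ(𝔛.X 0, V) →+* lv hF 0 W :=
  ((𝔛.X 0).presheaf.map (homOfLE ((lvU_zero hF W).le.trans h) : 𝔛.lvU hF 0 W ⟶ V).op).hom

theorem lvU_basicOpen {V W W' : (𝔛.X 0).Opens} (h : W ≤ V) (g : Γ(𝔛.X 0, V)) (hW' : W' = W ⊓ (𝔛.X 0).basicOpen g)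
    (r : Rg (𝔛.Osh hF) W) (hr : πlv hF 0 W r = toLv0 hF W h g) (n : ℕ) :
    𝔛.lvU hF n W' = (𝔛.X n).basicOpen (πlv hF n W r) := by
  ext y
  obtain ⟨x, rfl⟩ := (FComplLib.surjective_toX hF n).surj y
  have hgx : (𝔛.gInv hF n).hom ((𝔛.toX n).base.hom x) = x :=
    congr($(FSch.Sys.toX_base_gInv 𝔛 hF n).hom x)
  have h1 : (𝔛.toX n).base x ∈ 𝔛.lvU hF n W' ↔ x ∈ W' := by
    show (𝔛.gInv hF n).hom ((𝔛.toX n).base.hom x) ∈ W' ↔ _
    rw [hgx]
  have h2 : 𝔛.toX n ⁻¹ᵁ (𝔛.X n).basicOpen (πlv hF n W r) = (𝔛.X 0).basicOpen (πlv hF 0 W r) := by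
    rw [← πlv_zero_eq hF n W r, Scheme.basicOpen_appLE, eq_comm, inf_eq_right]
    intro z hz
    rw [lvU_zero]
    have hz' : (𝔛.toX n).base z ∈ 𝔛.lvU hF n W := (𝔛.X n).basicOpen_le _ hz
    have hgz : (𝔛.gInv hF n).hom ((𝔛.toX n).base.hom z) = z :=
      congr($(FSch.Sys.toX_base_gInv 𝔛 hF n).hom z)
    exact hgz ▸ (show (𝔛.gInv hF n).hom ((𝔛.toX n).base.hom z) ∈ W from hz')
  refine Iff.trans h1 (Iff.trans ?_ (SetLike.ext_iff.1 h2 x).symm)
  rw [hr, hW', toLv0, Scheme.basicOpen_res, lvU_zero]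

variable (hA : 𝔛.IsAdic) (hN : ∀ n, IsLocallyNoetherian (𝔛.X n))

section Rings

variable {W : (𝔛.X 0).Opens} (hW : IsAffineOpen W) {W' : (𝔛.X 0).Opens} (hW' : IsAffineOpen W')
  (h : W' ≤ W)

include hA hN hW hW'

theorem flat_rO : (rO (𝔛.Osh hF) h).Flat := by
  let : Algebra (Rg (𝔛.Osh hF) W) (Rg (𝔛.Osh hF) W') := (rO (𝔛.Osh hF) h).toAlgebra
  have hmap : (formalIdeal hF W).map (algebraMap (Rg (𝔛.Osh hF) W) (Rg (𝔛.Osh hF) W')) = formalIdeal hF W' :=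
    map_formalIdeal hF hA hW hN hW' h
  obtain ⟨-, -, -, hker, hnA⟩ := formalIdeal_spec hF hA hW hN
  obtain ⟨-, -, hc', hker', hnB⟩ := formalIdeal_spec hF hA hW' hN
  rw [← RingHom.algebraMap_toAlgebra (rO (𝔛.Osh hF) h), RingHom.flat_algebraMap_iff]
  refine LocalCrit.flat_of_forall_quotient_pow (B := Rg (𝔛.Osh hF) W') (formalIdeal hF W)
    (hmap ▸ IsAdicComplete.le_jacobson_bot (formalIdeal hF W')) fun n => ?_
  rcases n with _ | n
  · intro N N' _ _ _ _ g hN₁ _ _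
    have : Subsingleton N := ⟨fun x y => by
      have h1 : ∀ z : N, z = 0 := fun z => by
        simpa using @hN₁ z ⟨1, by simp⟩
      rw [h1 x, h1 y]⟩
    exact Function.injective_of_subsingleton _
  · refine keepsInjective_of_flat_map (πlv hF n W) (πlv hF n W') (reslv hF n h) (surjective_πlv hF hW n)
      (surjective_πlv hF hW' n) ?_ (fun a => (reslv_πlv hF n h a).symm) (hker n) ?_
    · have := ((𝟙 (𝔛.X n) : 𝔛.X n ⟶ 𝔛.X n)).flat_appLE (isAffineOpen_lvU hF hW n) (isAffineOpen_lvU hF hW' n)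
        (((TopologicalSpace.Opens.map (𝔛.gInv hF n)).map (homOfLE h)).le)
      have e : reslv hF n h = ((𝟙 (𝔛.X n) : 𝔛.X n ⟶ 𝔛.X n).appLE (𝔛.lvU hF n W) (𝔛.lvU hF n W')
          ((TopologicalSpace.Opens.map (𝔛.gInv hF n)).map (homOfLE h)).le).hom :=
        congrArg CommRingCat.Hom.hom (id_appLE (X := 𝔛.X n) _).symm
      rw [e]
      exact this
    · rw [hker' n, Ideal.map_pow, hmap]

end Rings

variable {U : (𝔛.X 0).Opens} (hU : IsAffineOpen U)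

include hA hN hU

theorem map_formalIdeal_algInf {W : (𝔛.X 0).Opens} (hW : IsAffineOpen (W ⊓ U)) :
    (formalIdeal hF U).map (algebraMap (Rg (𝔛.Osh hF) U) (Rg (𝔛.Osh hF) (W ⊓ U))) = formalIdeal hF (W ⊓ U) :=
  map_formalIdeal hF hA hU hN hW inf_le_right

theorem map_pow_eq_ker {W : (𝔛.X 0).Opens} (hW : IsAffineOpen (W ⊓ U)) (n : ℕ) :
    (formalIdeal hF U ^ (n + 1)).map (algebraMap (Rg (𝔛.Osh hF) U) (Rg (𝔛.Osh hF) (W ⊓ U))) =
      RingHom.ker (πlv hF n (W ⊓ U)) := by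
  rw [Ideal.map_pow, map_formalIdeal_algInf hF hA hN hU hW, (formalIdeal_spec hF hA hW hN).2.2.2.1 n]

theorem isAdicComplete_T (C : Type u) [AddCommGroup C] [Module (Rg (𝔛.Osh hF) U) C]
    [Module.Finite (Rg (𝔛.Osh hF) U) C] {W : (𝔛.X 0).Opens} (hW : IsAffineOpen (W ⊓ U)) :
    IsAdicComplete (formalIdeal hF U) (T (𝔛.Osh hF) U C W) := by
  obtain ⟨-, -, hc, -, hn⟩ := formalIdeal_spec hF hA hW hN
  refine (IsAdicComplete.map_algebraMap_iff (S := Rg (𝔛.Osh hF) (W ⊓ U)) (formalIdeal hF U) _).mp ?_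
  rw [map_formalIdeal_algInf hF hA hN hU hW]
  exact Adic7.isAdicComplete_of_finite _ _

theorem exists_span_lift {V : (𝔛.X 0).Opens} (hV : IsAffineOpen V) (hVU : V ≤ U) {ι : Type u}
    (f : ι → Γ(𝔛.X 0, V)) (hf : Ideal.span (Set.range f) = ⊤) :
    ∃ f' : ι → Rg (𝔛.Osh hF) (V ⊓ U), Ideal.span (Set.range f') = ⊤ ∧
      ∀ i, πlv hF 0 (V ⊓ U) (f' i) = toLv0 hF (V ⊓ U) inf_le_left (f i) := by
  have hV' : IsAffineOpen (V ⊓ U) := by rwa [inf_eq_left.2 hVU]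
  choose f' hf' using fun i => surjective_πlv hF hV' 0 (toLv0 hF (V ⊓ U) inf_le_left (f i))
  refine ⟨f', ?_, hf'⟩
  obtain ⟨-, -, hc, -, -⟩ := formalIdeal_spec hF hA hV' hN
  have h1 : (Ideal.span (Set.range f')).map (πlv hF 0 (V ⊓ U)) = ⊤ := by
    rw [Ideal.map_span, ← Set.range_comp, show ⇑(πlv hF 0 (V ⊓ U)) ∘ f' = toLv0 hF (V ⊓ U) inf_le_left ∘ f from funext hf',
      Set.range_comp, ← Ideal.map_span, hf, Ideal.map_top]
  have h2 : Ideal.span (Set.range f') ⊔ formalIdeal hF (V ⊓ U) = ⊤ := by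
    rw [formalIdeal, ← Ideal.comap_map_of_surjective' _ (surjective_πlv hF hV' 0), h1, Ideal.comap_top]
  refine not_ne_iff.1 fun hne => ?_
  obtain ⟨M, hM, hle⟩ := Ideal.exists_le_maximal _ hne
  refine hM.ne_top (eq_top_iff.2 (h2 ▸ sup_le hle ?_))
  refine (IsAdicComplete.le_jacobson_bot (formalIdeal hF (V ⊓ U))).trans ?_
  exact sInf_le ⟨bot_le, hM⟩

theorem isAwayMod_formal {V B : (𝔛.X 0).Opens} (hVU : V ≤ U) (hB : IsAffineOpen B) (hBV : B ≤ V)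
    (g : Γ(𝔛.X 0, V)) (r : Rg (𝔛.Osh hF) (V ⊓ U)) (hr : πlv hF 0 (V ⊓ U) r = toLv0 hF (V ⊓ U) inf_le_left g)
    {D : (𝔛.X 0).Opens} (hD : D = (𝔛.X 0).basicOpen g) (n : ℕ) :
    IsAwayMod (formalIdeal hF U ^ n) (resAlg (𝔛.Osh hF) U (inf_le_left : B ⊓ D ≤ B))
      (rO (𝔛.Osh hF) (inf_le_inf_right U hBV) r) := by
  subst hD
  rcases n with _ | n
  · exact ⟨⟨0, by simp [Ideal.map_top]⟩, fun x => ⟨0, 0, by simp [Ideal.map_top]⟩,
      fun s _ => ⟨0, by simp [Ideal.map_top]⟩⟩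
  set b := rO (𝔛.Osh hF) (inf_le_inf_right U hBV) r
  have hBU : B ≤ U := hBV.trans hVU
  have hB' : IsAffineOpen (B ⊓ U) := by rwa [inf_eq_left.2 hBU]
  have he : B ⊓ (𝔛.X 0).basicOpen g ⊓ U = (B ⊓ U) ⊓ (𝔛.X 0).basicOpen g := inf_right_comm _ _ _
  have hD' : IsAffineOpen (B ⊓ (𝔛.X 0).basicOpen g ⊓ U) := by
    rw [inf_eq_left.2 (inf_le_left.trans hBU), ← Scheme.basicOpen_res _ g (homOfLE hBV).op]
    exact hB.basicOpen _
  have hb : πlv hF 0 (B ⊓ U) b = toLv0 hF (B ⊓ U) (inf_le_left.trans hBV) g := by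
    rw [← reslv_πlv hF 0 (inf_le_inf_right U hBV) r, hr, toLv0, toLv0]
    exact congr($(((𝔛.X 0).presheaf.map_comp _ _).symm).hom g)
  have hopen := lvU_basicOpen hF (inf_le_left.trans hBV) g he b hb n
  have hle : B ⊓ (𝔛.X 0).basicOpen g ⊓ U ≤ B ⊓ U := inf_le_inf_right U inf_le_left
  let : Algebra (lv hF n (B ⊓ U)) (lv hF n (B ⊓ (𝔛.X 0).basicOpen g ⊓ U)) := (reslv hF n hle).toAlgebra
  have : IsLocalization.Away (πlv hF n (B ⊓ U) b) (lv hF n (B ⊓ (𝔛.X 0).basicOpen g ⊓ U)) :=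
    (isAffineOpen_lvU hF hB' n).isLocalization_of_eq_basicOpen _
      ((TopologicalSpace.Opens.map (𝔛.gInv hF n)).map (homOfLE hle)) hopen
  have hnat : ∀ x, πlv hF n _ (resAlg (𝔛.Osh hF) U (inf_le_left : B ⊓ (𝔛.X 0).basicOpen g ≤ B) x) =
      algebraMap (lv hF n (B ⊓ U)) (lv hF n (B ⊓ (𝔛.X 0).basicOpen g ⊓ U)) (πlv hF n (B ⊓ U) x) :=
    fun x => (reslv_πlv hF n hle x).symm
  have hmemD := fun x => SetLike.ext_iff.1 (map_pow_eq_ker hF hA hN hU hD' n) x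
  have hmemB := fun x => SetLike.ext_iff.1 (map_pow_eq_ker hF hA hN hU hB' n) x
  refine ⟨?_, fun x => ?_, fun s hs => ?_⟩
  · obtain ⟨v, hv⟩ := (IsLocalization.Away.algebraMap_isUnit
      (S := lv hF n (B ⊓ (𝔛.X 0).basicOpen g ⊓ U)) (πlv hF n (B ⊓ U) b)).exists_right_inv
    obtain ⟨w, rfl⟩ := surjective_πlv hF hD' n v
    refine ⟨w, (hmemD _).2 ?_⟩
    rw [RingHom.mem_ker, map_sub, map_mul, hnat, hv, map_one, sub_self]
  · obtain ⟨m, a, ha⟩ := IsLocalization.Away.surj (πlv hF n (B ⊓ U) b) (πlv hF n _ x)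
    obtain ⟨s, rfl⟩ := surjective_πlv hF hB' n a
    refine ⟨m, s, (hmemD _).2 ?_⟩
    rw [RingHom.mem_ker, map_sub, map_mul, map_pow, hnat, hnat, ← ha, mul_comm, sub_self]
  · have h0 := (hmemD _).1 hs
    rw [RingHom.mem_ker, hnat, IsLocalization.map_eq_zero_iff (Submonoid.powers (πlv hF n (B ⊓ U) b))] at h0
    obtain ⟨⟨_, m, rfl⟩, hm⟩ := h0
    refine ⟨m, (hmemB _).2 ?_⟩
    rw [RingHom.mem_ker, map_mul, map_pow]
    exact hm

/-- Affine opens of a locally Noetherian formal scheme are adic charts. -/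
theorem isAdicChart_formal :
    IsAdicChart (𝔛.Osh hF) (QCoh.stdCovers (𝔛.X 0)) U (formalIdeal hF U) where
  good := hU
  basis {V} _ p hp := by
    obtain ⟨W, hW, hpW, hWV⟩ := exists_isAffineOpen_mem_and_subset (U := (V : (𝔛.X 0).Opens)) hp
    exact ⟨W, hW, hpW, hWV⟩
  flat W hW hWU := by
    have hW' : IsAffineOpen (W ⊓ U) := by rwa [inf_eq_left.2 hWU]
    exact RingHom.flat_algebraMap_iff.1 (flat_rO hF hA hN hU hW' inf_le_right)
  complete C _ _ _ W hW hWU := by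
    exact isAdicComplete_T hF hA hN hU C (by rwa [inf_eq_left.2 hWU])
  loc V ι Us hV hVU hc := by
    obtain ⟨hV', hfin, f, hf, hUs⟩ := hc
    obtain ⟨f', hf', hlift⟩ := exists_span_lift hF hA hN hU hV hVU f hf
    exact ⟨hfin, f', hf', fun B hBV hB i n =>
      isAwayMod_formal hF hA hN hU hVU hB hBV (f i) (f' i) (hlift i) (hUs i) n⟩

theorem isTBase_formal : IsTBase (𝔛.Osh hF) (QCoh.stdCovers (𝔛.X 0)) U :=
  (isAdicChart_formal hF hA hN hU).isTBase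

theorem isFlatBase_formal : IsFlatBase (𝔛.Osh hF) (QCoh.stdCovers (𝔛.X 0)) U :=
  (isAdicChart_formal hF hA hN hU).flat

end Groth.Agent.FormalSch78
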