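import Groth.Agent.FormalSch78.Sec
import Groth.Agent.FComplLib.AffineSys
import Groth.Agent.FComplLib.OshSurj
import Groth.Agent.ModPairLib.Basic

/-!
# Functions of a formal scheme over affine opens
-/

universe u

open CategoryTheory CategoryTheory.Limits AlgebraicGeometry Opposite

namespace Groth.Agent.FormalSch78

variable {𝔛 : FSch.Sys.{u}} (hF : 𝔛.IsFormal)

/-- Functions on level `n`. -/
abbrev lv (n : ℕ) (W : (𝔛.X 0).Opens) : Type u := Γ(𝔛.X n, 𝔛.lvU hF n W)

/-- Projection to level `n`. -/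
noncomputable def πlv (n : ℕ) (W : (𝔛.X 0).Opens) : Rg (𝔛.Osh hF) W →+* lv hF n W :=
  ((𝔛.OshProj hF n).hom.app (op W)).hom

/-- Transition maps of the levels. -/
noncomputable def trlv (n : ℕ) (W : (𝔛.X 0).Opens) : lv hF (n + 1) W →+* lv hF n W :=
  ((𝔛.levelMap hF n).hom.app (op W)).hom

/-- Restriction on level `n`. -/
noncomputable def reslv (n : ℕ) {W W' : (𝔛.X 0).Opens} (h : W' ≤ W) : lv hF n W →+* lv hF n W' :=
  ((𝔛.levelObj hF n).obj.map (homOfLE h).op).hom

theorem trlv_πlv (n : ℕ) (W : (𝔛.X 0).Opens) (r : Rg (𝔛.Osh hF) W) :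
    trlv hF n W (πlv hF (n + 1) W r) = πlv hF n W r :=
  congr(($(𝔛.OshProj_levelMap hF n)).hom.app (op W) r)

theorem reslv_πlv (n : ℕ) {W W' : (𝔛.X 0).Opens} (h : W' ≤ W) (r : Rg (𝔛.Osh hF) W) :
    reslv hF n h (πlv hF n W r) = πlv hF n W' (rO _ h r) :=
  congr($((𝔛.OshProj hF n).hom.naturality (homOfLE h).op) r).symm

theorem isAffineOpen_lvU {W : (𝔛.X 0).Opens} (hW : IsAffineOpen W) (n : ℕ) :
    IsAffineOpen (𝔛.lvU hF n W) := by
  have := FComplLib.isClosedImmersion_toX hF n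
  refine MorLib.Thick.isAffineOpen_of_preimage (𝔛.toX n) (FComplLib.surjective_toX hF n).surj ?_
  convert hW using 1
  change (TopologicalSpace.Opens.map ((𝔛.toX n).base ≫ 𝔛.gInv hF n)).obj W = W
  rw [FSch.Sys.toX_base_gInv]
  rfl

theorem surjective_πlv {W : (𝔛.X 0).Opens} (hW : IsAffineOpen W) (n : ℕ) :
    Function.Surjective (πlv hF n W) :=
  FComplLib.surjective_OshProj_app 𝔛 hF n W hW

theorem exists_πlv_eq (W : (𝔛.X 0).Opens) (y : ∀ n, lv hF n W)
    (hy : ∀ n, trlv hF n W (y (n + 1)) = y n) :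
    ∃! r : Rg (𝔛.Osh hF) W, ∀ n, πlv hF n W r = y n := by
  let G : Sheaf (Opens.grothendieckTopology (𝔛.X 0)) CommRingCat.{u} ⥤ Type u :=
    sheafToPresheaf _ _ ⋙ (evaluation _ _).obj (op W) ⋙ CategoryTheory.forget CommRingCat.{u}
  let hlim : IsLimit (G.mapCone (limit.cone (𝔛.levelRing hF))) :=
    isLimitOfPreserves G (limit.isLimit _)
  have hstep : ∀ (a b : ℕ) (hab : a ≤ b),
      (𝔛.levelRing hF ⋙ G).map (homOfLE hab).op (y b) = y a := by
    intro a b hab
    induction b, hab using Nat.le_induction with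
    | base => exact ConcreteCategory.congr_hom ((𝔛.levelRing hF ⋙ G).map_id (op a)) (y a)
    | succ b hab ih =>
      refine (ConcreteCategory.congr_hom ((𝔛.levelRing hF ⋙ G).map_comp
        (homOfLE (Nat.le_add_right b 1)).op (homOfLE hab).op) (y (b + 1))).trans ?_
      refine Eq.trans ?_ ih
      refine congrArg ((𝔛.levelRing hF ⋙ G).map (homOfLE hab).op) ?_
      rw [Functor.comp_map, FSch.Sys.levelRing_map_succ]
      exact hy b
  let s : (𝔛.levelRing hF ⋙ G).sections := ⟨fun j => y j.unop, fun {a b} f => by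
    rw [show f = (homOfLE (leOfHom f.unop)).op from Subsingleton.elim _ _]
    exact hstep _ _ _⟩
  refine ⟨(Types.isLimitEquivSections hlim).symm s,
    fun n => Types.isLimitEquivSections_symm_apply hlim s (op n), fun r hr => ?_⟩
  refine (Types.isLimitEquivSections hlim).injective (Subtype.ext (funext fun j => ?_))
  rw [Equiv.apply_symm_apply]
  exact (Types.isLimitEquivSections_apply hlim j r).trans (hr j.unop)

theorem πlv_ext {W : (𝔛.X 0).Opens} {r r' : Rg (𝔛.Osh hF) W}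
    (h : ∀ n, πlv hF n W r = πlv hF n W r') : r = r' :=
  (exists_πlv_eq hF W (fun n => πlv hF n W r') fun n => trlv_πlv hF n W r').unique h fun _ => rfl

/-- The ideal of the smallest level in level `n`. -/
noncomputable def lvIdeal {W : (𝔛.X 0).Opens} (hW : IsAffineOpen W) (n : ℕ) : Ideal (lv hF n W) :=
  (𝔛.toX n).ker.ideal ⟨_, isAffineOpen_lvU hF hW n⟩

variable (hA : 𝔛.IsAdic) {W : (𝔛.X 0).Opens} (hW : IsAffineOpen W)

theorem map_trlv (n : ℕ) : (lvIdeal hF hW (n + 1)).map (trlv hF n W) = lvIdeal hF hW n := by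
  have := congrArg (fun I => I.ideal ⟨_, isAffineOpen_lvU hF hW n⟩) (FComplLib.comap_ker_toX hF n)
  exact (ModPairLib.ideal_comap _ (𝔛.ι n) ⟨_, isAffineOpen_lvU hF hW (n + 1)⟩
    ⟨_, isAffineOpen_lvU hF hW n⟩ (𝔛.lvU_le hF n W)).symm.trans this

theorem lvIdeal_zero : lvIdeal hF hW 0 = ⊥ := by
  have : IsClosedImmersion (𝔛.toX 0) := FComplLib.isClosedImmersion_toX hF 0
  rw [lvIdeal, FComplLib.ideal_ker, ← RingHom.injective_iff_ker_eq_bot]
  exact Function.injective_id

include hA in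
theorem lvIdeal_pow (n : ℕ) : lvIdeal hF hW n ^ (n + 1) = ⊥ := by
  have := congrArg (fun I => I.ideal ⟨_, isAffineOpen_lvU hF hW n⟩) (FComplLib.pow_ker_toX hF hA n)
  rw [Scheme.IdealSheafData.ideal_pow, Pi.pow_apply] at this
  exact this

include hA in
theorem ker_trlv (n : ℕ) : RingHom.ker (trlv hF n W) = lvIdeal hF hW (n + 1) ^ (n + 1) := by
  have := FComplLib.isClosedImmersion_ι hF n
  have h1 := congrArg (fun I => I.ideal ⟨_, isAffineOpen_lvU hF hW (n + 1)⟩) (hA n)
  rw [Scheme.IdealSheafData.ideal_pow, Pi.pow_apply] at h1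
  rw [lvIdeal, ← h1, FComplLib.ideal_ker]
  show RingHom.ker ((𝔛.ι n).appLE _ _ (𝔛.lvU_le hF n W)).hom = _
  rw [Scheme.Hom.appLE, CommRingCat.hom_comp]
  refine RingHom.ker_comp_of_injective _ ?_
  have : IsIso (homOfLE (𝔛.lvU_le hF n W)) :=
    ⟨homOfLE (𝔛.lvU_succ hF n W).le, Subsingleton.elim _ _, Subsingleton.elim _ _⟩
  exact (ConcreteCategory.bijective_of_isIso ((𝔛.X n).presheaf.map (homOfLE (𝔛.lvU_le hF n W)).op)).1

include hW in
theorem surjective_trlv (n : ℕ) : Function.Surjective (trlv hF n W) := fun y => by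
  obtain ⟨r, rfl⟩ := surjective_πlv hF hW n y
  exact ⟨πlv hF (n + 1) W r, trlv_πlv hF n W r⟩

theorem map_reslv {W' : (𝔛.X 0).Opens} (hW' : IsAffineOpen W') (h : W' ≤ W) (n : ℕ) :
    (lvIdeal hF hW n).map (reslv hF n h) = lvIdeal hF hW' n :=
  (𝔛.toX n).ker.map_ideal (U := ⟨_, isAffineOpen_lvU hF hW' n⟩) (V := ⟨_, isAffineOpen_lvU hF hW n⟩)
    ((TopologicalSpace.Opens.map (𝔛.gInv hF n)).map (homOfLE h)).le

include hA in
/-- An ideal inducing the ideals of the smallest level is an ideal of definition. -/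
theorem isAdic_of_map_eq {J : Ideal (Rg (𝔛.Osh hF) W)} (hJ : J.FG)
    (hmap : ∀ n, J.map (πlv hF n W) = lvIdeal hF hW n) :
    IsAdicComplete J (Rg (𝔛.Osh hF) W) ∧
      ∀ n, RingHom.ker (πlv hF n W) = J ^ (n + 1) := by
  let R := Rg (𝔛.Osh hF) W
  let M : ℕ → Type u := fun n => lv hF n W
  let : ∀ n, Algebra R (M n) := fun n => (πlv hF n W).toAlgebra
  let f : ∀ n, M (n + 1) →ₗ[R] M n := fun n =>
    ({ trlv hF n W with commutes' := fun r => trlv_πlv hF n W r } : M (n + 1) →ₐ[R] M n).toLinearMap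
  let π : ∀ n, R →ₗ[R] M n := fun n => (Algebra.ofId R (M n)).toLinearMap
  obtain ⟨hc, hπ, -⟩ := Adic7.limit_quotient_system R J hJ M f (surjective_trlv hF hW) (fun n => by
      refine SetLike.ext fun x => ?_
      rw [LinearMap.mem_ker, Ideal.smul_top_eq_map, Submodule.restrictScalars_mem, Ideal.map_pow]
      show trlv hF n W x = 0 ↔ x ∈ (J.map (πlv hF (n + 1) W)) ^ (n + 1)
      rw [hmap, ← ker_trlv hF hA hW n, RingHom.mem_ker])
    R π (fun n => LinearMap.ext fun r => trlv_πlv hF n W r)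
    (fun r hr => πlv_ext hF fun n => (hr n).trans (map_zero _).symm)
    (fun y hy => (exists_πlv_eq hF W y hy).exists)
  refine ⟨hc, fun n => SetLike.ext fun r => Iff.trans (SetLike.ext_iff.1 (hπ n).2 r) ?_⟩
  rw [Ideal.smul_eq_mul, Ideal.mul_top]

/-- The ideal of definition over an affine open. -/
noncomputable def formalIdeal (W : (𝔛.X 0).Opens) : Ideal (Rg (𝔛.Osh hF) W) :=
  RingHom.ker (πlv hF 0 W)

variable (hN : ∀ n, IsLocallyNoetherian (𝔛.X n))

theorem isNoetherianRing_lv (hN : ∀ n, IsLocallyNoetherian (𝔛.X n)) (hW : IsAffineOpen W) (n : ℕ) :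
    IsNoetherianRing (lv hF n W) :=
  have := hN n
  IsLocallyNoetherian.component_noetherian ⟨_, isAffineOpen_lvU hF hW n⟩

include hA hN hW

theorem exists_fg_map_eq :
    ∃ J : Ideal (Rg (𝔛.Osh hF) W), J.FG ∧ ∀ n, J.map (πlv hF n W) = lvIdeal hF hW n := by
  obtain ⟨r, g, hg⟩ := Submodule.fg_iff_exists_fin_generating_family.mp
    ((isNoetherianRing_lv hF hN hW 1).noetherian (lvIdeal hF hW 1))
  choose y hy using fun i => surjective_πlv hF hW 1 (g i)
  refine ⟨Ideal.span (Set.range y), Submodule.fg_span (Set.finite_range y), ?_⟩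
  have h1 : (Ideal.span (Set.range y)).map (πlv hF 1 W) = lvIdeal hF hW 1 := by
    rw [Ideal.map_span, ← Set.range_comp, show ⇑(πlv hF 1 W) ∘ y = g from funext hy]
    exact hg
  have hstep : ∀ n, (Ideal.span (Set.range y)).map (πlv hF (n + 1) W) = lvIdeal hF hW (n + 1) := by
    intro n
    induction n with
    | zero => exact h1
    | succ n ih =>
      have hcomp : ((Ideal.span (Set.range y)).map (πlv hF (n + 2) W)).map (trlv hF (n + 1) W) =
          (lvIdeal hF hW (n + 2)).map (trlv hF (n + 1) W) := by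
        rw [Ideal.map_map, map_trlv, ← ih]
        exact congrArg (Ideal.map · _) (RingHom.ext fun r => trlv_πlv hF (n + 1) W r)
      have hsur := surjective_trlv hF hW (n + 1)
      have hker := ker_trlv hF hA hW (n + 1)
      refine (FComplLib.eq_of_le_sup_pow _ _ (n + 1) (by omega) (lvIdeal_pow hF hA hW (n + 2)) ?_ ?_).symm
      · rw [← hker]
        refine le_of_le_of_eq (Ideal.le_comap_map (f := trlv hF (n + 1) W)) ?_
        rw [← hcomp, Ideal.comap_map_of_surjective' _ hsur]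
      · refine (Ideal.le_comap_map (f := trlv hF (n + 1) W)).trans (le_of_eq ?_)
        rw [hcomp, Ideal.comap_map_of_surjective' _ hsur, sup_eq_left]
        exact hker.le.trans (Ideal.pow_le_self (by omega))
  intro n
  rcases n with _ | n
  · rw [lvIdeal_zero, eq_bot_iff, Ideal.map_le_iff_le_comap, Ideal.span_le]
    rintro _ ⟨i, rfl⟩
    show πlv hF 0 W (y i) = 0
    rw [← trlv_πlv, hy, ← Ideal.mem_bot, ← lvIdeal_zero hF hW, ← map_trlv]
    exact Ideal.mem_map_of_mem _ (hg ▸ Submodule.subset_span ⟨i, rfl⟩)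
  · exact hstep n

/-- The properties of the ring of functions over an affine open. -/
theorem formalIdeal_spec :
    (formalIdeal hF W).FG ∧ (∀ n, (formalIdeal hF W).map (πlv hF n W) = lvIdeal hF hW n) ∧
      IsAdicComplete (formalIdeal hF W) (Rg (𝔛.Osh hF) W) ∧
      (∀ n, RingHom.ker (πlv hF n W) = formalIdeal hF W ^ (n + 1)) ∧
      IsNoetherianRing (Rg (𝔛.Osh hF) W) := by
  obtain ⟨J, hJ, hmap⟩ := exists_fg_map_eq hF hA hW hN
  obtain ⟨hc, hker⟩ := isAdic_of_map_eq hF hA hW hJ hmap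
  have e : formalIdeal hF W = J := by rw [formalIdeal, hker 0, zero_add, pow_one]
  rw [e]
  refine ⟨hJ, hmap, hc, hker, ?_⟩
  have := isNoetherianRing_lv hF hN hW 0
  have : IsNoetherianRing (Rg (𝔛.Osh hF) W ⧸ J) :=
    isNoetherianRing_of_ringEquiv (lv hF 0 W)
      ((RingHom.quotientKerEquivOfSurjective (surjective_πlv hF hW 0)).symm.trans
        (Ideal.quotEquivOfEq (by rw [hker 0, zero_add, pow_one])))
  exact LocalCrit.isNoetherianRing_of_isAdicComplete J hJ

theorem ker_πlv_of_le {W' : (𝔛.X 0).Opens} (hW' : IsAffineOpen W') (h : W' ≤ W) (n : ℕ) :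
    RingHom.ker (πlv hF n W') = (formalIdeal hF W).map (rO _ h) ^ (n + 1) := by
  obtain ⟨hfg, hmap, -, -, -⟩ := formalIdeal_spec hF hA hW hN
  refine (isAdic_of_map_eq hF hA hW' (hfg.map _) fun m => ?_).2 n
  rw [Ideal.map_map, ← map_reslv hF hW hW' h m, ← hmap m, Ideal.map_map]
  exact congrArg (Ideal.map · _) (RingHom.ext fun r => (reslv_πlv hF m h r).symm)

theorem map_formalIdeal {W' : (𝔛.X 0).Opens} (hW' : IsAffineOpen W') (h : W' ≤ W) :
    (formalIdeal hF W).map (rO _ h) = formalIdeal hF W' := by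
  rw [formalIdeal.eq_1 hF W', ker_πlv_of_le hF hA hW hN hW' h, zero_add, pow_one]

end Groth.Agent.FormalSch78
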