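import Groth.Agent.FormalSch78.CohOps

/-!
# Free modules of finite rank are coherent
-/

universe u

open CategoryTheory CategoryTheory.Limits AlgebraicGeometry Opposite
open Groth.Agent.ModTensor Groth.Agent.ModPull

namespace Groth.Agent.FormalSch78

theorem isPres_free {X : TopCat.{u}} {O : Sheaf (Opens.grothendieckTopology X) CommRingCat.{u}}
    (U : TopologicalSpace.Opens X) (I : Type u) :
    IsPres (F := freeO O I) (fun i => bas i (op U)) (fun j : PEmpty.{u + 1} => j.elim) := by
  have hcomb : ∀ {V : TopologicalSpace.Opens X} (hV : V ≤ U) (a : I →₀ Rg O V),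
      comb (F := freeO O I) (fun i => bas i (op U)) hV a =
        Finsupp.linearCombination (Rg O V) (fun i => bas i (op V)) a := fun {V} hV a => by
    show Finsupp.linearCombination (Rg O V) (fun i => rM (freeO O I) hV (bas i (op U))) a = _
    rw [show (fun i => rM (freeO O I) hV (bas i (op U))) = fun i => bas (O := O) i (op V) from
      funext fun i => rs_bas i (homOfLE hV).op]
  refine ⟨fun j => j.elim, fun V hV x p hp => ?_, fun V hV a ha p hp => ⟨V, le_rfl, hp, ?_⟩⟩
  · obtain ⟨W, h, hpW, a, hW⟩ := locally_nhd (locally_free x) p hp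
    exact ⟨W, h, hpW, a, (hcomb (h.trans hV) a).trans hW⟩
  · rw [hcomb] at ha
    have h0 : a = 0 := Finsupp.ext fun i => by
      rw [← coord_lc (O := O) i a, ha, map_zero]
      rfl
    rw [h0]
    simp [mr]

variable {𝔛 : FSch.Sys.{u}} (hF : 𝔛.IsFormal) (hA : 𝔛.IsAdic) (hN : ∀ n, IsLocallyNoetherian (𝔛.X n))

include hA hN

theorem isCohF_free (I : Type u) [Finite I] : FSch.IsCohF 𝔛 hF (freeO (𝔛.Osh hF) I) :=
  isFinitePresentation_of_ass (S := QCoh.stdCovers (𝔛.X 0)) fun x => by
    obtain ⟨U, hU, hxU, -⟩ := exists_isAffineOpen_mem_and_subset (x := x) (U := (⊤ : (𝔛.X 0).Opens)) trivial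
    obtain ⟨hass, hs, -⟩ := IsPres.ass (S := QCoh.stdCovers (𝔛.X 0)) (hB := isTBase_formal hF hA hN hU) (hp := isPres_free (O := 𝔛.Osh hF) U I)
    obtain ⟨-, -, -, -, hn⟩ := formalIdeal_spec hF hA hU hN
    have : Module.Finite (Rg (𝔛.Osh hF) U) (Ms (freeO (𝔛.Osh hF) I) U) :=
      ⟨hs ▸ Submodule.fg_span (Set.finite_range _)⟩
    exact ⟨U, hxU, isTBase_formal hF hA hN hU, hass, Module.finitePresentation_of_finite _ _⟩

end Groth.Agent.FormalSch78
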