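import Groth.Agent.FormalSch78.SiteColim
import Mathlib.Algebra.Category.ModuleCat.Sheaf.Free
import Mathlib.LinearAlgebra.Finsupp.LinearCombination

/-!
# Sections of free modules
-/

universe u

open CategoryTheory CategoryTheory.Limits Opposite
open Groth.Agent.ModTensor Groth.Agent.ModPull

namespace Groth.Agent.FormalSch78

variable {C : Type u} [SmallCategory C] {J : GrothendieckTopology C} {O : Sheaf J CommRingCat.{u}}
  {I : Type u}

/-- The free sheaf of modules. -/
noncomputable abbrev freeO (O : Sheaf J CommRingCat.{u}) (I : Type u) : ModSite.Mod O :=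
  SheafOfModules.free (R := ModSite.ringSh O) I

/-- The basis sections of a free module. -/
noncomputable def bas (i : I) (X : Cᵒᵖ) : ((fg O).obj (freeO O I)).obj X :=
  (SheafOfModules.freeSection (R := ModSite.ringSh O) i).val X

theorem rs_sections {M : ModSite.Mod O} (t : M.sections) {X Y : Cᵒᵖ} (g : X ⟶ Y) :
    rs ((fg O).obj M) g (t.val X) = t.val Y := t.property g

theorem rs_bas (i : I) {X Y : Cᵒᵖ} (g : X ⟶ Y) : rs ((fg O).obj (freeO O I)) g (bas i X) = bas i Y :=
  (SheafOfModules.freeSection (R := ModSite.ringSh O) i).property g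

theorem ιFree_app (i : I) (X : Cᵒᵖ) (x : O.obj.obj X) :
    ((fg O).map (SheafOfModules.ιFree (R := ModSite.ringSh O) i)).app X x = x • bas i X := by
  let one : ((fg O).obj (ModSite.unit O)).obj X := (1 : O.obj.obj X)
  have h : ((fg O).map (SheafOfModules.ιFree (R := ModSite.ringSh O) i)).app X one = bas i X := by
    show _ = (SheafOfModules.freeSection (R := ModSite.ringSh O) i).val X
    rw [show SheafOfModules.freeSection (R := ModSite.ringSh O) i =
      (freeO O I).unitHomEquiv (SheafOfModules.ιFree i) from
        congrArg (freeO O I).unitHomEquiv (Category.comp_id _)]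
    rfl
  rw [← h]
  refine Eq.trans ?_ (map_smul (((fg O).map (SheafOfModules.ιFree (R := ModSite.ringSh O) i)).app X).hom x one)
  exact congrArg _ (mul_one x).symm

/-- Every section of a free module is locally a finite combination of the basis. -/
theorem locally_free {W : C} (z : ((fg O).obj (freeO O I)).obj (op W)) :
    Locally J W (fun V g => ∃ a : I →₀ O.obj.obj (op V),
      Finsupp.linearCombination (O.obj.obj (op V)) (fun i => bas i (op V)) a =
        rs ((fg O).obj (freeO O I)) g.op z) := by
  refine (locally_mem_span (SheafOfModules.isColimitFreeCofan (R := ModSite.ringSh O) I) z).mono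
    fun V g hg => ?_
  show _ ∈ Set.range (Finsupp.linearCombination (O.obj.obj (op V)) fun i => bas i (op V))
  rw [← LinearMap.coe_range, Finsupp.range_linearCombination]
  refine Submodule.span_le.2 ?_ hg
  rintro _ ⟨⟨i⟩, x, rfl⟩
  exact (ιFree_app i (op V) x).symm ▸ Submodule.smul_mem _ _ (Submodule.subset_span ⟨i, rfl⟩)

variable {M : ModSite.Mod O}

theorem desc_bas (s : I → M.sections) (i : I) (X : Cᵒᵖ) :
    ((fg O).map (M.freeHomEquiv.symm s)).app X (bas i X) = (s i).val X :=
  congrArg (fun t : M.sections => t.val X) (SheafOfModules.sectionsMap_freeHomEquiv_symm_freeSection s i)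

theorem hom_bas (f : freeO O I ⟶ M) (i : I) (X : Cᵒᵖ) :
    ((fg O).map f).app X (bas i X) = (M.freeHomEquiv f i).val X := rfl

theorem app_lc (f : freeO O I ⟶ M) {X : Cᵒᵖ} (s : I → ((fg O).obj M).obj X)
    (hs : ∀ i, ((fg O).map f).app X (bas i X) = s i) (a : I →₀ O.obj.obj X) :
    ((fg O).map f).app X (Finsupp.linearCombination (O.obj.obj X) (fun i => bas i X) a) =
      Finsupp.linearCombination (O.obj.obj X) s a := by
  induction a using Finsupp.induction_linear with
  | zero => simp
  | add a b ha hb => simp only [map_add, ha, hb]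
  | single j c =>
    rw [Finsupp.linearCombination_single, Finsupp.linearCombination_single, ← hs j]
    exact map_smul (((fg O).map f).app X).hom c _

/-- The coordinates of a section of a free module. -/
noncomputable def coord (i : I) {X : Cᵒᵖ} :
    ((fg O).obj (freeO O I)).obj X →ₗ[O.obj.obj X] O.obj.obj X :=
  open Classical in
  (((fg O).map ((ModSite.unit O).freeHomEquiv.symm fun j =>
    if j = i then (ModSite.unit O).unitHomEquiv (𝟙 _)
      else (ModSite.unit O).unitHomEquiv 0)).app X).hom

theorem coord_bas [DecidableEq I] (i j : I) (X : Cᵒᵖ) :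
    coord (O := O) i (bas j X) = if j = i then 1 else 0 := by
  refine (desc_bas (M := ModSite.unit O) _ j X).trans ?_
  rcases eq_or_ne j i with rfl | h
  · rw [if_pos rfl, if_pos rfl]
    rfl
  · rw [if_neg h, if_neg h]
    rfl

theorem coord_lc (i : I) {X : Cᵒᵖ} (a : I →₀ O.obj.obj X) :
    coord i (Finsupp.linearCombination (O.obj.obj X) (fun i => bas i X) a) = a i := by
  classical
  induction a using Finsupp.induction_linear with
  | zero => simp
  | add a b ha hb => simp only [map_add, ha, hb, Finsupp.add_apply]
  | single j c =>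
    rw [Finsupp.linearCombination_single]
    refine (map_smul (coord i) c _).trans ?_
    rw [coord_bas, Finsupp.single_apply]
    split <;> simp

theorem coord_rs (i : I) {X Y : Cᵒᵖ} (g : X ⟶ Y) (z : ((fg O).obj (freeO O I)).obj X) :
    coord i (rs ((fg O).obj (freeO O I)) g z) = (O.obj.map g).hom (coord i z) :=
  app_rs _ g z

end Groth.Agent.FormalSch78
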