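import Groth.Agent.FormalSch78.IndCoh
import Groth.Agent.FormalSch78.FreeSec

/-!
# Presentations by free modules over a whole chart
-/

universe u

open CategoryTheory CategoryTheory.Limits AlgebraicGeometry Opposite TopologicalSpace TensorProduct
open Groth.Agent.ModTensor Groth.Agent.ModPull

namespace Groth.Agent.FormalSch78

section Generic

variable {X : TopCat.{u}} {O : Sheaf (Opens.grothendieckTopology X) CommRingCat.{u}}
  {S : QCoh.Ab.CoverSystem X} {F : ModSite.Mod O}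

/-- A section over the whole space. -/
noncomputable def gsec (x : Ms F (⊤ : Opens X)) : F.sections :=
  ⟨fun V => rM F (le_top : V.unop ≤ ⊤) x, fun {V W} g => by
    refine Eq.trans ?_ (rM_rM F (le_top : V.unop ≤ ⊤) (leOfHom g.unop) x)
    exact (rM_eq_rs F (leOfHom g.unop) g.unop (rM F le_top x)).symm⟩

/-- A module given by tensor products with its global sections is a quotient of a free module. -/
theorem Ass.exists_epi_free (hB : IsTBase O S ⊤) (hF : Ass S ⊤ F) :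
    ∃ (α : Type u) (π : freeO O α ⟶ F), Epi π := by
  let π : freeO O (Ms F ⊤) ⟶ F := F.freeHomEquiv.symm fun x => gsec x
  refine ⟨_, π, epi_of_nhds π fun W x p hp => ?_⟩
  obtain ⟨V, hV, hpV, hVW⟩ := hB.basis (le_top : W ≤ ⊤) p hp
  have key : ∀ y : T O ⊤ (Ms F ⊤) V, ∃ z, app π (V ⊓ ⊤) z = θ LinearMap.id V y := fun y => by
    induction y using TensorProduct.induction_on with
    | zero => exact ⟨0, (map_zero _).trans (map_zero _).symm⟩
    | add y y' hy hy' =>
      obtain ⟨z, hz⟩ := hy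
      obtain ⟨z', hz'⟩ := hy'
      exact ⟨z + z', (map_add _ z z').trans ((congrArg₂ (· + ·) hz hz').trans (map_add _ y y').symm)⟩
    | tmul a c =>
      refine ⟨a • (bas (O := O) c (op (V ⊓ ⊤)) : Ms (freeO O (Ms F ⊤)) (V ⊓ ⊤)), ?_⟩
      rw [map_smul, θ_tmul]
      exact congrArg (a • ·) (desc_bas (fun x => gsec x) c (op (V ⊓ ⊤)))
  obtain ⟨y, hy⟩ := (hF hV le_top).2 (rM F (inf_le_left.trans hVW) x)
  obtain ⟨z, hz⟩ := key y
  exact ⟨V ⊓ ⊤, inf_le_left.trans hVW, ⟨hpV, trivial⟩, z, hz.trans hy⟩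

theorem ass_free (hB : IsTBase O S ⊤) (α : Type u) : Ass S ⊤ (freeO O α) :=
  Ass.sigma hB _ fun _ => ass_unit ⊤

/-- A module given by tensor products with its global sections is presented by free modules. -/
theorem Ass.exists_cokernel_free (hB : IsTBase O S ⊤) (hfl : IsFlatBase O S ⊤) (hF : Ass S ⊤ F) :
    ∃ (α β : Type u) (φ : freeO O α ⟶ freeO O β), Nonempty (Limits.cokernel φ ≅ F) := by
  obtain ⟨β, π, hπ⟩ := hF.exists_epi_free hB
  obtain ⟨α, ρ, hρ⟩ := Ass.exists_epi_free hB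
    (Ass.of_mono_exact hfl (ShortComplex.exact_kernel π) (ass_free hB β) hF)
  refine ⟨α, β, ρ ≫ kernel.ι π, ⟨cokernelEpiComp ρ (kernel.ι π) ≪≫ ?_⟩⟩
  exact (colimit.isColimit _).coconePointUniqueUpToIso (Abelian.epiIsCokernelOfKernel _ (limit.isLimit _))

end Generic

variable {𝔛 : FSch.Sys.{u}} (hF : 𝔛.IsFormal) (hA : 𝔛.IsAdic) (hN : ∀ n, IsLocallyNoetherian (𝔛.X n))

include hA hN

/-- Free modules are ind-coherent. -/
theorem indCoh_free (α : Type u) :
    IsAssAll hF (freeO (𝔛.Osh hF) α) ∧ IsCohCovered hF (freeO (𝔛.Osh hF) α) :=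
  ⟨IsAssAll.of_isColimit hF hA hN (SheafOfModules.isColimitFreeCofan (R := ModSite.ringSh (𝔛.Osh hF)) α)
      fun _ => isAssAll_of_isCohF hF hA hN _ (isCohF_unitF hF hA hN),
    IsCohCovered.of_isColimit hF hA hN (SheafOfModules.isColimitFreeCofan (R := ModSite.ringSh (𝔛.Osh hF)) α)
      fun _ => isCohCovered_of_isCohF hF (isCohF_unitF hF hA hN)⟩

/-- Cokernels of maps of free modules are ind-coherent. -/
theorem indCohF_cokernel_free {α β : Type u} (φ : freeO (𝔛.Osh hF) α ⟶ freeO (𝔛.Osh hF) β) :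
    (ObjectProperty.ind.{u} fun 𝔊 : FSch.ModF 𝔛 hF => FSch.IsCohF 𝔛 hF 𝔊) (Limits.cokernel φ) :=
  (indCohF_iff hF hA hN).2 ⟨IsAssAll.cokernel hF hA hN (indCoh_free hF hA hN α).1 (indCoh_free hF hA hN β).1 φ,
    IsCohCovered.of_epi hF (indCoh_free hF hA hN β).2 (cokernel.π φ)⟩

/-- Over an affine space, ind-coherent modules are presented by free modules. -/
theorem exists_cokernel_free_of_indCohF (hT : IsAffineOpen (⊤ : (𝔛.X 0).Opens)) {𝔉 : FSch.ModF 𝔛 hF}
    (h : (ObjectProperty.ind.{u} fun 𝔊 : FSch.ModF 𝔛 hF => FSch.IsCohF 𝔛 hF 𝔊) 𝔉) :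
    ∃ (α β : Type u) (φ : freeO (𝔛.Osh hF) α ⟶ freeO (𝔛.Osh hF) β), Nonempty (Limits.cokernel φ ≅ 𝔉) :=
  Ass.exists_cokernel_free (isTBase_formal hF hA hN hT) (isFlatBase_formal hF hA hN hT)
    (((indCohF_iff hF hA hN).1 h).1 ⊤ hT)

end Groth.Agent.FormalSch78
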