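import Groth.Agent.FormalSch78.Loc

/-!
# Generators of a module on a chart from local generators
-/

universe u

open CategoryTheory CategoryTheory.Limits Opposite TopologicalSpace TensorProduct
open Groth.Agent.ModTensor Groth.Agent.ModPull

namespace Groth.Agent.FormalSch78

variable {X : TopCat.{u}} {O : Sheaf (Opens.grothendieckTopology X) CommRingCat.{u}}
variable {S : QCoh.Ab.CoverSystem X} {U : Opens X} {F : ModSite.Mod O}

/-- Local generators of a module given by tensor products generate the sections on the chart. -/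
theorem Ass.span_eq_top (hB : IsTBase O S U) (hF : Ass S U F) {σ : Type u} (s : σ → Ms F U)
    (hgen : ∀ ⦃V : Opens X⦄ (hV : V ≤ U) (x : Ms F V), ∀ p ∈ V, ∃ (W : Opens X) (h : W ≤ V), p ∈ W ∧
      ∃ a : σ →₀ Rg O W, comb s (h.trans hV) a = rM F h x) :
    Submodule.span (Rg O U) (Set.range s) = ⊤ := by
  let C' := Submodule.span (Rg O U) (Set.range s)
  refine eq_top_iff.2 fun c _ => ?_
  rw [← Submodule.Quotient.mk_eq_zero C']
  refine (bijective_one_tmul (O := O) (U := U) (C := Ms F U ⧸ C')).1 ?_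
  show ((1 : Rg O (U ⊓ U)) ⊗ₜ[Rg O U] C'.mkQ c : T O U (Ms F U ⧸ C') U) = 1 ⊗ₜ[Rg O U] (0 : Ms F U ⧸ C')
  rw [TensorProduct.tmul_zero]
  have hloc : ∀ q : U, ∃ (W : Opens X) (h : W ≤ U), q.1 ∈ W ∧
      tres h ((1 : Rg O (U ⊓ U)) ⊗ₜ[Rg O U] C'.mkQ c : T O U (Ms F U ⧸ C') U) = 0 := by
    intro q
    obtain ⟨W₁, h₁, hq₁, a, ha⟩ := hgen le_rfl c q.1 q.2
    obtain ⟨W, hW, hqW, hW₁⟩ := hB.basis h₁ q.1 hq₁
    refine ⟨W, hW₁.trans h₁, hqW, ?_⟩
    let b := mr O ((inf_le_left : W ⊓ U ≤ W).trans hW₁) a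
    let z : T O U (Ms F U) W := (Finsupp.linearCombination (Rg O U) s).lTensor _ (Φ O U σ W b)
    have hz : z = tres (hW₁.trans h₁) ((1 : Rg O (U ⊓ U)) ⊗ₜ[Rg O U] c) := by
      refine (hF hW (hW₁.trans h₁)).1 ?_
      rw [← rM_θ, θ_tmul, one_smul, LinearMap.id_apply, rM_rM, θ_lTensor, LinearMap.id_comp, θ_lc_Φ,
        ← rM_comb s h₁ ((inf_le_left : W ⊓ U ≤ W).trans hW₁) a, ha, rM_rM]
    have h2 : C'.mkQ ∘ₗ Finsupp.linearCombination (Rg O U) s = 0 := Finsupp.lhom_ext fun i r => by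
      simp only [LinearMap.comp_apply, Finsupp.linearCombination_single, LinearMap.zero_apply,
        Submodule.mkQ_apply]
      exact (Submodule.Quotient.mk_eq_zero C').2 (Submodule.smul_mem _ _ (Submodule.subset_span ⟨i, rfl⟩))
    calc tres (hW₁.trans h₁) ((1 : Rg O (U ⊓ U)) ⊗ₜ[Rg O U] C'.mkQ c)
        = C'.mkQ.lTensor _ (tres (hW₁.trans h₁) ((1 : Rg O (U ⊓ U)) ⊗ₜ[Rg O U] c)) :=
          tres_lTensor (hW₁.trans h₁) C'.mkQ ((1 : Rg O (U ⊓ U)) ⊗ₜ[Rg O U] c)
      _ = C'.mkQ.lTensor _ z := by rw [hz]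
      _ = 0 := by
        show C'.mkQ.lTensor _ ((Finsupp.linearCombination (Rg O U) s).lTensor _ (Φ O U σ W b)) = 0
        rw [← LinearMap.comp_apply, ← LinearMap.lTensor_comp, h2, LinearMap.lTensor_zero, LinearMap.zero_apply]
  choose W hW hqW hyW using hloc
  obtain ⟨ι, Us, hc, hUs⟩ := S.exists_refinement hB.good W hqW
  refine hB.sep _ hB.good le_rfl hc _ fun i => ?_
  obtain ⟨q, hq⟩ := hUs i
  rw [← tres_tres (hW q) hq, hyW, map_zero]

/-- Generating sections of a restriction span the sections of the chart. -/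
theorem Ass.span_of_generatingSections {U' : Opens X} (hU' : U' ≤ U) (hB : IsTBase O S U') (hF : Ass S U' F)
    (g : ((ModSite.restr O U).obj F).GeneratingSections) :
    ∃ s : g.I → Ms F U', Submodule.span (Rg O U') (Set.range s) = ⊤ := by
  let π : freeO (O.over U) g.I ⟶ (ModSite.restr O U).obj F := g.π
  have : Epi π := g.epi
  let s : g.I → Ms F U' := fun i => ((fg (O.over U)).map π).app _ (bas i (op (ov hU')))
  have hπ : ∀ i (Y : Over U) (h : Y.left ≤ U'),
      ((fg (O.over U)).map π).app (op Y) (bas i (op Y)) = rM F h (s i) := fun i Y h => by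
    refine Eq.trans ?_ (rs_restr F (Over.homMk (homOfLE h) : Y ⟶ ov hU') (s i))
    exact (congrArg _ (rs_bas (O := O.over U) i (Over.homMk (homOfLE h) : Y ⟶ ov hU').op).symm).trans
      (app_rs ((fg (O.over U)).map π) _ _)
  refine ⟨s, hF.span_eq_top hB s fun V hV x p hp => ?_⟩
  obtain ⟨Z, q, hpZ, z, hz⟩ := locally_nhd_over (Y := ov (hV.trans hU')) (locally_exists_app_eq π
    (show ((fg (O.over U)).obj ((ModSite.restr O U).obj F)).obj (op (ov (hV.trans hU'))) from x)) p hp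
  obtain ⟨Z', q', hpZ', a, ha⟩ := locally_bcomb z p hpZ
  refine ⟨Z'.left, q'.left.le.trans q.left.le, hpZ', a, ?_⟩
  refine (app_lc (O := O.over U) π _ (fun i => hπ i Z' ((q'.left.le.trans q.left.le).trans hV)) a).symm.trans ?_
  refine (congrArg _ ha).trans ?_
  rw [app_rs, hz, ← rs_comp, ← op_comp]
  exact rs_restr F (q' ≫ q) x

/-- A finitely generated module given by tensor products has finite sections on small charts. -/
theorem exists_finite_of_isFiniteType [SheafOfModules.IsFiniteType.{u} F] (x : X) :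
    ∃ W : Opens X, x ∈ W ∧ ∀ U', U' ≤ W → IsTBase O S U' → Ass S U' F →
      Module.Finite (Rg O U') (Ms F U') := by
  obtain ⟨q, hq⟩ := SheafOfModules.IsFiniteType.exists_localGeneratorsData.{u} F
  obtain ⟨i, hi⟩ := Opens.mem_iSup.1
    (((Opens.coversTop_iff _ q.X).1 q.coversTop).symm.le (Set.mem_univ x))
  refine ⟨q.X i, hi, fun U' h hB hF => ?_⟩
  obtain ⟨s, hs⟩ := Ass.span_of_generatingSections h hB hF (q.generators i)
  have : Finite (q.generators i).I := (hq.isFiniteType i).finite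
  exact ⟨hs ▸ Submodule.fg_span (Set.finite_range s)⟩

end Groth.Agent.FormalSch78
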