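import Groth.Agent.FormalSch78.Crit
import Mathlib.Algebra.Category.ModuleCat.Presheaf.Submodule
import Mathlib.Topology.Sheaves.SheafCondition.UniqueGluing

/-!
# Submodules given by a local family of sections
-/

universe u

open CategoryTheory CategoryTheory.Limits Opposite TopologicalSpace

namespace Groth.Agent.FormalSch78

variable {X : TopCat.{u}} {O : Sheaf (Opens.grothendieckTopology X) CommRingCat.{u}}

/-- A family of submodules of sections, stable under restriction and of local nature. -/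
structure LocSub (F : ModSite.Mod O) where
  /-- the sections of the submodule -/
  mem : ∀ U : Opens X, Submodule (Rg O U) (Ms F U)
  map_mem : ∀ {U V : Opens X} (i : V ≤ U) {s : Ms F U}, s ∈ mem U → rM F i s ∈ mem V
  of_locally : ∀ (U : Opens X) (s : Ms F U),
    (∀ x ∈ U, ∃ (V : Opens X) (i : V ≤ U), x ∈ V ∧ rM F i s ∈ mem V) → s ∈ mem U

variable {F : ModSite.Mod O} (N : LocSub F)

/-- The family as a submodule of the presheaf of modules. -/
noncomputable def LocSub.sub : F.val.Submodule where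
  obj U := N.mem U.unop
  map {U V} f := fun s hs => by
    have h := N.map_mem (leOfHom f.unop) hs
    exact h

theorem LocSub.isSheaf : Presheaf.IsSheaf (Opens.grothendieckTopology X)
    N.sub.toPresheafOfModules.presheaf := by
  refine (TopCat.Presheaf.isSheaf_iff_isSheafUniqueGluing (X := X)
    (N.sub.toPresheafOfModules.presheaf)).2 fun ι U sf hsf => ?_
  obtain ⟨s, hs, huniq⟩ := (TopCat.Presheaf.isSheaf_iff_isSheafUniqueGluing (X := X)
    F.val.presheaf).1 F.isSheaf U (fun i => (sf i).1) (fun i j => congrArg Subtype.val (hsf i j))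
  have hmem : s ∈ N.mem (iSup U) := N.of_locally _ s fun x hx => by
    obtain ⟨i, hi⟩ := Opens.mem_iSup.1 hx
    exact ⟨U i, le_iSup U i, hi, by
      have h := hs i
      exact h ▸ (sf i).2⟩
  exact ⟨⟨s, hmem⟩, fun i => Subtype.ext (hs i), fun t ht =>
    Subtype.ext (huniq t.1 fun i => congrArg Subtype.val (ht i))⟩

/-- The submodule as a sheaf of modules. -/
noncomputable def LocSub.toMod : ModSite.Mod O := ⟨N.sub.toPresheafOfModules, N.isSheaf⟩

/-- The inclusion. -/
noncomputable def LocSub.ι : N.toMod ⟶ F := ⟨N.sub.ι⟩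

theorem LocSub.ι_injective (U : Opens X) : Function.Injective (app N.ι U) := fun _ _ h => Subtype.ext h

instance LocSub.mono_ι : Mono N.ι :=
  mono_of_nhds _ fun W x hx p hp =>
    ⟨W, le_rfl, hp, by rw [N.ι_injective W (hx.trans (map_zero _).symm), map_zero]⟩

theorem LocSub.ι_mem (U : Opens X) (s : Ms N.toMod U) : app N.ι U s ∈ N.mem U :=
  Subtype.prop (p := fun s => s ∈ N.mem U) s

theorem LocSub.exists_app_eq {U : Opens X} {s : Ms F U} (hs : s ∈ N.mem U) :
    ∃ t : Ms N.toMod U, app N.ι U t = s :=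
  ⟨(⟨s, hs⟩ : N.mem U), rfl⟩

/-- The submodule locally in a family of sets of sections. -/
def LocSub.ofLocal (R : ∀ U : Opens X, Submodule (Rg O U) (Ms F U) → Prop)
    (hR : ∀ {U V : Opens X} (i : V ≤ U) {M : Submodule (Rg O U) (Ms F U)}, R U M →
      ∃ M' : Submodule (Rg O V) (Ms F V), R V M' ∧ ∀ s ∈ M, rM F i s ∈ M')
    (hdir : ∀ {U : Opens X} (p : X), p ∈ U → ∀ {M M' : Submodule (Rg O U) (Ms F U)}, R U M → R U M' →
      ∃ (V : Opens X) (i : V ≤ U), p ∈ V ∧ ∃ M'' : Submodule (Rg O V) (Ms F V), R V M'' ∧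
        (∀ s ∈ M, rM F i s ∈ M'') ∧ ∀ s ∈ M', rM F i s ∈ M'')
    (hne : ∀ p : X, ∃ (V : Opens X), p ∈ V ∧ ∃ M : Submodule (Rg O V) (Ms F V), R V M) :
    LocSub F where
  mem U :=
    { carrier := {s | ∀ p ∈ U, ∃ (V : Opens X) (i : V ≤ U), p ∈ V ∧ ∃ M, R V M ∧ rM F i s ∈ M}
      zero_mem' := fun p hp => by
        obtain ⟨V, hpV, M, hM⟩ := hne p
        obtain ⟨M', hM', -⟩ := hR (inf_le_left : V ⊓ U ≤ V) hM
        exact ⟨V ⊓ U, inf_le_right, ⟨hpV, hp⟩, M', hM', by rw [map_zero]; exact M'.zero_mem⟩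
      add_mem' := fun {a b} ha hb p hp => by
        obtain ⟨V, i, hpV, M, hM, ham⟩ := ha p hp
        obtain ⟨V', i', hpV', M', hM', hbm⟩ := hb p hp
        obtain ⟨M₁, hM₁, h₁⟩ := hR (inf_le_left : V ⊓ V' ≤ V) hM
        obtain ⟨M₂, hM₂, h₂⟩ := hR (inf_le_right : V ⊓ V' ≤ V') hM'
        obtain ⟨W, j, hpW, M'', hM'', g₁, g₂⟩ := hdir p (show p ∈ V ⊓ V' from ⟨hpV, hpV'⟩) hM₁ hM₂
        refine ⟨W, (j.trans inf_le_left).trans i, hpW, M'', hM'', ?_⟩
        have ha' := g₁ _ (h₁ _ ham)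
        have hb' := g₂ _ (h₂ _ hbm)
        rw [rM_rM, rM_rM] at ha' hb'
        rw [map_add]
        exact M''.add_mem ha' hb'
      smul_mem' := fun r s hs p hp => by
        obtain ⟨V, i, hpV, M, hM, hm⟩ := hs p hp
        exact ⟨V, i, hpV, M, hM, by rw [rM_smul]; exact M.smul_mem _ hm⟩ }
  map_mem {U V} i {s} hs p hp := by
    obtain ⟨W, j, hpW, M, hM, hm⟩ := hs p (i hp)
    obtain ⟨M', hM', h'⟩ := hR (inf_le_left : W ⊓ V ≤ W) hM
    refine ⟨W ⊓ V, inf_le_right, ⟨hpW, hp⟩, M', hM', ?_⟩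
    have := h' _ hm
    rw [rM_rM] at this ⊢
    exact this
  of_locally U s h p hp := by
    obtain ⟨V, i, hpV, hs⟩ := h p hp
    obtain ⟨W, j, hpW, M, hM, hm⟩ := hs p hpV
    exact ⟨W, j.trans i, hpW, M, hM, by rwa [rM_rM] at hm⟩

end Groth.Agent.FormalSch78
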