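import Groth.Agent.FormalSch78.IndCoh
import Groth.Agent.FormalSch78.SubMod
import Mathlib.AlgebraicGeometry.Noetherian

/-!
# Extensions of ind-coherent modules on Noetherian formal schemes
-/

universe u

open CategoryTheory CategoryTheory.Limits AlgebraicGeometry Opposite TopologicalSpace

namespace Groth.Agent.FormalSch78

attribute [local instance] Abelian.hasFiniteBiproducts

/-- Sections on a good open below a chart are combinations of generators on the chart. -/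
theorem Ass.mem_span_restrict {X : TopCat.{u}} {O : Sheaf (Opens.grothendieckTopology X) CommRingCat.{u}}
    {S : QCoh.Ab.CoverSystem X} {U W : Opens X} {F : ModSite.Mod O} (hF : Ass S U F) {σ : Type*}
    {s : σ → Ms F U} (hs : Submodule.span (Rg O U) (Set.range s) = ⊤) (hW : S.Good W) (h : W ≤ U) (z : Ms F W) :
    z ∈ Submodule.span (Rg O W) (Set.range fun i => rM F h (s i)) := by
  obtain ⟨y, hy⟩ := (hF hW h).2 (rM F inf_le_left z)
  have hz : z = rM F (le_inf le_rfl h) (θ LinearMap.id W y) := by rw [hy, rM_rM, rM_self]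
  rw [hz]
  clear hz hy
  induction y using TensorProduct.induction_on with
  | zero => rw [map_zero, map_zero]; exact Submodule.zero_mem _
  | add a b ha hb => rw [map_add, map_add]; exact Submodule.add_mem _ ha hb
  | tmul a c =>
    rw [θ_tmul, rM_smul, LinearMap.id_apply, rM_rM]
    refine Submodule.smul_mem _ _ ?_
    have hc : c ∈ Submodule.span (Rg O U) (Set.range s) := hs ▸ Submodule.mem_top
    induction hc using Submodule.span_induction with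
    | mem c hc => obtain ⟨i, rfl⟩ := hc; exact Submodule.subset_span ⟨i, rfl⟩
    | zero => rw [map_zero]; exact Submodule.zero_mem _
    | add a b _ _ ha hb => rw [map_add]; exact Submodule.add_mem _ ha hb
    | smul r a _ ha => rw [rM_smul]; exact Submodule.smul_mem _ _ ha

theorem exists_lift_kernel {X : TopCat.{u}} {O : Sheaf (Opens.grothendieckTopology X) CommRingCat.{u}}
    {F G H : ModSite.Mod O} (φ : F ⟶ G) (ι : H ⟶ F) {V W : Opens X} (hW : W ≤ V) (x : Ms (Limits.kernel φ) V)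
    (y : Ms H W) (hy : app ι W y = rM F hW (app (kernel.ι φ) V x)) :
    ∃ (a : Limits.kernel (ι ≫ φ) ⟶ Limits.kernel φ) (z : Ms (Limits.kernel (ι ≫ φ)) W),
      app a W z = rM (Limits.kernel φ) hW x := by
  have h0 : app (ι ≫ φ) W y = 0 := by
    rw [app_comp, hy, app_rM, ← app_comp, kernel.condition]
    exact map_zero (rM G hW)
  obtain ⟨z, hz⟩ := mem_range_kernel (ι ≫ φ) y h0
  refine ⟨kernel.lift φ (kernel.ι (ι ≫ φ) ≫ ι) (by rw [Category.assoc, kernel.condition]), z,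
    ModPull.app_injective (kernel.ι φ) (op W) ?_⟩
  show app (kernel.ι φ) W _ = app (kernel.ι φ) W (rM _ hW x)
  rw [← app_comp, kernel.lift_ι, app_comp, hz, hy, app_rM]

variable {𝔛 : FSch.Sys.{u}} (hF : 𝔛.IsFormal) (hA : 𝔛.IsAdic) (hN : ∀ n, IsLocallyNoetherian (𝔛.X n))

include hA hN

theorem finite_of_isCohF {𝔉 : FSch.ModF 𝔛 hF} (h : FSch.IsCohF 𝔛 hF 𝔉) {U : (𝔛.X 0).Opens} (hU : IsAffineOpen U) :
    Module.Finite (Rg (𝔛.Osh hF) U) (Ms 𝔉 U) := by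
  have := isIso_toLevels hF hA hN 𝔉 h
  obtain ⟨-, hfin, -⟩ := realMod_spec hF (pullLv hF 𝔉) hA hN (isCoh_pullLv hF hA hN 𝔉 h) hU
  exact Module.Finite.of_surjective (app (inv (toLevels hF 𝔉)) U) fun y =>
    ⟨app (toLevels hF 𝔉) U y, by rw [← app_comp, IsIso.hom_inv_id, app_id]⟩

/-- Finitely many sections on quasi-compact opens come from one coherent module. -/
theorem exists_common_coh {M : FSch.ModF 𝔛 hF} {ι : Type u} [Finite ι] (W : ι → (𝔛.X 0).Opens)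
    (hW : ∀ i, IsCompact (W i : Set (𝔛.X 0))) (d : ∀ i, Ms M (W i))
    (hd : ∀ i, ∀ p ∈ W i, ∃ (V : (𝔛.X 0).Opens) (h : V ≤ W i), p ∈ V ∧ rM M h (d i) ∈ cohSet hF M V) :
    ∃ (H : FSch.ModF 𝔛 hF) (_ : FSch.IsCohF 𝔛 hF H) (h : H ⟶ M), ∀ i, ∀ p ∈ W i,
      ∃ (V : (𝔛.X 0).Opens) (hle : V ≤ W i), p ∈ V ∧ rM M hle (d i) ∈ LinearMap.range (app h V) := by
  choose V hV hpV G hG a y hy using fun i (p : W i) => hd i p.1 p.2
  choose t ht using fun i => (hW i).elim_finite_subcover (fun p : W i => (V i p : Set (𝔛.X 0)))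
    (fun p => (V i p).isOpen) fun p hp => Set.mem_iUnion.2 ⟨⟨p, hp⟩, hpV i ⟨p, hp⟩⟩
  let κ := Σ i, {p : W i // p ∈ t i}
  obtain ⟨n, ⟨e⟩⟩ := Finite.exists_equiv_fin κ
  let f : Fin n → FSch.ModF 𝔛 hF := fun k => G (e.symm k).1 (e.symm k).2.1
  refine ⟨⨁ f, isCohF_biproduct hF hA hN f fun k => hG _ _, biproduct.desc fun k => a _ _, fun i p hp => ?_⟩
  obtain ⟨q, hqt, hpq⟩ := Set.mem_iUnion₂.1 (ht i hp)
  refine ⟨V i q, hV i q, hpq, ?_⟩
  obtain ⟨k, hk⟩ : ∃ k, e.symm k = ⟨i, ⟨q, hqt⟩⟩ := ⟨e ⟨i, ⟨q, hqt⟩⟩, e.symm_apply_apply _⟩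
  have key : ∀ (z : κ), e.symm k = z → rM M (hV z.1 z.2.1) (d z.1) ∈
      LinearMap.range (app (biproduct.desc fun k => a (e.symm k).1 (e.symm k).2.1 : ⨁ f ⟶ M) (V z.1 z.2.1)) := by
    rintro z rfl
    refine ⟨app (biproduct.ι f k) _ (y _ _), ?_⟩
    rw [← app_comp, biproduct.ι_desc]
    exact hy _ _
  exact key _ hk

/-- Spans of restricted generators together with the image of a module. -/
noncomputable def genSub {M H : FSch.ModF 𝔛 hF} (h : H ⟶ M) {U W : (𝔛.X 0).Opens} {ι : Type*} (e : ι → Ms M U)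
    (hW : W ≤ U) : Submodule (Rg (𝔛.Osh hF) W) (Ms M W) :=
  Submodule.span _ (Set.range fun l => rM M hW (e l)) ⊔ LinearMap.range (app h W)

omit hA hN in
theorem rM_mem_genSub {M H : FSch.ModF 𝔛 hF} (h : H ⟶ M) {U W W' : (𝔛.X 0).Opens} {ι : Type*} (e : ι → Ms M U)
    (hk : W ≤ U) (i : W' ≤ W) (a : Ms M W) (ha : a ∈ genSub hF h e hk) :
    rM M i a ∈ genSub hF h e (i.trans hk) := by
  obtain ⟨a₁, ha₁, a₂, ⟨b, rfl⟩, rfl⟩ := Submodule.mem_sup.1 ha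
  clear ha
  rw [map_add]
  refine Submodule.add_mem_sup ?_ ⟨rM H i b, app_rM h i b⟩
  induction ha₁ using Submodule.span_induction with
  | mem a ha =>
    obtain ⟨l, rfl⟩ := ha
    exact Submodule.subset_span ⟨l, (rM_rM _ hk i _).symm⟩
  | zero => rw [map_zero]; exact Submodule.zero_mem _
  | add a b _ _ ha hb => rw [map_add]; exact Submodule.add_mem _ ha hb
  | smul r a _ ha => rw [rM_smul]; exact Submodule.smul_mem _ _ ha

omit hA hN in
/-- Compatible generators give a submodule. -/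
noncomputable def genLocSub {M H : FSch.ModF 𝔛 hF} (h : H ⟶ M) {κ : Type u} (U : κ → (𝔛.X 0).Opens)
    {m : κ → ℕ} (e : ∀ k, Fin (m k) → Ms M (U k)) (hcov : ∀ q, ∃ k, q ∈ U k)
    (hconv : ∀ (i k : κ) {W : (𝔛.X 0).Opens} (hi : W ≤ U i) (_ : W ≤ U k), ∀ q ∈ W,
      ∃ (W' : (𝔛.X 0).Opens) (j : W' ≤ W) (hk' : W' ≤ U k), q ∈ W' ∧ ∀ a ∈ genSub hF h (e i) hi,
        rM M j a ∈ genSub hF h (e k) hk') : LocSub M :=
  LocSub.ofLocal (fun W N => ∃ k, ∃ hk : W ≤ U k, N = genSub hF h (e k) hk)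
    (fun {W W'} i {N} hN => by
      obtain ⟨k, hk, rfl⟩ := hN
      exact ⟨_, ⟨k, i.trans hk, rfl⟩, rM_mem_genSub hF h (e k) hk i⟩)
    (fun {W} q hq {N N'} hN hN' => by
      obtain ⟨i, hi, rfl⟩ := hN
      obtain ⟨k, hk, rfl⟩ := hN'
      obtain ⟨W', j, hk', hqW', hj⟩ := hconv i k hi hk q hq
      exact ⟨W', j, hqW', _, ⟨k, hk', rfl⟩, hj, rM_mem_genSub hF h (e k) hk j⟩)
    (fun q => by
      obtain ⟨k, hqk⟩ := hcov q
      exact ⟨U k, hqk, _, k, le_rfl, rfl⟩)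

theorem isCohF_genLocSub {M H : FSch.ModF 𝔛 hF} (h : H ⟶ M) (hH : FSch.IsCohF 𝔛 hF H) (a2 : IsAssAll hF M)
    {κ : Type u} (U : κ → (𝔛.X 0).Opens) (hU : ∀ k, IsAffineOpen (U k))
    {m : κ → ℕ} (e : ∀ k, Fin (m k) → Ms M (U k)) (hcov : ∀ q, ∃ k, q ∈ U k)
    (hconv : ∀ (i k : κ) {W : (𝔛.X 0).Opens} (hi : W ≤ U i) (_ : W ≤ U k), ∀ q ∈ W,
      ∃ (W' : (𝔛.X 0).Opens) (j : W' ≤ W) (hk' : W' ≤ U k), q ∈ W' ∧ ∀ a ∈ genSub hF h (e i) hi,
        rM M j a ∈ genSub hF h (e k) hk') :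
    FSch.IsCohF 𝔛 hF (genLocSub hF h U e hcov hconv).toMod := by
  let N := genLocSub hF h U e hcov hconv
  refine isCohF_of_charts hF hA hN _ fun q => ?_
  obtain ⟨k, hqk⟩ := hcov q
  refine ⟨U k, hU k, hqk, ?_⟩
  have hB := isTBase_formal hF hA hN (hU k)
  let C' : Submodule (Rg (𝔛.Osh hF) (U k)) (Ms M (U k)) :=
    genSub hF h (e k) (le_rfl : U k ≤ U k)
  have hC'N : ∀ c ∈ C', c ∈ N.mem (U k) := fun c hc q hq =>
    ⟨U k, le_rfl, hq, C', ⟨k, le_rfl, rfl⟩, by rwa [rM_self]⟩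
  choose tc htc using fun c : C' => N.exists_app_eq (hC'N c.1 c.2)
  let τ : C' →ₗ[Rg (𝔛.Osh hF) (U k)] Ms N.toMod (U k) :=
    { toFun := tc
      map_add' := fun a b => N.ι_injective _ (by rw [map_add, htc, htc, htc]; rfl)
      map_smul' := fun r a => N.ι_injective _ (by rw [RingHom.id_apply, map_smul, htc, htc]; rfl) }
  have hτ : app N.ι (U k) ∘ₗ τ = C'.subtype := LinearMap.ext htc
  have hθ : ∀ W z, app N.ι (W ⊓ U k) (θ τ W z) = θ LinearMap.id W (C'.subtype.lTensor _ z) := fun W z => by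
    rw [app_θ, hτ, θ_lTensor, LinearMap.id_comp]
  have hi : LocInj τ := fun W hW z hz q hq => by
    obtain ⟨W', hW', hqW', hle⟩ := hB.basis hW q hq
    have := isFlatBase_formal hF hA hN (hU k) hW' (hle.trans hW)
    refine ⟨W', hle, hqW', Module.Flat.lTensor_preserves_injective_linearMap _ C'.injective_subtype
      ((a2 (U k) (hU k) hW' (hle.trans hW)).1 ?_)⟩
    rw [← hθ, ← rM_θ, hz, map_zero, map_zero, map_zero]
    exact (map_zero _).symm
  have hsj : LocSurj τ := fun W hW z q hq => by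
    obtain ⟨W₂, i₂, hqW₂, M', ⟨i, hi', rfl⟩, hmem⟩ := N.ι_mem W z q hq
    obtain ⟨W₃, j₃, hk₃, hqW₃, hj⟩ := hconv i k hi' (i₂.trans hW) q hqW₂
    obtain ⟨W', hW', hqW', hle⟩ := hB.basis hk₃ q hqW₃
    refine ⟨W', hle.trans (j₃.trans i₂), hqW', ?_⟩
    have hWk : W' ≤ U k := hle.trans hk₃
    have h3 := rM_mem_genSub hF h (e k) hk₃ (inf_le_left.trans hle : W' ⊓ U k ≤ W₃) _ (hj _ hmem)
    rw [rM_rM, rM_rM] at h3
    suffices hr : ∀ w ∈ genSub hF h (e k) (inf_le_right : W' ⊓ U k ≤ U k),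
        ∃ y, app N.ι _ (θ τ W' y) = w by
      obtain ⟨y, hy⟩ := hr _ h3
      exact ⟨y, N.ι_injective _ (hy.trans (app_rM N.ι _ z).symm)⟩
    clear h3
    let Y : Submodule (Rg (𝔛.Osh hF) (W' ⊓ U k)) (Ms M (W' ⊓ U k)) :=
      { carrier := {w | ∃ y, app N.ι _ (θ τ W' y) = w}
        zero_mem' := ⟨0, by rw [map_zero, map_zero]⟩
        add_mem' := by
          rintro _ _ ⟨y, rfl⟩ ⟨y', rfl⟩
          exact ⟨y + y', by rw [map_add, map_add]⟩
        smul_mem' := by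
          rintro r _ ⟨y, rfl⟩
          exact ⟨r • y, by rw [θ_smul, map_smul]⟩ }
    have hbase : ∀ c : C', rM M (inf_le_right : W' ⊓ U k ≤ U k) c.1 ∈ Y := fun c =>
      ⟨1 ⊗ₜ c, by rw [hθ, LinearMap.lTensor_tmul, θ_tmul, one_smul]; rfl⟩
    refine fun w hw => (sup_le ?_ ?_ : _ ≤ Y) hw
    · exact Submodule.span_le.2 fun w ⟨l, hl⟩ => hl ▸ hbase ⟨_, Submodule.mem_sup_left
        (Submodule.subset_span ⟨l, rM_self _ le_rfl _⟩)⟩
    · rintro _ ⟨b, rfl⟩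
      have hb := (isAssAll_of_isCohF hF hA hN H hH (U k) (hU k)).mem_span_restrict
        (σ := Ms H (U k)) (s := id) (by rw [Set.range_id, Submodule.span_univ])
        (show IsAffineOpen (W' ⊓ U k) by rwa [inf_eq_left.2 hWk]) inf_le_right b
      induction hb using Submodule.span_induction with
      | mem w hw =>
        obtain ⟨c, rfl⟩ := hw
        rw [app_rM]
        exact hbase ⟨_, Submodule.mem_sup_right ⟨c, rfl⟩⟩
      | zero => rw [map_zero]; exact Y.zero_mem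
      | add a b _ _ ha hb => rw [map_add]; exact Y.add_mem ha hb
      | smul r a _ ha => rw [map_smul]; exact Y.smul_mem _ ha
  refine ⟨hB.ass_of_locIso hsj hi, ?_⟩
  have : Module.Finite (Rg (𝔛.Osh hF) (U k)) (Ms H (U k)) := finite_of_isCohF hF hA hN hH (hU k)
  have hfg : C'.FG := (Submodule.fg_span (Set.finite_range _)).sup
    ((LinearMap.range_eq_map (app h (U k))).symm ▸ Module.Finite.fg_top.map _)
  have : Module.Finite (Rg (𝔛.Osh hF) (U k)) C' := Module.Finite.iff_fg.2 hfg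
  exact Module.Finite.of_surjective τ (hB.bijective_of_locIso hsj hi).2

/-- An extension of ind-coherent modules on a Noetherian formal scheme is covered by coherent modules. -/
theorem IsCohCovered.middle [CompactSpace (𝔛.X 0)] {T : ShortComplex (FSch.ModF 𝔛 hF)} (hT : T.ShortExact)
    (a1 : IsAssAll hF T.X₁) (a2 : IsAssAll hF T.X₂) (c1 : IsCohCovered hF T.X₁) (c3 : IsCohCovered hF T.X₃) :
    IsCohCovered hF T.X₂ := by
  intro V x p hp
  have := hT.mono_f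
  have : IsNoetherian (𝔛.X 0) := { toIsLocallyNoetherian := hN 0 }
  have hcompact : ∀ W : (𝔛.X 0).Opens, IsCompact (W : Set (𝔛.X 0)) := fun W =>
    TopologicalSpace.NoetherianSpace.isCompact _
  obtain ⟨W₀, hW₀, hp₀, G, hG, ι, y, hy⟩ := c3 V (app T.g V x) p hp
  choose U hU hxU _ using fun z : 𝔛.X 0 =>
    exists_isAffineOpen_mem_and_subset (x := z) (U := (⊤ : (𝔛.X 0).Opens)) trivial
  obtain ⟨s, hs⟩ := isCompact_univ.elim_finite_subcover (fun z => (U z : Set (𝔛.X 0)))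
    (fun z => (U z).isOpen) fun z _ => Set.mem_iUnion.2 ⟨z, hxU z⟩
  have hgenG : ∀ z, ∃ (m : ℕ) (g : Fin m → Ms G (U z)), Submodule.span (Rg (𝔛.Osh hF) (U z)) (Set.range g) = ⊤ :=
    fun z => Submodule.fg_iff_exists_fin_generating_family.1 (finite_of_isCohF hF hA hN hG (hU z)).fg_top
  choose m g hg using hgenG
  choose e he using fun z (l : Fin (m z)) =>
    sections_surjective (isTBase_formal hF hA hN (hU z)) hT (a1 (U z) (hU z)) (hU z) le_rfl (app ι (U z) (g z l))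
  let L : ∀ (z : 𝔛.X 0) (W : (𝔛.X 0).Opens), W ≤ U z → Submodule (Rg (𝔛.Osh hF) W) (Ms T.X₂ W) :=
    fun z W h => Submodule.span _ (Set.range fun l => rM T.X₂ h (e z l))
  have hlift : ∀ (k : 𝔛.X 0) (W : (𝔛.X 0).Opens), IsAffineOpen W → ∀ (h : W ≤ U k) (a : Ms T.X₂ W)
      (b : Ms G W), app T.g W a = app ι W b → ∃ d : Ms T.X₂ W, app T.g W d = 0 ∧ a - d ∈ L k W h := by
    intro k W hW h a b hab
    obtain ⟨c, hc⟩ := (Submodule.mem_span_range_iff_exists_fun _).1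
      ((isAssAll_of_isCohF hF hA hN G hG (U k) (hU k)).mem_span_restrict (hg k) hW h b)
    refine ⟨a - ∑ l, c l • rM T.X₂ h (e k l), ?_, ?_⟩
    · rw [map_sub, map_sum, hab, ← hc, map_sum, sub_eq_zero]
      refine Finset.sum_congr rfl fun l _ => ?_
      rw [map_smul, map_smul, app_rM, app_rM, he]
    · rw [sub_sub_cancel]
      exact Submodule.sum_mem _ fun l _ => Submodule.smul_mem _ _ (Submodule.subset_span ⟨l, rfl⟩)
  have hcov : ∀ ik : (𝔛.X 0) × (𝔛.X 0), ∃ (t : Finset (𝔛.X 0)) (C : 𝔛.X 0 → (𝔛.X 0).Opens),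
      (∀ q ∈ t, IsAffineOpen (C q) ∧ C q ≤ U ik.1 ⊓ U ik.2) ∧ ∀ q ∈ U ik.1 ⊓ U ik.2, ∃ r ∈ t, q ∈ C r := by
    intro ik
    classical
    let W : (𝔛.X 0).Opens := U ik.1 ⊓ U ik.2
    choose C hC hqC hCle using fun q : W =>
      exists_isAffineOpen_mem_and_subset (x := q.1) (U := W) q.2
    obtain ⟨t, ht⟩ := (hcompact W).elim_finite_subcover (fun q : W => (C q : Set (𝔛.X 0)))
      (fun q => (C q).isOpen) fun q hq => Set.mem_iUnion.2 ⟨⟨q, hq⟩, hqC ⟨q, hq⟩⟩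
    refine ⟨t.image Subtype.val, fun q => if h : q ∈ W then C ⟨q, h⟩ else ⊥, fun q hq => ?_, fun q hq => ?_⟩
    · obtain ⟨r, -, rfl⟩ := Finset.mem_image.1 hq
      dsimp only
      rw [dif_pos r.2]
      exact ⟨hC r, hCle r⟩
    · obtain ⟨r, hr, hqr⟩ := Set.mem_iUnion₂.1 (ht hq)
      exact ⟨r.1, Finset.mem_image.2 ⟨r, hr, rfl⟩, by dsimp only; rw [dif_pos r.2]; exact hqr⟩
  choose t C hC htC using hcov
  obtain ⟨i₀, hi₀, hpi₀⟩ := Set.mem_iUnion₂.1 (hs (Set.mem_univ p))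
  obtain ⟨W₁, hW₁, hpW₁, hle₁⟩ := exists_isAffineOpen_mem_and_subset (x := p)
    (U := (W₀ ⊓ U i₀ : (𝔛.X 0).Opens)) ⟨hp₀, hpi₀⟩
  have hle₁₀ : W₁ ≤ W₀ := fun q hq => (hle₁ hq).1
  have hle₁i : W₁ ≤ U i₀ := fun q hq => (hle₁ hq).2
  let ζ := Σ ik : s × s, {r // r ∈ t (ik.1.1, ik.2.1)} × Fin (m ik.1.1)
  have hd : ∀ z : ζ, ∃ d : Ms T.X₂ (C (z.1.1.1, z.1.2.1) z.2.1), app T.g _ d = 0 ∧
      rM T.X₂ ((hC _ _ z.2.1.2).2.trans inf_le_left) (e z.1.1.1 z.2.2) - d ∈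
        L z.1.2.1 _ ((hC _ _ z.2.1.2).2.trans inf_le_right) := fun z => by
    refine hlift _ _ (hC _ _ z.2.1.2).1 _ _
      (rM G ((hC _ _ z.2.1.2).2.trans inf_le_left) (g z.1.1.1 z.2.2)) ?_
    rw [app_rM, app_rM, he]
  choose d hd0 hdL using hd
  obtain ⟨d₀, hd₀0, hd₀L⟩ := hlift i₀ W₁ hW₁ hle₁i (rM T.X₂ (hle₁₀.trans hW₀) x) (rM G hle₁₀ y) (by
    rw [app_rM, app_rM, hy, rM_rM])
  let WW : Option ζ → (𝔛.X 0).Opens := fun z => z.elim W₁ fun z => C (z.1.1.1, z.1.2.1) z.2.1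
  let dd : ∀ z, Ms T.X₂ (WW z) := fun z => match z with
    | none => d₀
    | some z => d z
  obtain ⟨H, hH, h, hrange⟩ := exists_common_coh hF hA hN WW (fun z => hcompact _) dd (fun z q hq => by
    have hz0 : app T.g _ (dd z) = 0 := by cases z; exacts [hd₀0, hd0 _]
    obtain ⟨k, hk⟩ := exists_app_eq_of_mono hT.exact (dd z) hz0
    obtain ⟨V', hV', hqV', G', hG', a, b, hb⟩ := c1 (WW z) k q hq
    exact ⟨V', hV', hqV', G', hG', a ≫ T.f, b, by rw [app_comp, hb, app_rM, hk]⟩)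
  have hconv : ∀ (i k : s) {W : (𝔛.X 0).Opens} (hi : W ≤ U i.1) (_ : W ≤ U k.1), ∀ q ∈ W,
      ∃ (W' : (𝔛.X 0).Opens) (j : W' ≤ W) (hk' : W' ≤ U k.1), q ∈ W' ∧ ∀ a ∈ genSub hF h (e i.1) hi,
        rM T.X₂ j a ∈ genSub hF h (e k.1) hk' := by
    intro i k W hi hk q hq
    obtain ⟨r, hr, hqr⟩ := htC (i.1, k.1) q ⟨hi hq, hk hq⟩
    choose V' hV' hqV' hmem using fun l : Fin (m i.1) =>
      hrange (some ⟨(i, k), ⟨r, hr⟩, l⟩) q hqr
    let W' : (𝔛.X 0).Opens := (W ⊓ C (i.1, k.1) r) ⊓ Finset.univ.inf V'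
    have hqinf : ∀ T' : Finset (Fin (m i.1)), q ∈ T'.inf V' := by
      intro T'
      classical
      induction T' using Finset.induction_on with
      | empty => exact trivial
      | insert b T' _ ih => rw [Finset.inf_insert]; exact ⟨hqV' b, ih⟩
    have hW'W : W' ≤ W := inf_le_left.trans inf_le_left
    refine ⟨W', hW'W, hW'W.trans hk, ⟨⟨hq, hqr⟩, hqinf _⟩, fun a ha => ?_⟩
    obtain ⟨a₁, ha₁, a₂, ⟨b, rfl⟩, rfl⟩ := Submodule.mem_sup.1 ha
    rw [map_add]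
    refine Submodule.add_mem _ ?_ (Submodule.mem_sup_right ⟨rM H hW'W b, app_rM h hW'W b⟩)
    clear ha
    induction ha₁ using Submodule.span_induction with
    | mem a ha =>
      obtain ⟨l, rfl⟩ := ha
      let z : ζ := ⟨(i, k), ⟨r, hr⟩, l⟩
      let D : Ms T.X₂ (C (i.1, k.1) r) := d z
      have hWC : W' ≤ C (i.1, k.1) r := inf_le_left.trans inf_le_right
      have hl : W' ≤ V' l := inf_le_right.trans (Finset.inf_le (Finset.mem_univ l))
      obtain ⟨b', hb'⟩ := hmem l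
      have h1 : rM T.X₂ hWC D ∈ LinearMap.range (app h W') :=
        ⟨rM H hl b', (app_rM h hl b').trans ((congrArg (rM T.X₂ hl) hb').trans (rM_rM _ _ _ D))⟩
      have h2 := rM_mem_genSub hF h (e k.1) ((hC _ _ hr).2.trans inf_le_right) hWC _ (Submodule.mem_sup_left (hdL z))
      rw [map_sub, rM_rM] at h2
      show rM T.X₂ hW'W (rM T.X₂ hi (e i.1 l)) ∈ _
      rw [rM_rM]
      exact (sub_add_cancel (rM T.X₂ (hW'W.trans hi) (e i.1 l)) (rM T.X₂ hWC D)) ▸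
        Submodule.add_mem _ h2 (Submodule.mem_sup_right h1)
    | zero => rw [map_zero]; exact Submodule.zero_mem _
    | add a b _ _ ha hb => rw [map_add]; exact Submodule.add_mem _ ha hb
    | smul r a _ ha => rw [rM_smul]; exact Submodule.smul_mem _ _ ha
  have hcovU : ∀ q, ∃ k : s, q ∈ U k.1 := fun q => by
    obtain ⟨k, hk, hqk⟩ := Set.mem_iUnion₂.1 (hs (Set.mem_univ q))
    exact ⟨⟨k, hk⟩, hqk⟩
  let N := genLocSub hF h (fun k : s => U k.1) (fun k => e k.1) hcovU hconv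
  have hNcoh := isCohF_genLocSub hF hA hN h hH a2 (fun k : s => U k.1) (fun k => hU k.1) (fun k => e k.1) hcovU hconv
  obtain ⟨W₂, hW₂', hpW₂, b, hb⟩ := hrange none p hpW₁
  have hW₂ : W₂ ≤ W₁ := hW₂'
  have hmemN : rM T.X₂ ((hW₂.trans hle₁₀).trans hW₀) x ∈ N.mem W₂ := fun q hq => by
    refine ⟨W₂, le_rfl, hq, _, ⟨⟨i₀, hi₀⟩, hW₂.trans hle₁i, rfl⟩, ?_⟩
    have h1 := rM_mem_genSub hF h (e i₀) hle₁i hW₂ _ (Submodule.mem_sup_left hd₀L)
    rw [map_sub, rM_rM] at h1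
    have h2 : rM T.X₂ hW₂ d₀ ∈ LinearMap.range (app h W₂) := ⟨b, hb⟩
    rw [rM_self]
    exact (sub_add_cancel (rM T.X₂ ((hW₂.trans hle₁₀).trans hW₀) x) (rM T.X₂ hW₂ d₀)) ▸
      Submodule.add_mem _ h1 (Submodule.mem_sup_right h2)
  obtain ⟨nx, hnx⟩ := N.exists_app_eq hmemN
  exact ⟨W₂, (hW₂.trans hle₁₀).trans hW₀, hpW₂, N.toMod, hNcoh, N.ι, nx, hnx⟩

theorem IsCohCovered.kernel {𝔉 𝔊 : FSch.ModF 𝔛 hF} (a1 : IsAssAll hF 𝔉) (a2 : IsAssAll hF 𝔊)
    (c1 : IsCohCovered hF 𝔉) (φ : 𝔉 ⟶ 𝔊) : IsCohCovered hF (Limits.kernel φ) := by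
  intro V x p hp
  obtain ⟨W, hW, hpW, G, hG, ι, y, hy⟩ := c1 V (app (kernel.ι φ) V x) p hp
  have hK := IsAssAll.kernel hF hA hN (isAssAll_of_isCohF hF hA hN G hG) a2 (ι ≫ φ)
  have hQ := IsAssAll.isQuasicoherent hF hA hN _ hK
  have hcoh : FSch.IsCohF 𝔛 hF (Limits.kernel (ι ≫ φ)) :=
    @isCohF_of_mono 𝔛 hF hA hN G (Limits.kernel (ι ≫ φ)) hQ hG (kernel.ι (ι ≫ φ)) inferInstance
  exact Exists.elim (exists_lift_kernel (O := 𝔛.Osh hF) (F := 𝔉) (G := 𝔊) (H := G) φ ι (V := V) (W := W) hW x y hy) fun a hh =>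
    Exists.elim hh fun z hz => ⟨W, hW, hpW, _, hcoh, a, z, hz⟩

/-- The middle term of a five term exact sequence. -/
theorem indCohF_middle [CompactSpace (𝔛.X 0)] (S : ComposableArrows (FSch.ModF 𝔛 hF) 4) (hS : S.Exact)
    (h₀ : IsAssAll hF (S.obj 0) ∧ IsCohCovered hF (S.obj 0)) (h₁ : IsAssAll hF (S.obj 1) ∧ IsCohCovered hF (S.obj 1))
    (h₃ : IsAssAll hF (S.obj 3) ∧ IsCohCovered hF (S.obj 3)) (h₄ : IsAssAll hF (S.obj 4) ∧ IsCohCovered hF (S.obj 4)) :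
    IsAssAll hF (S.obj 2) ∧ IsCohCovered hF (S.obj 2) := by
  obtain ⟨p, w₁, q, w₂, hex, hp, hse⟩ := exists_shortExact_middle S hS
  have aQ : IsAssAll hF (Limits.kernel (S.map' 3 4)) := IsAssAll.kernel hF hA hN h₃.1 h₄.1 _
  have cQ : IsCohCovered hF (Limits.kernel (S.map' 3 4)) := IsCohCovered.kernel hF hA hN h₃.1 h₄.1 h₃.2 _
  have aK : IsAssAll hF (Limits.kernel (S.map' 2 3)) := fun U hU =>
    haveI : Epi (ShortComplex.mk _ _ w₁).g := hp
    Ass.of_exact_epi (isTBase_formal hF hA hN hU) hex (h₀.1 U hU) (h₁.1 U hU)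
  have cK : IsCohCovered hF (Limits.kernel (S.map' 2 3)) := IsCohCovered.of_epi hF h₁.2 p
  have a2 : IsAssAll hF (S.obj 2) := fun U hU =>
    Ass.of_shortExact (isTBase_formal hF hA hN hU) hse (aK U hU) (aQ U hU)
  exact ⟨a2, IsCohCovered.middle hF hA hN hse aK a2 cK cQ⟩

end Groth.Agent.FormalSch78
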