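import Groth.Agent.ModTensor.SheafHom
import Groth.Agent.ModTensor.ProjSheaf
import Mathlib.Algebra.Category.ModuleCat.Sheaf.Quasicoherent
import Mathlib.CategoryTheory.Adjunction.Mates

/-!
# The internal hom out of a finitely presented module on a site
-/

universe u

open CategoryTheory CategoryTheory.Limits Opposite

namespace Groth.Agent.FormalSch78

attribute [local instance] Abelian.hasFiniteBiproducts

variable {C : Type u} [SmallCategory C] {J : GrothendieckTopology C} {O : Sheaf J CommRingCat.{u}}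

/-- `- ⊗ M`. -/
noncomputable abbrev ten (M : ModSite.Mod O) : ModSite.Mod O ⥤ ModSite.Mod O :=
  (ModSite.tensorBi O).flip.obj M

/-- `Hom(M, -)`. -/
noncomputable def ihom (M : ModSite.Mod O) : ModSite.Mod O ⥤ ModSite.Mod O :=
  haveI := ModTensor.hasSheafHom M
  ModSite.sheafHom M

/-- The adjunction of `ihom M`. -/
noncomputable def ihomAdj (M : ModSite.Mod O) : ten M ⊣ ihom M :=
  haveI := ModTensor.hasSheafHom M
  ModSite.sheafHomAdj M

theorem nonempty_ihom_iso (M : ModSite.Mod O) [ModSite.HasSheafHom M] :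
    Nonempty (ModSite.sheafHom M ≅ ihom M) :=
  ⟨(ModSite.sheafHomAdj M).rightAdjointUniq (ihomAdj M)⟩

/-- Contravariance. -/
noncomputable def ihomMap {M M' : ModSite.Mod O} (g : M ⟶ M') : ihom M' ⟶ ihom M :=
  conjugateEquiv (ihomAdj M') (ihomAdj M) ((ModSite.tensorBi O).flip.map g)

theorem homEquiv_ihomMap {M M' : ModSite.Mod O} (g : M ⟶ M') {Z N : ModSite.Mod O} (a : Z ⟶ (ihom M').obj N) :
    ((ihomAdj M).homEquiv Z N).symm (a ≫ (ihomMap g).app N) =
      ((ModSite.tensorBi O).flip.map g).app Z ≫ ((ihomAdj M').homEquiv Z N).symm a := by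
  have h : (ten M).map ((ihomMap g).app N) ≫ (ihomAdj M).counit.app N =
      ((ModSite.tensorBi O).flip.map g).app ((ihom M').obj N) ≫ (ihomAdj M').counit.app N :=
    conjugateEquiv_counit _ _ _ N
  rw [Adjunction.homEquiv_counit, Adjunction.homEquiv_counit, Functor.map_comp, Category.assoc,
    h, ← Category.assoc]
  exact (congrArg (· ≫ _) (((ModSite.tensorBi O).flip.map g).naturality a)).trans (Category.assoc _ _ _)

theorem ihom_hom_ext {M Z N : ModSite.Mod O} {a b : Z ⟶ (ihom M).obj N}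
    (h : ((ihomAdj M).homEquiv Z N).symm a = ((ihomAdj M).homEquiv Z N).symm b) : a = b :=
  ((ihomAdj M).homEquiv Z N).symm.injective h

theorem ihomMap_comp {M M' M'' : ModSite.Mod O} (f : M ⟶ M') (g : M' ⟶ M'') (N : ModSite.Mod O) :
    (ihomMap (f ≫ g)).app N = (ihomMap g).app N ≫ (ihomMap f).app N := by
  refine ihom_hom_ext ?_
  have h := homEquiv_ihomMap (f ≫ g) (𝟙 ((ihom M'').obj N))
  rw [Category.id_comp] at h
  have h' := homEquiv_ihomMap g (𝟙 ((ihom M'').obj N))
  rw [Category.id_comp] at h'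
  rw [h, homEquiv_ihomMap, h', Functor.map_comp, NatTrans.comp_app, Category.assoc]

theorem ihomMap_id (M N : ModSite.Mod O) : (ihomMap (𝟙 M)).app N = 𝟙 _ := by
  refine ihom_hom_ext ?_
  have h := homEquiv_ihomMap (𝟙 M) (𝟙 ((ihom M).obj N))
  rw [Category.id_comp] at h
  rw [h, CategoryTheory.Functor.map_id, NatTrans.id_app, Category.id_comp]

theorem isZero_ihom {M : ModSite.Mod O} (hM : IsZero M) (N : ModSite.Mod O) : IsZero ((ihom M).obj N) := by
  rw [IsZero.iff_id_eq_zero, ← ihomMap_id M N]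
  refine ihom_hom_ext ?_
  have h := homEquiv_ihomMap (𝟙 M) (𝟙 ((ihom M).obj N))
  rw [Category.id_comp] at h
  rw [h]
  exact (Functor.map_isZero ((ModSite.tensorBi O).obj ((ihom M).obj N)) hM).eq_of_src _ _

/-- `Hom(O, -) = id`. -/
noncomputable def ihomUnitIso : ihom (ModSite.unit O) ≅ 𝟭 (ModSite.Mod O) :=
  (ihomAdj (ModSite.unit O)).rightAdjointUniq
    (Adjunction.id.ofNatIsoLeft ((ModTensor.tensorFlipIso (O := O)).app (ModSite.unit O) ≪≫
      ModTensor.unitTensorIso (O := O)).symm)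

theorem tensor_preservesColimits (Z : ModSite.Mod O) :
    PreservesColimitsOfSize.{u, u} ((ModSite.tensorBi O).obj Z) :=
  inferInstance

/-- `Hom` out of a cokernel is a kernel. -/
theorem ihom_cokernel {A B E : ModSite.Mod O} (f : A ⟶ B) (g : B ⟶ E) (w : f ≫ g = 0)
    (hc : IsColimit (CokernelCofork.ofπ g w)) (N : ModSite.Mod O) :
    ∃ w' : (ihomMap g).app N ≫ (ihomMap f).app N = 0,
      Nonempty (IsLimit (KernelFork.ofι ((ihomMap g).app N) w')) := by
  have hten : ∀ Z : ModSite.Mod O, ∃ w' : ((ModSite.tensorBi O).obj Z).map f ≫ ((ModSite.tensorBi O).obj Z).map g = 0,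
      Nonempty (IsColimit (CokernelCofork.ofπ (((ModSite.tensorBi O).obj Z).map g) w')) := fun Z => by
    have := tensor_preservesColimits Z
    have : PreservesFiniteColimits ((ModSite.tensorBi O).obj Z) :=
      PreservesColimitsOfSize.preservesFiniteColimits _
    exact ⟨_, ⟨isColimitCoforkMapOfIsColimit' _ w hc⟩⟩
  have hz : (ihomMap g).app N ≫ (ihomMap f).app N = 0 := by
    rw [← ihomMap_comp, w]
    refine ihom_hom_ext ?_
    have h := homEquiv_ihomMap (0 : A ⟶ E) (𝟙 ((ihom E).obj N))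
    rw [Category.id_comp] at h
    have e : ((ModSite.tensorBi O).flip.map (0 : A ⟶ E)).app ((ihom E).obj N) = 0 :=
      Functor.map_zero ((ModSite.tensorBi O).obj ((ihom E).obj N)) A E
    rw [h, e, zero_comp, Adjunction.homEquiv_counit, Functor.map_zero, zero_comp]
  refine ⟨hz, ⟨KernelFork.IsLimit.ofι _ hz (fun {Z} a ha => ((ihomAdj E).homEquiv Z N)
    (((hten Z).choose_spec.some).desc (CokernelCofork.ofπ (((ihomAdj B).homEquiv Z N).symm a) ?_)))
    (fun {Z} a ha => ihom_hom_ext ?_) fun {Z} a ha m hm => ?_⟩⟩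
  · refine (homEquiv_ihomMap f a).symm.trans ?_
    rw [ha, Adjunction.homEquiv_counit, Functor.map_zero, zero_comp]
  · rw [homEquiv_ihomMap, Equiv.symm_apply_apply]
    exact Cofork.IsColimit.π_desc (hten Z).choose_spec.some
  · refine (Equiv.apply_eq_iff_eq_symm_apply _).2 ?_ |>.symm
    refine (Cofork.IsColimit.hom_ext (hten Z).choose_spec.some ?_)
    refine (Cofork.IsColimit.π_desc (hten Z).choose_spec.some).trans ?_
    refine Eq.trans ?_ (homEquiv_ihomMap g m)
    rw [hm]
    rfl

/-- `Hom` out of a finite free module is a power. -/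
theorem exists_ihom_free_iso (σ : Type u) [Finite σ] (N : ModSite.Mod O) :
    ∃ (n : ℕ), Nonempty ((ihom (SheafOfModules.free (R := ModSite.ringSh O) σ)).obj N ≅ ⨁ fun _ : Fin n => N) := by
  classical
  obtain ⟨n, ⟨e⟩⟩ := Finite.exists_equiv_fin σ
  refine ⟨n, ⟨?_⟩⟩
  let ι : σ → (ModSite.unit O ⟶ SheafOfModules.free (R := ModSite.ringSh O) σ) := fun i => SheafOfModules.ιFree i
  let hc := SheafOfModules.isColimitFreeCofan (R := ModSite.ringSh O) σ
  let c : Fan fun _ : σ => (ihom (ModSite.unit O)).obj N :=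
    Fan.mk ((ihom (SheafOfModules.free (R := ModSite.ringSh O) σ)).obj N) fun i => (ihomMap (ι i)).app N
  have hlim : IsLimit c := by
    have hZ : ∀ Z : ModSite.Mod O, IsColimit (Cofan.mk _ fun i : σ => ((ModSite.tensorBi O).obj Z).map (ι i)) := fun Z =>
      haveI := tensor_preservesColimits Z
      haveI : PreservesColimit (Discrete.functor fun _ : σ => ModSite.unit O) ((ModSite.tensorBi O).obj Z) := inferInstance
      isColimitCofanMkObjOfIsColimit _ _ ι hc
    refine mkFanLimit c (fun s => ((ihomAdj _).homEquiv s.pt N)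
        (Cofan.IsColimit.desc (hZ s.pt) fun i => ((ihomAdj _).homEquiv s.pt N).symm (s.proj i)))
      (fun s i => ihom_hom_ext ?_) fun s m hm => ?_
    · show ((ihomAdj _).homEquiv s.pt N).symm (_ ≫ (ihomMap (ι i)).app N) = _
      rw [homEquiv_ihomMap, Equiv.symm_apply_apply]
      exact Cofan.IsColimit.fac (hZ s.pt) _ i
    · refine (Equiv.apply_eq_iff_eq_symm_apply _).2 ?_ |>.symm
      refine Cofan.IsColimit.hom_ext (hZ s.pt) _ _ fun i => ?_
      rw [Cofan.IsColimit.fac]
      refine Eq.trans ?_ (homEquiv_ihomMap (ι i) m)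
      rw [← hm i]
      rfl
  exact hlim.conePointUniqueUpToIso (limit.isLimit _) ≪≫
    Pi.whiskerEquiv (g := fun _ : Fin n => N) e (fun _ => ((ihomUnitIso (O := O)).app N).symm) ≪≫
      (biproduct.isoProduct _).symm

end Groth.Agent.FormalSch78
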