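import Groth.Agent.FormalSch78.OverKernel
import Groth.Agent.FormalSch78.SheafHomSite
import Groth.Agent.FormalSch78.IndExt

/-!
# The sheaf of homomorphisms of coherent modules
-/

universe u

open CategoryTheory CategoryTheory.Limits AlgebraicGeometry Opposite
open Groth.Agent.ModTensor Groth.Agent.ModPull

namespace Groth.Agent.FormalSch78

attribute [local instance] Abelian.hasFiniteBiproducts

section Generic

variable {X : TopCat.{u}} {O : Sheaf (Opens.grothendieckTopology X) CommRingCat.{u}}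

/-- Below a chart the internal hom is a kernel between powers. -/
theorem exists_restr_sheafHom_kernel (U : TopologicalSpace.Opens X) (F N : ModSite.Mod O) [ModSite.HasSheafHom F]
    (P : ((ModSite.restr O U).obj F).Presentation) [Finite P.generators.I] [Finite P.relations.I] :
    ∃ (n m : ℕ) (φ : (ModSite.restr O U).obj ((ModSite.sheafHom F).obj N) ⟶
        (ModSite.restr O U).obj (⨁ fun _ : Fin n => N))
      (ψ : (ModSite.restr O U).obj (⨁ fun _ : Fin n => N) ⟶ (ModSite.restr O U).obj (⨁ fun _ : Fin m => N))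
      (w : φ ≫ ψ = 0), Nonempty (IsLimit (KernelFork.ofι φ w)) := by
  let O' := O.over U
  let R := ModSite.restr O U
  have := hasSheafHom (R.obj F)
  let adj₁ := (ModSite.extZeroAdj O U).comp (ModSite.sheafHomAdj F)
  let adj₂ := ((ihomAdj (R.obj F)).comp (ModSite.extZeroAdj O U)).ofNatIsoLeft
    (extZeroTensorIso O U F)
  let e₀ : R.obj ((ModSite.sheafHom F).obj N) ≅ (ihom (R.obj F)).obj (R.obj N) :=
    (adj₁.rightAdjointUniq adj₂).app N
  obtain ⟨w', ⟨hk⟩⟩ := ihom_cokernel _ _ _ P.isColimit (R.obj N)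
  obtain ⟨n, ⟨en⟩⟩ := exists_ihom_free_iso (O := O') P.generators.I (R.obj N)
  obtain ⟨m, ⟨em⟩⟩ := exists_ihom_free_iso (O := O') P.relations.I (R.obj N)
  have : R.IsRightAdjoint := (ModSite.extZeroAdj O U).isRightAdjoint
  let pw : ∀ k : ℕ, (⨁ fun _ : Fin k => R.obj N) ≅ R.obj (⨁ fun _ : Fin k => N) := fun k =>
    biproduct.isoProduct _ ≪≫ (PreservesProduct.iso R fun _ : Fin k => N).symm ≪≫
      R.mapIso (biproduct.isoProduct _).symm
  let α := en ≪≫ pw n
  let β := em ≪≫ pw m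
  let q := (ihomMap P.generators.π).app (R.obj N)
  let r := (ihomMap ((SheafOfModules.freeHomEquiv _).symm P.relations.s ≫ kernel.ι P.generators.π)).app (R.obj N)
  have hqr : q ≫ r = 0 := w'
  have hw : (e₀.hom ≫ q ≫ α.hom) ≫ α.inv ≫ r ≫ β.hom = 0 := by
    simp only [Category.assoc, Iso.hom_inv_id_assoc]
    rw [← Category.assoc q r β.hom, hqr, zero_comp, comp_zero]
  refine ⟨n, m, e₀.hom ≫ q ≫ α.hom, α.inv ≫ r ≫ β.hom, hw, ⟨?_⟩⟩
  have : Mono q := Fork.IsLimit.mono hk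
  refine KernelFork.IsLimit.ofι' _ hw fun {Z} a ha => ?_
  have ha' : (a ≫ α.inv) ≫ r = 0 := by
    rw [← cancel_mono β.hom, zero_comp]
    simpa only [Category.assoc] using ha
  obtain ⟨b, hb⟩ := KernelFork.IsLimit.lift' hk (a ≫ α.inv) ha'
  refine ⟨b ≫ e₀.inv, ?_⟩
  have hb' : b ≫ q = a ≫ α.inv := hb
  simp only [Category.assoc, Iso.inv_hom_id_assoc]
  rw [← Category.assoc b q α.hom, hb', Category.assoc, Iso.inv_hom_id, Category.comp_id]

/-- A chart with finitely generated sections over a Noetherian ring has a finite presentation. -/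
theorem Ass.exists_finite_presentation {S : QCoh.Ab.CoverSystem X} {U : TopologicalSpace.Opens X}
    (hB : IsTBase O S U) {F : ModSite.Mod O} (hass : Ass S U F) [IsNoetherianRing (Rg O U)]
    [Module.Finite (Rg O U) (Ms F U)] :
    ∃ P : ((ModSite.restr O U).obj F).Presentation, Finite P.generators.I ∧ Finite P.relations.I := by
  obtain ⟨n, g, hg⟩ := Module.Finite.exists_fin (R := Rg O U) (M := Ms F U)
  let s : ULift.{u} (Fin n) → Ms F U := g ∘ ULift.down
  have hs : Submodule.span (Rg O U) (Set.range s) = ⊤ := by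
    rw [ULift.down_surjective.range_comp, hg]
  obtain ⟨m, v, hv⟩ := Submodule.fg_iff_exists_fin_generating_family.1
    (IsNoetherian.noetherian (LinearMap.ker (Finsupp.linearCombination (Rg O U) s)))
  have hp := Ass.isPres (τ := ULift.{u} (Fin m)) (v := v ∘ ULift.down) hB hass hs
    (by rw [ULift.down_surjective.range_comp, hv])
  obtain ⟨P, hP⟩ := Groth.Agent.FormalSch78.exists_presentation hp
  have := hP inferInstance inferInstance
  exact ⟨P, SheafOfModules.GeneratingSections.IsFiniteType.finite, SheafOfModules.GeneratingSections.IsFiniteType.finite⟩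

end Generic

variable {𝔛 : FSch.Sys.{u}} (hF : 𝔛.IsFormal) (hA : 𝔛.IsAdic) (hN : ∀ n, IsLocallyNoetherian (𝔛.X n))
  {𝔉 𝔊 : FSch.ModF 𝔛 hF}

include hA hN

/-- Small charts on which a coherent module has a finite presentation. -/
theorem exists_finite_presentation (h : FSch.IsCohF 𝔛 hF 𝔉) {U : (𝔛.X 0).Opens} (hU : IsAffineOpen U) :
    ∃ P : ((ModSite.restr (𝔛.Osh hF) U).obj 𝔉).Presentation, Finite P.generators.I ∧ Finite P.relations.I := by
  obtain ⟨-, -, -, -, hn⟩ := formalIdeal_spec hF hA hU hN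
  have := finite_of_isCohF hF hA hN h hU
  exact Ass.exists_finite_presentation (isTBase_formal hF hA hN hU) (isAssAll_of_isCohF hF hA hN _ h U hU)

/-- The sheaf of homomorphisms out of a coherent module. -/
theorem sheafHom_spec [ModSite.HasSheafHom 𝔉] (h𝔉 : FSch.IsCohF 𝔛 hF 𝔉) [SheafOfModules.IsQuasicoherent.{u} 𝔊] :
    SheafOfModules.IsQuasicoherent.{u} ((ModSite.sheafHom 𝔉).obj 𝔊) ∧
      (FSch.IsCohF 𝔛 hF 𝔊 → FSch.IsCohF 𝔛 hF ((ModSite.sheafHom 𝔉).obj 𝔊)) := by
  have key : ∀ x : 𝔛.X 0, ∃ U : (𝔛.X 0).Opens, IsAffineOpen U ∧ x ∈ U ∧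
      Ass (QCoh.stdCovers (𝔛.X 0)) U ((ModSite.sheafHom 𝔉).obj 𝔊) ∧
      (FSch.IsCohF 𝔛 hF 𝔊 → Module.Finite (Rg (𝔛.Osh hF) U) (Ms ((ModSite.sheafHom 𝔉).obj 𝔊) U)) := fun x => by
    obtain ⟨U, hU, hxU, -⟩ := exists_isQChart hF hA hN 𝔊 x (V := ⊤) trivial
    obtain ⟨P, h1, h2⟩ := exists_finite_presentation hF hA hN h𝔉 hU.1
    obtain ⟨n, m, φ, ψ, w, ⟨hk⟩⟩ := exists_restr_sheafHom_kernel U 𝔉 𝔊 P
    have hG : ∀ k : ℕ, Ass (QCoh.stdCovers (𝔛.X 0)) U (⨁ fun _ : Fin k => 𝔊) := fun k =>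
      Ass.biproduct _ fun _ => hU.ass
    refine ⟨U, hU.1, hxU, Ass.of_restr_kernel le_rfl (isFlatBase_formal hF hA hN hU.1) φ ψ w hk (hG n) (hG m),
      fun h𝔊 => ?_⟩
    obtain ⟨-, -, -, -, hn⟩ := formalIdeal_spec hF hA hU.1 hN
    have : Mono φ := Fork.IsLimit.mono hk
    have := finite_of_isCohF hF hA hN (isCohF_biproduct hF hA hN (fun _ : Fin n => 𝔊) fun _ => h𝔊) hU.1
    exact finite_of_restr_mono le_rfl φ
  refine ⟨isQuasicoherent_of_charts hF hA hN _ fun x => ?_, fun h𝔊 => isCohF_of_charts hF hA hN _ fun x => ?_⟩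
  · obtain ⟨U, hU, hx, ha, -⟩ := key x
    exact ⟨U, hU, hx, ha⟩
  · obtain ⟨U, hU, hx, ha, hfin⟩ := key x
    exact ⟨U, hU, hx, ha, hfin h𝔊⟩

end Groth.Agent.FormalSch78
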