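import Groth.Agent.FormalSch78.RealModPull

/-!
# Morphisms of modules of coherent systems
-/

universe u

open CategoryTheory CategoryTheory.Limits AlgebraicGeometry Opposite

namespace Groth.Agent.FormalSch78

variable {𝔛 : FSch.Sys.{u}} (hF : 𝔛.IsFormal) (hA : 𝔛.IsAdic)
  (hN : ∀ n, IsLocallyNoetherian (𝔛.X n)) (𝔐 𝔑 : FSch.ModSys 𝔛) (h𝔐 : 𝔐.IsCoh)

theorem realModMap_eq_adjunct (φ : 𝔐 ⟶ 𝔑) (n : ℕ) :
    ((FSch.levelMor 𝔛 hF n).adj.homEquiv _ _).symm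
        (FSch.ModSys.realModMap hF φ ≫ FSch.realProj 𝔛 hF 𝔑.F 𝔑.toPush n) =
      ((FSch.levelMor 𝔛 hF n).adj.homEquiv _ _).symm (FSch.realProj 𝔛 hF 𝔐.F 𝔐.toPush n) ≫ φ.app n :=
  (congrArg ((FSch.levelMor 𝔛 hF n).adj.homEquiv _ _).symm
    (FSch.realLimMap_realProj 𝔛 hF φ.app (FSch.ModSys.Hom.toPush_comm φ) n)).trans
    ((FSch.levelMor 𝔛 hF n).adj.homEquiv_naturality_right_symm _ _)

/-- The comparison map from the inverse image of the limit to a level. -/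
noncomputable def adjProj (n : ℕ) :
    Quiver.Hom (V := (𝔛.X n).Modules) ((FSch.levelMor 𝔛 hF n).pull.obj (𝔐.realMod hF)) (𝔐.F n) :=
  ((FSch.levelMor 𝔛 hF n).adj.homEquiv _ _).symm (FSch.realProj 𝔛 hF 𝔐.F 𝔐.toPush n)

include hA hN h𝔐

theorem isIso_adjProj (n : ℕ) : IsIso (C := (𝔛.X n).Modules) (adjProj hF 𝔐 n) := isIso_realProj_adjunct hF hA hN 𝔐 h𝔐 n

theorem bijective_realModMap :
    Function.Bijective (fun φ : 𝔐 ⟶ 𝔑 => FSch.ModSys.realModMap hF φ) := by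
  refine ⟨fun φ φ' h => FSch.ModSys.Hom.ext (funext fun n => ?_), fun Φ => ?_⟩
  · have := isIso_adjProj hF hA hN 𝔐 h𝔐 n
    refine (@cancel_epi (𝔛.X n).Modules _ _ _ _ (adjProj hF 𝔐 n) (@IsIso.epi_of_iso (𝔛.X n).Modules _ _ _ _ this) _ _).1 ?_
    refine (realModMap_eq_adjunct hF 𝔐 𝔑 φ n).symm.trans (Eq.trans ?_ (realModMap_eq_adjunct hF 𝔐 𝔑 φ' n))
    exact congrArg (fun Ψ => ((FSch.levelMor 𝔛 hF n).adj.homEquiv _ _).symm
      (Ψ ≫ FSch.realProj 𝔛 hF 𝔑.F 𝔑.toPush n)) h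
  let ψ : ∀ n, 𝔐.F n ⟶ 𝔑.F n := fun n =>
    haveI := isIso_adjProj hF hA hN 𝔐 h𝔐 n
    inv (adjProj hF 𝔐 n) ≫
      ((FSch.levelMor 𝔛 hF n).adj.homEquiv _ _).symm (Φ ≫ FSch.realProj 𝔛 hF 𝔑.F 𝔑.toPush n)
  have hproj : ∀ n, FSch.realProj 𝔛 hF 𝔐.F 𝔐.toPush n ≫ (FSch.levelMor 𝔛 hF n).push.map (ψ n) =
      Φ ≫ FSch.realProj 𝔛 hF 𝔑.F 𝔑.toPush n := by
    intro n
    have := isIso_adjProj hF hA hN 𝔐 h𝔐 n
    refine ((FSch.levelMor 𝔛 hF n).adj.homEquiv _ _).symm.injective ?_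
    refine ((FSch.levelMor 𝔛 hF n).adj.homEquiv_naturality_right_symm _ _).trans ?_
    exact IsIso.hom_inv_id_assoc (adjProj hF 𝔐 n) _
  have hpush : ∀ n, 𝔐.toPush n ≫ (Scheme.Modules.pushforward (𝔛.ι n)).map (ψ n) =
      ψ (n + 1) ≫ 𝔑.toPush n := by
    intro n
    have := isIso_adjProj hF hA hN 𝔐 h𝔐 (n + 1)
    let L := (FSch.levelMor 𝔛 hF (n + 1)).push
    let c := FSch.pushCompare 𝔛 hF n
    let pM := FSch.realProj 𝔛 hF 𝔐.F 𝔐.toPush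
    let pN := FSch.realProj 𝔛 hF 𝔑.F 𝔑.toPush
    refine (@cancel_epi (𝔛.X (n + 1)).Modules _ _ _ _ (adjProj hF 𝔐 (n + 1)) (@IsIso.epi_of_iso (𝔛.X (n + 1)).Modules _ _ _ _ this) _ _).1 ?_
    refine ((FSch.levelMor 𝔛 hF (n + 1)).adj.homEquiv_naturality_right_symm _ _).symm.trans ?_
    refine Eq.trans ?_ ((FSch.levelMor 𝔛 hF (n + 1)).adj.homEquiv_naturality_right_symm _ _)
    refine congrArg ((FSch.levelMor 𝔛 hF (n + 1)).adj.homEquiv _ _).symm ?_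
    have hmono : Mono (c.app (𝔑.F n)) :=
      mono_of_mono_fac (FSch.pushCompare_pushCompareInv 𝔛 hF n (𝔑.F n))
    refine (cancel_mono (c.app (𝔑.F n))).1 ?_
    have nat := c.naturality (ψ n)
    have lhs : (pM (n + 1) ≫ L.map (𝔐.toPush n ≫ (Scheme.Modules.pushforward (𝔛.ι n)).map (ψ n))) ≫
        c.app (𝔑.F n) = pM n ≫ (FSch.levelMor 𝔛 hF n).push.map (ψ n) :=
      calc (pM (n + 1) ≫ L.map (𝔐.toPush n ≫ (Scheme.Modules.pushforward (𝔛.ι n)).map (ψ n))) ≫ c.app (𝔑.F n)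
        = (pM (n + 1) ≫ (L.map (𝔐.toPush n) ≫ L.map ((Scheme.Modules.pushforward (𝔛.ι n)).map (ψ n)))) ≫
            c.app (𝔑.F n) := congrArg (fun t => (pM (n + 1) ≫ t) ≫ c.app (𝔑.F n)) (L.map_comp _ _)
      _ = (pM (n + 1) ≫ L.map (𝔐.toPush n)) ≫
            (L.map ((Scheme.Modules.pushforward (𝔛.ι n)).map (ψ n)) ≫ c.app (𝔑.F n)) :=
          ((congrArg (· ≫ c.app (𝔑.F n)) (Category.assoc _ _ _).symm).trans (Category.assoc _ _ _))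
      _ = (pM (n + 1) ≫ L.map (𝔐.toPush n)) ≫ (c.app (𝔐.F n) ≫ (FSch.levelMor 𝔛 hF n).push.map (ψ n)) :=
          congrArg ((pM (n + 1) ≫ L.map (𝔐.toPush n)) ≫ ·) nat
      _ = (pM (n + 1) ≫ (L.map (𝔐.toPush n) ≫ c.app (𝔐.F n))) ≫ (FSch.levelMor 𝔛 hF n).push.map (ψ n) :=
          ((Category.assoc _ _ _).symm.trans (congrArg (· ≫ _) (Category.assoc _ _ _)))
      _ = pM n ≫ (FSch.levelMor 𝔛 hF n).push.map (ψ n) :=
          congrArg (· ≫ _) (FSch.realProj_map 𝔛 hF 𝔐.F 𝔐.toPush n)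
    have rhs : (pM (n + 1) ≫ L.map (ψ (n + 1) ≫ 𝔑.toPush n)) ≫ c.app (𝔑.F n) = Φ ≫ pN n := by
      refine (congrArg (fun t => (pM (n + 1) ≫ t) ≫ c.app (𝔑.F n)) (L.map_comp _ _)).trans ?_
      refine ((congrArg (· ≫ c.app (𝔑.F n)) (Category.assoc _ _ _).symm).trans (Category.assoc _ _ _)).trans ?_
      refine (congrArg (· ≫ _) (hproj (n + 1))).trans ((Category.assoc _ _ _).trans ?_)
      exact congrArg (Φ ≫ ·) (FSch.realProj_map 𝔛 hF 𝔑.F 𝔑.toPush n)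
    exact lhs.trans ((hproj n).trans rhs.symm)
  let φ : 𝔐 ⟶ 𝔑 := ⟨ψ, fun n => by
    refine ((Scheme.Modules.pullbackPushforwardAdjunction (𝔛.ι n)).homEquiv _ _).injective ?_
    rw [Adjunction.homEquiv_naturality_left, Adjunction.homEquiv_naturality_right]
    exact (hpush n).symm⟩
  refine ⟨φ, limit.hom_ext fun j => ?_⟩
  exact (FSch.realLimMap_realProj 𝔛 hF φ.app (FSch.ModSys.Hom.toPush_comm φ) j.unop).trans (hproj j.unop)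

end Groth.Agent.FormalSch78
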