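import Groth.Agent.FormalSch78.AssColim
import Groth.Agent.SiteBase.ModGroth
import Mathlib.CategoryTheory.Limits.Presentation

/-!
# A module as the filtered union of a directed family of submodules
-/

universe u

open CategoryTheory CategoryTheory.Limits Opposite TopologicalSpace

namespace Groth.Agent.FormalSch78

variable {X : TopCat.{u}} {O : Sheaf (Opens.grothendieckTopology X) CommRingCat.{u}}

/-- A family of submodules, as a preorder in the universe of the site. -/
structure SubIx (F : ModSite.Mod O) (p : Subobject F → Prop) : Type u where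
  /-- the underlying index -/
  ix : Shrink.{u} {P : Subobject F // p P}

variable {F : ModSite.Mod O} {p : Subobject F → Prop}

/-- The submodule of an index. -/
noncomputable def SubIx.val (j : SubIx F p) : Subobject F := ((equivShrink _).symm j.ix).1

/-- The index of a submodule. -/
noncomputable def SubIx.mk' {P : Subobject F} (h : p P) : SubIx F p := ⟨equivShrink _ ⟨P, h⟩⟩

theorem SubIx.val_mk' {P : Subobject F} (h : p P) : (SubIx.mk' h).val = P :=
  congrArg Subtype.val (Equiv.symm_apply_apply _ _)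

theorem SubIx.prop (j : SubIx F p) : p j.val := ((equivShrink _).symm j.ix).2

noncomputable instance : Preorder (SubIx F p) := Preorder.lift SubIx.val

/-- The diagram of the submodules. -/
noncomputable def subDiag : SubIx F p ⥤ ModSite.Mod O where
  obj j := (j.val : ModSite.Mod O)
  map {a b} h := Subobject.ofLE a.val b.val (leOfHom h : a ≤ b)
  map_id _ := Subobject.ofLE_refl _
  map_comp _ _ := (Subobject.ofLE_comp_ofLE _ _ _ _ _).symm

/-- The inclusions. -/
noncomputable def subCocone : Cocone (subDiag (p := p)) where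
  pt := F
  ι :=
    { app := fun j => j.val.arrow
      naturality := fun _ _ _ => (Subobject.ofLE_arrow _).trans (Category.comp_id _).symm }

theorem exists_subColim (hne : ∃ P, p P) (hsup : ∀ P Q, p P → p Q → ∃ R, p R ∧ P ≤ R ∧ Q ≤ R)
    (hcov : ∀ (V : Opens X) (x : Ms F V), ∀ q ∈ V, ∃ (W : Opens X) (h : W ≤ V), q ∈ W ∧
      ∃ (P : Subobject F) (_ : p P) (y : Ms (P : ModSite.Mod O) W), app P.arrow W y = rM F h x) :
    ∃ (J : Type u) (_ : SmallCategory J) (_ : IsFiltered J) (pres : ColimitPresentation J F),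
      (∀ j : J, ∃ P : Subobject F, p P ∧ Nonempty (pres.diag.obj j ≅ (P : ModSite.Mod O))) ∧
        ∀ j : J, Mono (pres.ι.app j) := by
  have : Nonempty (SubIx F p) := ⟨SubIx.mk' hne.choose_spec⟩
  have : IsDirectedOrder (SubIx F p) := ⟨fun a b => by
    obtain ⟨R, hR, ha, hb⟩ := hsup _ _ a.prop b.prop
    exact ⟨SubIx.mk' hR, by show a.val ≤ _; rwa [SubIx.val_mk'], by show b.val ≤ _; rwa [SubIx.val_mk']⟩⟩
  let D := subDiag (F := F) (p := p)
  let c := subCocone (F := F) (p := p)
  have : HasColimit D := inferInstance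
  let ψ := colimit.desc D c
  have : Mono ψ := mono_of_nhds ψ fun V x hx q hq => by
    obtain ⟨V₁, h₁, hq₁, k, z, hz⟩ := locally_nhd (locally_exists_stage (colimit.isColimit D) x) q hq
    refine ⟨V₁, h₁, hq₁, ?_⟩
    have hz' : app (colimit.ι D k) V₁ z = rM _ h₁ x := hz.trans (rM_eq_rs _ h₁ (homOfLE h₁) x).symm
    have h0 : app k.val.arrow V₁ z = 0 :=
      ((congrArg (fun t => app t V₁ z) (colimit.ι_desc c k)).symm.trans
        ((congrArg (app ψ V₁) hz').trans ((app_rM ψ h₁ x).trans ((congrArg (rM _ h₁) hx).trans (map_zero _)))) :)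
    have hz0 : z = 0 := ModPull.app_injective k.val.arrow (op V₁) (h0.trans (map_zero _).symm)
    exact hz'.symm.trans ((congrArg (app (colimit.ι D k) V₁) hz0).trans (map_zero _))
  have : Epi ψ := epi_of_nhds ψ fun V x q hq => by
    obtain ⟨W, hW, hqW, P, hP, y, hy⟩ := hcov V x q hq
    let j₀ := SubIx.mk' (F := F) hP
    let g : (P : ModSite.Mod O) ⟶ D.obj j₀ := eqToHom (congrArg Subobject.underlying.obj (SubIx.val_mk' hP).symm)
    refine ⟨W, hW, hqW, app (g ≫ colimit.ι D j₀) W y, ?_⟩
    refine (app_comp (g ≫ colimit.ι D j₀) ψ W y).symm.trans ?_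
    have e : (g ≫ colimit.ι D j₀) ≫ ψ = P.arrow :=
      (Category.assoc _ _ _).trans ((congrArg (g ≫ ·) (colimit.ι_desc c j₀)).trans
        (Subobject.arrow_congr _ _ (SubIx.val_mk' hP).symm))
    exact (congrArg (fun t => app t W y) e).trans hy
  have : IsIso ψ := isIso_of_mono_of_epi ψ
  exact ⟨SubIx F p, inferInstance, inferInstance,
    ⟨D, c.ι, IsColimit.ofPointIso (colimit.isColimit D) (i := this)⟩,
    fun j => ⟨j.val, j.prop, ⟨Iso.refl _⟩⟩, fun j => inferInstanceAs (Mono j.val.arrow)⟩

end Groth.Agent.FormalSch78
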