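import Groth.Agent.FormalSch78.QCohF
import Groth.Agent.FormalSch78.SubColim
import Groth.Agent.FormalSch78.FreeCoh
import Groth.Agent.SiteBase.ModGroth
import Mathlib.CategoryTheory.ObjectProperty.Ind

/-!
# Ind-coherent modules on locally Noetherian formal schemes
-/

universe u

open CategoryTheory CategoryTheory.Limits AlgebraicGeometry Opposite

namespace Groth.Agent.FormalSch78

attribute [local instance] Abelian.hasFiniteBiproducts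

variable {𝔛 : FSch.Sys.{u}} (hF : 𝔛.IsFormal) (hA : 𝔛.IsAdic) (hN : ∀ n, IsLocallyNoetherian (𝔛.X n))
  (𝔉 : FSch.ModF 𝔛 hF)

/-- Given by tensor products on every affine open. -/
def IsAssAll : Prop := ∀ U : (𝔛.X 0).Opens, IsAffineOpen U → Ass (QCoh.stdCovers (𝔛.X 0)) U 𝔉

/-- Locally every section comes from a coherent module. -/
def IsCohCovered : Prop :=
  ∀ (V : (𝔛.X 0).Opens) (x : Ms 𝔉 V), ∀ p ∈ V, ∃ (W : (𝔛.X 0).Opens) (h : W ≤ V), p ∈ W ∧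
    ∃ (G : FSch.ModF 𝔛 hF) (_ : FSch.IsCohF 𝔛 hF G) (ι : G ⟶ 𝔉) (y : Ms G W), app ι W y = rM 𝔉 h x

include hA hN

theorem isAssAll_of_isCohF (h : FSch.IsCohF 𝔛 hF 𝔉) : IsAssAll hF 𝔉 := fun U hU => by
  have := isIso_toLevels hF hA hN 𝔉 h
  exact (ass_realMod hF (pullLv hF 𝔉) hA hN (isCoh_pullLv hF hA hN 𝔉 h) hU).of_iso
    (asIso (toLevels hF 𝔉)).symm

theorem IsAssAll.isQuasicoherent (h : IsAssAll hF 𝔉) : SheafOfModules.IsQuasicoherent.{u} 𝔉 :=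
  isQuasicoherent_of_charts hF hA hN _ fun x => by
    obtain ⟨U, hU, hx, -⟩ := exists_isAffineOpen_mem_and_subset (x := x) (U := (⊤ : (𝔛.X 0).Opens)) trivial
    exact ⟨U, hU, hx, h U hU⟩

variable {𝔉} {𝔊 : FSch.ModF 𝔛 hF}

theorem IsAssAll.kernel (h₁ : IsAssAll hF 𝔉) (h₂ : IsAssAll hF 𝔊) (φ : 𝔉 ⟶ 𝔊) :
    IsAssAll hF (Limits.kernel φ) := fun U hU =>
  Ass.of_mono_exact (isFlatBase_formal hF hA hN hU) (ShortComplex.exact_kernel φ) (h₁ U hU) (h₂ U hU)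

theorem IsAssAll.cokernel (h₁ : IsAssAll hF 𝔉) (h₂ : IsAssAll hF 𝔊) (φ : 𝔉 ⟶ 𝔊) :
    IsAssAll hF (Limits.cokernel φ) := fun U hU =>
  Ass.cokernel (isTBase_formal hF hA hN hU) φ (h₁ U hU) (h₂ U hU)

theorem IsAssAll.of_isColimit {K : Type u} [SmallCategory K] {D : K ⥤ FSch.ModF 𝔛 hF} {c : Cocone D}
    (hc : IsColimit c) (h : ∀ k, IsAssAll hF (D.obj k)) : IsAssAll hF c.pt := fun U hU =>
  Ass.colimit D (isTBase_formal hF hA hN hU) hc fun k => h k U hU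

/-- The image of a map from a coherent module is coherent. -/
theorem isCohF_image (hG : FSch.IsCohF 𝔛 hF 𝔉) (h : IsAssAll hF 𝔊) (φ : 𝔉 ⟶ 𝔊) :
    FSch.IsCohF 𝔛 hF (Abelian.image φ) := by
  have h1 : IsAssAll hF (Abelian.image φ) :=
    IsAssAll.kernel hF hA hN h (IsAssAll.cokernel hF hA hN (isAssAll_of_isCohF hF hA hN _ hG) h φ) (cokernel.π φ)
  have := IsAssAll.isQuasicoherent hF hA hN _ h1
  exact isCohF_of_epi hF hA hN hG (Abelian.factorThruImage φ)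

theorem isCohF_biproduct {ι : Type} [Finite ι] (f : ι → FSch.ModF 𝔛 hF) (h : ∀ i, FSch.IsCohF 𝔛 hF (f i)) :
    FSch.IsCohF 𝔛 hF (⨁ f) :=
  isCohF_of_charts hF hA hN _ fun x => by
    have := Fintype.ofFinite ι
    obtain ⟨U, hU, hx, -⟩ := exists_isAffineOpen_mem_and_subset (x := x) (U := (⊤ : (𝔛.X 0).Opens)) trivial
    obtain ⟨-, -, -, -, hn⟩ := formalIdeal_spec hF hA hU hN
    have hfin : ∀ i, Module.Finite (Rg (𝔛.Osh hF) U) (Ms (f i) U) := fun i => by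
      have := isIso_toLevels hF hA hN (f i) (h i)
      obtain ⟨-, hfin, -⟩ := realMod_spec hF (pullLv hF (f i)) hA hN (isCoh_pullLv hF hA hN (f i) (h i)) hU
      exact Module.Finite.of_surjective (app (inv (toLevels hF (f i))) U) fun y =>
        ⟨app (toLevels hF (f i)) U y, by rw [← app_comp, IsIso.hom_inv_id, app_id]⟩
    refine ⟨U, hU, hx, Ass.biproduct f fun i => isAssAll_of_isCohF hF hA hN _ (h i) U hU, ?_⟩
    refine Module.Finite.of_injective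
      (LinearMap.pi fun i => app (biproduct.π f i) U : Ms (⨁ f) U →ₗ[Rg (𝔛.Osh hF) U] ∀ i, Ms (f i) U) fun y y' h => ?_
    have e : ∀ z : Ms (⨁ f) U, z = ∑ i, app (biproduct.ι f i) U (app (biproduct.π f i) U z) := fun z => by
      have e := LinearMap.congr_fun ((congrArg (fun φ => app φ U) biproduct.total).symm.trans
        (app_sum Finset.univ (fun i => biproduct.π f i ≫ biproduct.ι f i) U)) z
      rw [LinearMap.sum_apply] at e
      exact e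
    rw [e y, e y']
    exact Finset.sum_congr rfl fun i _ => congrArg _ (congrFun h i)

omit hA hN

/-- Sections coming from a coherent module. -/
def cohSet (𝔉 : FSch.ModF 𝔛 hF) (W : (𝔛.X 0).Opens) : Set (Ms 𝔉 W) :=
  {z | ∃ (G : FSch.ModF 𝔛 hF) (_ : FSch.IsCohF 𝔛 hF G) (ι : G ⟶ 𝔉) (y : Ms G W), app ι W y = z}

theorem rM_mem_cohSet {W W' : (𝔛.X 0).Opens} (h : W' ≤ W) {z : Ms 𝔉 W} (hz : z ∈ cohSet hF 𝔉 W) :
    rM 𝔉 h z ∈ cohSet hF 𝔉 W' := by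
  obtain ⟨G, hG, ι, y, rfl⟩ := hz
  exact ⟨G, hG, ι, rM G h y, app_rM ι h y⟩

include hA hN

theorem add_mem_cohSet {W : (𝔛.X 0).Opens} {z z' : Ms 𝔉 W} (hz : z ∈ cohSet hF 𝔉 W) (hz' : z' ∈ cohSet hF 𝔉 W) :
    z + z' ∈ cohSet hF 𝔉 W := by
  obtain ⟨G, hG, ι, y, rfl⟩ := hz
  obtain ⟨G', hG', ι', y', rfl⟩ := hz'
  let f : Fin 2 → FSch.ModF 𝔛 hF := fun i => if i = 0 then G else G'
  have h0 : f 0 = G := rfl
  have h1 : f 1 = G' := rfl
  let ρ : ∀ i, f i ⟶ 𝔉 := Fin.cons (eqToHom h0 ≫ ι) (Fin.cons (eqToHom h1 ≫ ι') finZeroElim)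
  refine ⟨⨁ f, isCohF_biproduct hF hA hN f fun i => by fin_cases i <;> assumption, biproduct.desc ρ,
    app (biproduct.ι f 0) W y + app (biproduct.ι f 1) W y', ?_⟩
  rw [map_add, ← app_comp, ← app_comp, biproduct.ι_desc, biproduct.ι_desc]
  exact congrArg₂ (· + ·) (congrArg (fun φ => app φ W y) (Category.id_comp ι))
    (congrArg (fun φ => app φ W y') (Category.id_comp ι'))

omit hA hN

theorem smul_mem_cohSet {W : (𝔛.X 0).Opens} (r : Rg (𝔛.Osh hF) W) {z : Ms 𝔉 W} (hz : z ∈ cohSet hF 𝔉 W) :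
    r • z ∈ cohSet hF 𝔉 W := by
  obtain ⟨G, hG, ι, y, rfl⟩ := hz
  exact ⟨G, hG, ι, r • y, map_smul _ r y⟩

include hA hN

theorem IsCohCovered.of_isColimit {K : Type u} [SmallCategory K] {D : K ⥤ FSch.ModF 𝔛 hF} {c : Cocone D}
    (hc : IsColimit c) (h : ∀ k, IsCohCovered hF (D.obj k)) : IsCohCovered hF c.pt := by
  intro V x p hp
  obtain ⟨V₁, h₁, hp₁, hmem⟩ := locally_nhd (locally_mem_span hc x) p hp
  rw [← rM_eq_rs c.pt h₁ (homOfLE h₁)] at hmem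
  suffices key : ∃ (W : (𝔛.X 0).Opens) (hW : W ≤ V₁), p ∈ W ∧ rM c.pt hW (rM c.pt h₁ x) ∈ cohSet hF c.pt W by
    obtain ⟨W, hW, hpW, G, hG, ι, y, hy⟩ := key
    exact ⟨W, hW.trans h₁, hpW, G, hG, ι, y, hy.trans (rM_rM _ _ _ _)⟩
  generalize rM c.pt h₁ x = t at hmem
  induction hmem using Submodule.span_induction with
  | mem t ht =>
    obtain ⟨k, a, rfl⟩ := ht
    obtain ⟨W, hW, hpW, G, hG, ι, y, hy⟩ := h k V₁ a p hp₁
    exact ⟨W, hW, hpW, G, hG, ι ≫ c.ι.app k, y, (congrArg (app (c.ι.app k) W) hy).trans (app_rM _ hW a)⟩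
  | zero =>
    exact ⟨V₁, le_rfl, hp₁, FSch.unitF 𝔛 hF, isCohF_unitF hF hA hN, 0, 0, by rw [map_zero, map_zero]⟩
  | add a b _ _ ha hb =>
    obtain ⟨Wa, hWa, hpa, hza⟩ := ha
    obtain ⟨Wb, hWb, hpb, hzb⟩ := hb
    refine ⟨Wa ⊓ Wb, inf_le_left.trans hWa, ⟨hpa, hpb⟩, ?_⟩
    have := add_mem_cohSet hF hA hN (rM_mem_cohSet hF inf_le_left hza)
      (rM_mem_cohSet hF (inf_le_right : Wa ⊓ Wb ≤ Wb) hzb)
    rwa [rM_rM, rM_rM, ← map_add] at this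
  | smul r a _ ha =>
    obtain ⟨W, hW, hpW, hz⟩ := ha
    refine ⟨W, hW, hpW, ?_⟩
    rw [rM_smul]
    exact smul_mem_cohSet hF _ hz

omit hA hN

theorem IsCohCovered.of_epi (h : IsCohCovered hF 𝔉) (π : 𝔉 ⟶ 𝔊) [Epi π] : IsCohCovered hF 𝔊 := by
  intro V x p hp
  obtain ⟨V₁, h₁, hp₁, y, hy⟩ := locally_lift π x p hp
  obtain ⟨W, hW, hpW, G, hG, ι, z, hz⟩ := h V₁ y p hp₁
  refine ⟨W, hW.trans h₁, hpW, G, hG, ι ≫ π, z, ?_⟩
  rw [app_comp, hz, app_rM, hy, rM_rM]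

theorem isCohCovered_of_isCohF (h : FSch.IsCohF 𝔛 hF 𝔉) : IsCohCovered hF 𝔉 :=
  fun V x p hp => ⟨V, le_rfl, hp, 𝔉, h, 𝟙 _, x, by rw [app_id, rM_self]⟩

theorem IsCohCovered.of_iso (h : IsCohCovered hF 𝔉) (e : 𝔉 ≅ 𝔊) : IsCohCovered hF 𝔊 :=
  IsCohCovered.of_epi hF h e.hom

/-- A module covered by coherent modules which is given by tensor products is ind-coherent by coherent submodules. -/
theorem exists_colimitPresentation (hA : 𝔛.IsAdic) (hN : ∀ n, IsLocallyNoetherian (𝔛.X n))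
    (h₁ : IsAssAll hF 𝔉) (h₂ : IsCohCovered hF 𝔉) :
    ∃ (J : Type u) (_ : SmallCategory J) (_ : IsFiltered J) (pres : ColimitPresentation J 𝔉),
      (∀ j : J, FSch.IsCohF 𝔛 hF (pres.diag.obj j)) ∧ ∀ j : J, Mono (pres.ι.app j) := by
  have himg : ∀ (G : FSch.ModF 𝔛 hF), FSch.IsCohF 𝔛 hF G → ∀ ι : G ⟶ 𝔉,
      ∃ P : Subobject 𝔉, FSch.IsCohF 𝔛 hF (P : FSch.ModF 𝔛 hF) ∧ ∃ g : G ⟶ P, g ≫ P.arrow = ι := by
    intro G hG ι
    let P := Subobject.mk (Abelian.image.ι ι)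
    refine ⟨P, (SheafOfModules.isFinitePresentation.{u} (R := ModSite.ringSh (𝔛.Osh hF))).prop_of_iso
      (Subobject.underlyingIso (Abelian.image.ι ι)).symm (isCohF_image hF hA hN hG h₁ ι),
      Abelian.factorThruImage ι ≫ (Subobject.underlyingIso (Abelian.image.ι ι)).inv, ?_⟩
    rw [Category.assoc, Subobject.underlyingIso_arrow, Abelian.image.fac]
  obtain ⟨J, i₁, i₂, pres, hobj, hmono⟩ := exists_subColim
    (p := fun P : Subobject 𝔉 => FSch.IsCohF 𝔛 hF (P : FSch.ModF 𝔛 hF))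
    (by obtain ⟨P, hP, -⟩ := himg _ (isCohF_unitF hF hA hN) 0; exact ⟨P, hP⟩)
    (fun P Q hP hQ => by
      let f : Fin 2 → FSch.ModF 𝔛 hF := fun i => if i = 0 then (P : FSch.ModF 𝔛 hF) else (Q : FSch.ModF 𝔛 hF)
      let ρ : ∀ i, f i ⟶ 𝔉 := Fin.cons P.arrow (Fin.cons Q.arrow finZeroElim)
      obtain ⟨R, hR, g, hg⟩ := himg _ (isCohF_biproduct hF hA hN f fun i => by
        fin_cases i
        · exact hP
        · exact hQ) (biproduct.desc ρ)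
      exact ⟨R, hR, Subobject.le_of_comm (biproduct.ι f 0 ≫ g) (by rw [Category.assoc, hg, biproduct.ι_desc]; rfl),
        Subobject.le_of_comm (biproduct.ι f 1 ≫ g) (by rw [Category.assoc, hg, biproduct.ι_desc]; rfl)⟩)
    (fun V x q hq => by
      obtain ⟨W, hW, hqW, G, hG, ι, y, hy⟩ := h₂ V x q hq
      obtain ⟨P, hP, g, hg⟩ := himg G hG ι
      exact ⟨W, hW, hqW, P, hP, app g W y,
        (app_comp g P.arrow W y).symm.trans ((congrArg (fun t => app t W y) hg).trans hy)⟩)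
  exact ⟨J, i₁, i₂, pres, fun j => by
    obtain ⟨P, hP, ⟨e⟩⟩ := hobj j
    exact (SheafOfModules.isFinitePresentation.{u} (R := ModSite.ringSh (𝔛.Osh hF))).prop_of_iso e.symm hP, hmono⟩

/-- The ind-coherent modules. -/
theorem indCohF_iff (hA : 𝔛.IsAdic) (hN : ∀ n, IsLocallyNoetherian (𝔛.X n)) :
    (ObjectProperty.ind.{u} fun 𝔊 : FSch.ModF 𝔛 hF => FSch.IsCohF 𝔛 hF 𝔊) 𝔉 ↔
      IsAssAll hF 𝔉 ∧ IsCohCovered hF 𝔉 := by
  refine ⟨fun ⟨J, _, _, pres, h⟩ => ⟨?_, ?_⟩, fun ⟨h₁, h₂⟩ => ?_⟩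
  · exact IsAssAll.of_isColimit hF hA hN pres.isColimit fun j => isAssAll_of_isCohF hF hA hN _ (h j)
  · exact IsCohCovered.of_isColimit hF hA hN pres.isColimit fun j => isCohCovered_of_isCohF hF (h j)
  · obtain ⟨J, i₁, i₂, pres, h, -⟩ := exists_colimitPresentation hF hA hN h₁ h₂
    exact ⟨J, i₁, i₂, pres, h⟩

end Groth.Agent.FormalSch78
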