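import Groth.Agent.FormalSch78.RealModPull
import Groth.Agent.FormalSch78.ExtendHom
import Groth.Agent.FComplLib.AffSysSec
import Groth.Agent.QCoh.Local

/-!
# Inverse images of coherent modules to the levels of a formal scheme
-/

universe u

open CategoryTheory CategoryTheory.Limits AlgebraicGeometry Opposite TensorProduct

namespace Groth.Agent.FormalSch78

section General

variable {X X' : TopCat.{u}} {O : Sheaf (Opens.grothendieckTopology X) CommRingCat.{u}}
  {O' : Sheaf (Opens.grothendieckTopology X') CommRingCat.{u}} {g : X' ⟶ X}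
  {sharp : O ⟶ ((TopologicalSpace.Opens.map g).sheafPushforwardContinuous CommRingCat.{u}
    (Opens.grothendieckTopology X) (Opens.grothendieckTopology X')).obj O'}
  {F : ModSite.Mod O} {N : ModSite.Mod O'} {U : TopologicalSpace.Opens X}

/-- A base change over an isomorphic ring is a base change. -/
theorem isBC_of_ringEquiv {φ : F ⟶ (mor g sharp).push.obj N} {V : TopologicalSpace.Opens X'}
    {h : V ≤ (TopologicalSpace.Opens.map g).obj U} {S M : Type u} [CommRing S] [AddCommGroup M]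
    [Module S M] (ε : Rg O' V ≃+* S) (e : Ms N V ≃+ M) (he : ∀ r x, e (r • x) = ε r • e x)
    [Algebra (Rg O U) S] [Module (Rg O U) M] [IsScalarTower (Rg O U) S M]
    (halg : ∀ r, algebraMap (Rg O U) S r = ε (pl g sharp h r))
    {l : Ms F U →ₗ[Rg O U] M} (hl : ∀ c, l c = e (pm g sharp φ h c)) (hb : IsBaseChange S l) :
    IsBC g sharp φ h := by
  refine ⟨eq_top_iff.2 fun y _ => ?_, fun Q _ _ ρ hρ => ?_⟩
  · obtain ⟨z, rfl⟩ := e.symm.surjective y
    refine hb.inductionOn z (motive := fun z => e.symm z ∈ Submodule.span (Rg O' V) (Set.range (pm g sharp φ h)))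
      (by rw [map_zero]; exact Submodule.zero_mem _)
      (fun c => Submodule.subset_span ⟨c, by rw [hl, AddEquiv.symm_apply_apply]⟩)
      (fun s z hz => ?_) fun z z' hz hz' => by rw [map_add]; exact Submodule.add_mem _ hz hz'
    have : e.symm (s • z) = ε.symm s • e.symm z := e.injective (by
      rw [he, e.apply_symm_apply, e.apply_symm_apply, ε.apply_symm_apply])
    rw [this]
    exact Submodule.smul_mem _ _ hz
  · let : Module S Q := Module.compHom _ ε.symm.toRingHom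
    let : Module (Rg O U) Q := Module.compHom _ (algebraMap (Rg O U) S)
    have : IsScalarTower (Rg O U) S Q :=
      ⟨fun a b x => by rw [Algebra.smul_def, mul_smul]; rfl⟩
    have hsm : ∀ r (x : Q), algebraMap (Rg O U) S r • x = pl g sharp h r • x := fun r x => by
      show ε.symm (algebraMap (Rg O U) S r) • x = _
      rw [halg, RingEquiv.symm_apply_apply]
    let ρ' : Ms F U →ₗ[Rg O U] Q :=
      { ρ with map_smul' := fun r c => (hρ r c).trans (hsm r (ρ c)).symm }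
    let ℓ := hb.lift ρ'
    refine ⟨{ toFun := fun x => ℓ (e x)
              map_add' := fun x y => by rw [map_add, map_add]
              map_smul' := fun r x => by
                rw [he, map_smul]
                show ε.symm (ε r) • ℓ (e x) = r • ℓ (e x)
                rw [RingEquiv.symm_apply_apply] }, fun c => ?_⟩
    show ℓ (e (pm g sharp φ h c)) = ρ c
    rw [← hl]
    exact hb.lift_eq ρ' c

/-- Base changes are carried along isomorphisms of targets on the sections of interest. -/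
theorem IsBC.of_bijective {φ : F ⟶ (mor g sharp).push.obj N} {G : ModSite.Mod O'} {φ' : F ⟶ (mor g sharp).push.obj G}
    {V : TopologicalSpace.Opens X'} {h : V ≤ (TopologicalSpace.Opens.map g).obj U} (ψ : G ⟶ N)
    (hψ : Function.Bijective (app ψ V)) (hc : ∀ c, app ψ V (pm g sharp φ' h c) = pm g sharp φ h c)
    (hbc : IsBC g sharp φ h) : IsBC g sharp φ' h := by
  let eψ := LinearEquiv.ofBijective (app ψ V) hψ
  refine ⟨eq_top_iff.2 fun y hy => ?_, fun Q _ _ ρ hρ => ?_⟩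
  · clear hy
    obtain ⟨z, rfl⟩ := eψ.symm.surjective y
    have hz : z ∈ Submodule.span (Rg O' V) (Set.range (pm g sharp φ h)) := by
      rw [hbc.span]; exact Submodule.mem_top
    induction hz using Submodule.span_induction with
    | mem z hz =>
      obtain ⟨c, rfl⟩ := hz
      exact Submodule.subset_span ⟨c, eψ.injective (by rw [LinearEquiv.apply_symm_apply]; exact hc c)⟩
    | zero => rw [map_zero]; exact Submodule.zero_mem _
    | add z z' _ _ hz hz' => rw [map_add]; exact Submodule.add_mem _ hz hz'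
    | smul a z _ hz => rw [map_smul]; exact Submodule.smul_mem _ _ hz
  · obtain ⟨ℓ, hℓ⟩ := hbc.lift Q ρ hρ
    exact ⟨ℓ ∘ₗ app ψ V, fun c => by rw [LinearMap.comp_apply, hc, hℓ]⟩

/-- The span and lifting property give a base change. -/
theorem IsBC.isBaseChange {φ : F ⟶ (mor g sharp).push.obj N} {V : TopologicalSpace.Opens X'}
    {h : V ≤ (TopologicalSpace.Opens.map g).obj U} (hbc : IsBC g sharp φ h)
    [Algebra (Rg O U) (Rg O' V)] [Module (Rg O U) (Ms N V)] [IsScalarTower (Rg O U) (Rg O' V) (Ms N V)]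
    (halg : ∀ r, algebraMap (Rg O U) (Rg O' V) r = pl g sharp h r)
    {l : Ms F U →ₗ[Rg O U] Ms N V} (hl : ∀ c, l c = pm g sharp φ h c) : IsBaseChange (Rg O' V) l := by
  refine IsBaseChange.of_lift_unique _ fun Q _ _ _ _ ρ => ?_
  let : AddCommGroup Q := Module.addCommMonoidToAddCommGroup (Rg O' V)
  obtain ⟨ℓ, hℓ⟩ := hbc.lift Q ρ.toAddMonoidHom (fun r c => by
    rw [← halg]
    exact (ρ.map_smul r c).trans (algebraMap_smul (Rg O' V) r (ρ c)).symm)
  refine ⟨ℓ, LinearMap.ext fun c => (congrArg ℓ (hl c)).trans (hℓ c), fun ℓ' hℓ' => LinearMap.ext fun y => ?_⟩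
  have hy : y ∈ Submodule.span (Rg O' V) (Set.range (pm g sharp φ h)) := by
    rw [hbc.span]; exact Submodule.mem_top
  induction hy using Submodule.span_induction with
  | mem z hz =>
    obtain ⟨c, rfl⟩ := hz
    refine Eq.trans ?_ (hℓ c).symm
    rw [← hl]
    exact congr($hℓ' c)
  | zero => rw [map_zero, map_zero]
  | add z z' _ _ hz hz' => rw [map_add, map_add, hz, hz']
  | smul a z _ hz => rw [map_smul, map_smul, hz]

end General

variable {𝔛 : FSch.Sys.{u}} (hF : 𝔛.IsFormal) (hA : 𝔛.IsAdic) (hN : ∀ n, IsLocallyNoetherian (𝔛.X n))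
  (𝔉 : FSch.ModF 𝔛 hF) {U : (𝔛.X 0).Opens} (hU : IsAffineOpen U)
  (hass : Ass (QCoh.stdCovers (𝔛.X 0)) U 𝔉) (n : ℕ)

include hA hN hU hass

/-- A module on the level with the expected sections below the chart. -/
theorem exists_level :
    ∃ (N : (𝔛.X n).Modules) (φ : 𝔉 ⟶ (FSch.levelMor 𝔛 hF n).push.obj N),
      (∀ (W : (𝔛.X 0).Opens), IsAffineOpen W → ∀ hWU : W ≤ U,
        IsBC (𝔛.gInv hF n) (𝔛.OshProj hF n) φ
          (((TopologicalSpace.Opens.map (𝔛.gInv hF n)).map (homOfLE hWU)).le)) ∧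
      Coh.IsQCoh (N.restrict (isAffineOpen_lvU hF hU n).fromSpec) := by
  let hUn := isAffineOpen_lvU hF hU n
  let j := hUn.fromSpec
  let A := Rg (𝔛.Osh hF) U
  let C := Ms 𝔉 U
  let : Algebra A (lv hF n U) := (πlv hF n U).toAlgebra
  let L : CommRingCat.{u} := Γ(𝔛.X n, 𝔛.lvU hF n U)
  let M : ModuleCat.{u} L := ModuleCat.of (lv hF n U) ((lv hF n U) ⊗[A] C)
  let T := tilde (R := L) M
  let N : (𝔛.X n).Modules := (Scheme.Modules.pushforward j).obj T
  have hrange : ∀ {W : (𝔛.X 0).Opens}, W ≤ U → 𝔛.lvU hF n W ≤ j.opensRange := fun {W} hWU => by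
    rw [hUn.opensRange_fromSpec]
    exact ((TopologicalSpace.Opens.map (𝔛.gInv hF n)).map (homOfLE hWU)).le
  let inv := (Scheme.ΓSpecIso L).inv.hom
  have hinv : Function.Bijective inv :=
    ConcreteCategory.bijective_of_isIso (Scheme.ΓSpecIso L).inv
  let σ : A →+* Γ(Spec L, ⊤) := inv.comp (πlv hF n U)
  let : Algebra A Γ(Spec L, ⊤) := σ.toAlgebra
  let : Module A Γ(T, ⊤) := Module.compHom _ σ
  have : IsScalarTower A Γ(Spec L, ⊤) Γ(T, ⊤) :=
    ⟨fun a b x => by rw [Algebra.smul_def, mul_smul]; rfl⟩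
  let π : C →ₗ[A] Γ(T, ⊤) :=
    { toFun := fun c => FComplLib.θ (A := L) M ((1 : lv hF n U) ⊗ₜ[A] c)
      map_add' := fun c c' => (congrArg (FComplLib.θ (A := L) M) (TensorProduct.tmul_add _ c c')).trans (map_add _ _ _)
      map_smul' := fun a c => by
        refine (congrArg (FComplLib.θ (A := L) M) ?_).trans (FComplLib.θ_smul (A := L) M (πlv hF n U a) _)
        show ((1 : lv hF n U) ⊗ₜ[A] (a • c) : (lv hF n U) ⊗[A] C) = πlv hF n U a • ((1 : lv hF n U) ⊗ₜ[A] c)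
        rw [TensorProduct.tmul_smul, TensorProduct.smul_tmul', TensorProduct.smul_tmul', smul_eq_mul,
          Algebra.smul_def]
        rfl }
  have hπ : IsBaseChange Γ(Spec L, ⊤) π := by
    have hσ : Function.Surjective σ := fun y => by
      obtain ⟨r, rfl⟩ := hinv.2 y
      obtain ⟨a, rfl⟩ := surjective_πlv hF hU n r
      exact ⟨a, rfl⟩
    refine isBaseChange_of_surjective hσ π ?_ fun c hc => ?_
    · exact (FComplLib.bijective_θ (A := L) M).2.comp
        (TensorProduct.mk_surjective A C (lv hF n U) (surjective_πlv hF hU n))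
    · have h1 : ((1 : lv hF n U) ⊗ₜ[A] c : (lv hF n U) ⊗[A] C) = 0 :=
        (FComplLib.bijective_θ (A := L) M).1 ((LinearMap.mem_ker.1 hc).trans (map_zero _).symm)
      have h2 : c ∈ LinearMap.ker (TensorProduct.mk A (lv hF n U) C 1) := LinearMap.mem_ker.2 h1
      rw [(QCoh.baseChange_surjection (A := A) (surjective_πlv hF hU n)
        (TensorProduct.isBaseChange A C (lv hF n U))).2] at h2
      refine Submodule.smul_mono_left (fun a ha => ?_) h2
      exact RingHom.mem_ker.2 ((congrArg inv (RingHom.mem_ker.1 ha)).trans (map_zero _))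
  let hpre : ∀ W : (𝔛.X 0).Opens, j ⁻¹ᵁ 𝔛.lvU hF n (W ⊓ U) = j ⁻¹ᵁ 𝔛.lvU hF n W := fun W => by
    refine le_antisymm (Scheme.Hom.preimage_mono _
      (((TopologicalSpace.Opens.map (𝔛.gInv hF n)).map (homOfLE inf_le_left)).le)) fun x hx => ⟨hx, ?_⟩
    exact hUn.opensRange_fromSpec.le ⟨x, rfl⟩
  have hM : ∀ W : (𝔛.X 0).Opens,
      Function.Bijective (rM ((FSch.levelMor 𝔛 hF n).push.obj N) (inf_le_left : W ⊓ U ≤ W)) := fun W => by
    have : IsIso (homOfLE (hpre W).le) :=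
      ⟨homOfLE (hpre W).ge, Subsingleton.elim _ _, Subsingleton.elim _ _⟩
    exact ConcreteCategory.bijective_of_isIso (T.presheaf.map (homOfLE (hpre W).le).op)
  have htop : ∀ (r : lv hF n U),
      j.app (𝔛.lvU hF n U) r =
        (Spec L).presheaf.map (homOfLE (le_top : j ⁻¹ᵁ 𝔛.lvU hF n U ≤ ⊤)).op (inv r) := fun r => by
    rw [hUn.fromSpec_app_self]
    rfl
  let res : Γ(T, ⊤) →+ Γ(T, j ⁻¹ᵁ 𝔛.lvU hF n U) :=
    (T.presheaf.map (homOfLE (le_top : j ⁻¹ᵁ 𝔛.lvU hF n U ≤ ⊤)).op).hom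
  let ρ : C →ₗ[A] Ms ((FSch.levelMor 𝔛 hF n).push.obj N) U :=
    { toFun := fun c => (show Γ(N, 𝔛.lvU hF n U) from res (π c))
      map_add' := fun c c' => (congrArg res (map_add π c c')).trans (map_add res _ _)
      map_smul' := fun a c => by
        refine (congrArg res (map_smul π a c)).trans ?_
        refine (QCoh.map_smul' (M := T) (homOfLE (le_top : j ⁻¹ᵁ 𝔛.lvU hF n U ≤ ⊤)) (σ a) (π c)).trans ?_
        exact (congrArg (fun s : Γ(Spec L, j ⁻¹ᵁ 𝔛.lvU hF n U) => s • res (π c)) (htop (πlv hF n U a))).symm }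
  obtain ⟨φ, hφ⟩ := exists_hom_of_chart (isTBase_formal hF hA hN hU) hass hM ρ
  refine ⟨N, φ, fun W hW hWU => ?_, ?_⟩
  · have hWn := isAffineOpen_lvU hF hW n
    have : IsIso (j.app (𝔛.lvU hF n W)) := j.isIso_app _ (hrange hWU)
    let ε : Rg (O := (𝔛.X n).sheaf) ((TopologicalSpace.Opens.map (𝔛.gInv hF n)).obj W) ≃+*
        Γ(Spec L, j ⁻¹ᵁ 𝔛.lvU hF n W) :=
      RingEquiv.ofBijective (j.app (𝔛.lvU hF n W)).hom (ConcreteCategory.bijective_of_isIso _)
    let e : Ms (O := (𝔛.X n).sheaf) N ((TopologicalSpace.Opens.map (𝔛.gInv hF n)).obj W) ≃+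
        Γ(T, j ⁻¹ᵁ 𝔛.lvU hF n W) := AddEquiv.refl _
    let i : j ⁻¹ᵁ 𝔛.lvU hF n W ⟶ ⊤ := homOfLE le_top
    let : Algebra Γ(Spec L, ⊤) Γ(Spec L, j ⁻¹ᵁ 𝔛.lvU hF n W) :=
      ((Spec L).presheaf.map i.op).hom.toAlgebra
    let : Algebra A Γ(Spec L, j ⁻¹ᵁ 𝔛.lvU hF n W) :=
      (((Spec L).presheaf.map i.op).hom.comp σ).toAlgebra
    have : IsScalarTower A Γ(Spec L, ⊤) Γ(Spec L, j ⁻¹ᵁ 𝔛.lvU hF n W) :=
      IsScalarTower.of_algebraMap_eq fun a => rfl
    let : Module A Γ(T, j ⁻¹ᵁ 𝔛.lvU hF n W) :=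
      Module.compHom _ (algebraMap A Γ(Spec L, j ⁻¹ᵁ 𝔛.lvU hF n W))
    let : Module Γ(Spec L, ⊤) Γ(T, j ⁻¹ᵁ 𝔛.lvU hF n W) :=
      Module.compHom _ (algebraMap Γ(Spec L, ⊤) Γ(Spec L, j ⁻¹ᵁ 𝔛.lvU hF n W))
    have : IsScalarTower Γ(Spec L, ⊤) Γ(Spec L, j ⁻¹ᵁ 𝔛.lvU hF n W) Γ(T, j ⁻¹ᵁ 𝔛.lvU hF n W) :=
      ⟨fun a b x => by rw [Algebra.smul_def, mul_smul]; rfl⟩
    have : IsScalarTower A Γ(Spec L, j ⁻¹ᵁ 𝔛.lvU hF n W) Γ(T, j ⁻¹ᵁ 𝔛.lvU hF n W) :=
      ⟨fun a b x => by rw [Algebra.smul_def, mul_smul]; rfl⟩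
    have : IsScalarTower A Γ(Spec L, ⊤) Γ(T, j ⁻¹ᵁ 𝔛.lvU hF n W) := ⟨fun a b x => by
      show algebraMap Γ(Spec L, ⊤) Γ(Spec L, j ⁻¹ᵁ 𝔛.lvU hF n W) (a • b) • x =
        algebraMap A Γ(Spec L, j ⁻¹ᵁ 𝔛.lvU hF n W) a • algebraMap Γ(Spec L, ⊤) Γ(Spec L, j ⁻¹ᵁ 𝔛.lvU hF n W) b • x
      rw [Algebra.smul_def, map_mul, ← IsScalarTower.algebraMap_apply, mul_smul]⟩
    let l : Γ(T, ⊤) →ₗ[Γ(Spec L, ⊤)] Γ(T, j ⁻¹ᵁ 𝔛.lvU hF n W) :=
      { toFun := T.presheaf.map i.op
        map_add' := map_add _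
        map_smul' := fun r x => (QCoh.map_smul' (M := T) i r x).trans rfl }
    have hl : IsBaseChange Γ(Spec L, j ⁻¹ᵁ 𝔛.lvU hF n W) l :=
      isBaseChange_res (FComplLib.isQCoh_tilde (A := L) M) (isAffineOpen_top _)
        (hWn.preimage_of_isOpenImmersion j (hrange hWU)) le_top (fun r => rfl) l fun x => rfl
    let hle' := ((TopologicalSpace.Opens.map (𝔛.gInv hF n)).map (homOfLE hWU)).le
    let k : j ⁻¹ᵁ 𝔛.lvU hF n W ⟶ j ⁻¹ᵁ 𝔛.lvU hF n U := homOfLE (Scheme.Hom.preimage_mono _ hle')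
    refine isBC_of_ringEquiv (g := 𝔛.gInv hF n) (sharp := 𝔛.OshProj hF n) (O' := (𝔛.X n).sheaf) (N := N)
      ε e (fun r x => rfl) (fun a => ?_) (l := (l.restrictScalars A).comp π) (fun c => ?_)
      (IsBaseChange.comp hπ hl)
    · show (Spec L).presheaf.map i.op (inv (πlv hF n U a)) =
        j.app (𝔛.lvU hF n W) ((𝔛.X n).presheaf.map (homOfLE hle').op (πlv hF n U a))
      refine Eq.trans ?_ congr($((j.naturality (homOfLE hle').op).symm) (πlv hF n U a))
      exact Eq.trans (QCoh.ringMap_map k (homOfLE le_top) (inv (πlv hF n U a))).symm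
        (congrArg ((Spec L).presheaf.map k.op) (htop (πlv hF n U a)).symm)
    · show T.presheaf.map i.op (π c) = rM (O := (𝔛.X n).sheaf) N hle' _
      refine (QCoh.map_map (M := T) k (homOfLE le_top) (π c)).symm.trans ?_
      exact congrArg (T.presheaf.map k.op) (hφ c).symm
  · exact (QCoh.isQCoh_iff_iso ((Scheme.Modules.restrictFunctorAdjCounitIso j).app T)).2
      (FComplLib.isQCoh_tilde (A := L) M)

/-- The sections of an inverse image to a level below a chart. -/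
theorem bijective_adjunct_level {N : (𝔛.X n).Modules} (φ : 𝔉 ⟶ (FSch.levelMor 𝔛 hF n).push.obj N)
    (hφ : ∀ (W : (𝔛.X 0).Opens), IsAffineOpen W → ∀ hWU : W ≤ U,
      IsBC (𝔛.gInv hF n) (𝔛.OshProj hF n) φ
        (((TopologicalSpace.Opens.map (𝔛.gInv hF n)).map (homOfLE hWU)).le))
    {V : (𝔛.X n).Opens} (hV : V ≤ 𝔛.lvU hF n U) :
    Function.Bijective (app (((FSch.levelMor 𝔛 hF n).adj.homEquiv 𝔉 N).symm φ) V) :=
  bijective_adjunct (g := 𝔛.gInv hF n) (sharp := 𝔛.OshProj hF n) φ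
    (span_of_ass (isTBase_formal hF hA hN hU) hass) (fun V' hV' q hq => by
      obtain ⟨W, hW, hWU, hqW, hWV⟩ := exists_affine_lvU_le hF n hV' hq
      exact ⟨_, hWV, _, hqW, hφ W hW hWU⟩) hV

/-- Below a chart, the inverse image to a level is the base change of the sections. -/
theorem isBC_unit {W : (𝔛.X 0).Opens} (hW : IsAffineOpen W) (hWU : W ≤ U) :
    IsBC (𝔛.gInv hF n) (𝔛.OshProj hF n) ((FSch.levelMor 𝔛 hF n).adj.unit.app 𝔉)
      (((TopologicalSpace.Opens.map (𝔛.gInv hF n)).map (homOfLE hWU)).le) := by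
  obtain ⟨N, φ, hφ, -⟩ := exists_level hF hA hN 𝔉 hU hass n
  refine IsBC.of_bijective (((FSch.levelMor 𝔛 hF n).adj.homEquiv 𝔉 N).symm φ) ?_ (fun c => ?_) (hφ W hW hWU)
  · exact bijective_adjunct_level hF hA hN 𝔉 hU hass n φ hφ
      ((TopologicalSpace.Opens.map (𝔛.gInv hF n)).map (homOfLE hWU)).le
  · refine (app_pmu (g := 𝔛.gInv hF n) (sharp := 𝔛.OshProj hF n) _ _ c).trans ?_
    exact congrArg (fun ψ => pm (𝔛.gInv hF n) (𝔛.OshProj hF n) ψ _ c) (Equiv.apply_symm_apply _ φ)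

/-- The inverse image to a level is quasi-coherent on the chart. -/
theorem isQCoh_restrict_pull :
    Coh.IsQCoh ((show (𝔛.X n).Modules from (FSch.levelMor 𝔛 hF n).pull.obj 𝔉).restrict
      (isAffineOpen_lvU hF hU n).fromSpec) := by
  obtain ⟨N, φ, hφ, hQ⟩ := exists_level hF hA hN 𝔉 hU hass n
  let ψ : Quiver.Hom (V := (𝔛.X n).Modules) ((FSch.levelMor 𝔛 hF n).pull.obj 𝔉) N :=
    ((FSch.levelMor 𝔛 hF n).adj.homEquiv 𝔉 N).symm φ
  let j := (isAffineOpen_lvU hF hU n).fromSpec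
  let ψ' := (Scheme.Modules.restrictFunctor j).map ψ
  have : IsIso ψ' := Scheme.Modules.Hom.isIso_iff_isIso_app.mpr fun V => by
    refine (ConcreteCategory.isIso_iff_bijective (ψ.app (j ''ᵁ V))).2
      (bijective_adjunct_level hF hA hN 𝔉 hU hass n φ hφ ?_)
    exact (j.image_le_opensRange V).trans (isAffineOpen_lvU hF hU n).opensRange_fromSpec.le
  exact (QCoh.isQCoh_iff_iso (asIso ψ')).2 hQ

end Groth.Agent.FormalSch78
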