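import Groth.Agent.FormalSch78.Pres
import Groth.Agent.FormalSch78.FreeSec
import Mathlib.Algebra.Category.ModuleCat.Sheaf.Quasicoherent
import Mathlib.CategoryTheory.Sites.Over

/-!
# Presentations of restrictions and elementary presentations
-/

universe u

open CategoryTheory CategoryTheory.Limits Opposite TopologicalSpace
open Groth.Agent.ModTensor Groth.Agent.ModPull

namespace Groth.Agent.FormalSch78

variable {X : TopCat.{u}} {O : Sheaf (Opens.grothendieckTopology X) CommRingCat.{u}}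
variable {U : Opens X} {F : ModSite.Mod O}

/-- An open below `U` as an object over `U`. -/
abbrev ov {U V : Opens X} (h : V ≤ U) : Over U := Over.mk (homOfLE h)

/-- Inclusions as morphisms over `U`. -/
abbrev ovHom {U V W : Opens X} (h : V ≤ U) (h' : W ≤ V) : ov (h'.trans h) ⟶ ov h :=
  Over.homMk (homOfLE h') (Subsingleton.elim _ _)

theorem rs_restr (F : ModSite.Mod O) {Y Z : Over U} (g : Z ⟶ Y) (x : Ms F Y.left) :
    rs ((fg (O.over U)).obj ((ModSite.restr O U).obj F)) g.op
      (show ((fg (O.over U)).obj ((ModSite.restr O U).obj F)).obj (op Y) from x) =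
      rM F g.left.le x :=
  (rM_eq_rs F g.left.le g.left x).symm

theorem locally_nhd_over {Y : Over U}
    {P : ∀ ⦃Z : Over U⦄, (Z ⟶ Y) → Prop}
    (hP : Locally ((Opens.grothendieckTopology X).over U) Y P) (p : X) (hp : p ∈ Y.left) :
    ∃ (Z : Over U) (g : Z ⟶ Y), p ∈ Z.left ∧ P g := by
  obtain ⟨T, hT, hTP⟩ := hP
  obtain ⟨W, f, hf, hpW⟩ := (GrothendieckTopology.mem_over_iff _ T).1 hT p hp
  obtain ⟨Z, g, k, hg, -⟩ := hf
  exact ⟨Z, g, k.le hpW, hTP g hg⟩

theorem eq_of_nhds_over (M : ModSite.Mod (O.over U)) {Y : Over U}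
    {a b : ((fg (O.over U)).obj M).obj (op Y)}
    (h : ∀ p ∈ Y.left, ∃ (Z : Over U) (g : Z ⟶ Y), p ∈ Z.left ∧
      rs ((fg (O.over U)).obj M) g.op a = rs ((fg (O.over U)).obj M) g.op b) : a = b := by
  choose Z g hpZ hab using h
  let T₀ : Sieve Y := Sieve.generate fun W f => ∃ (p : X) (hp : p ∈ Y.left) (e : W = Z p hp),
    f = eqToHom e ≫ g p hp
  refine eq_of_locally' M ⟨T₀, (GrothendieckTopology.mem_over_iff _ _).2 ?_, ?_⟩
  · intro p hp
    exact ⟨(Z p hp).left, (g p hp).left, ⟨Z p hp, g p hp, 𝟙 _,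
      ⟨_, 𝟙 _, g p hp, ⟨p, hp, rfl, (Category.id_comp _).symm⟩, Category.id_comp _⟩,
        (Category.id_comp _).symm⟩, hpZ p hp⟩
  · rintro W f ⟨_, k, _, ⟨p, hp, rfl, rfl⟩, rfl⟩
    simp only [eqToHom_refl, Category.id_comp, op_comp, rs_comp, hab p hp]

section

variable {σ τ : Type u}

/-- A function as a scalar on the slice site. -/
abbrev sc (O : Sheaf (Opens.grothendieckTopology X) CommRingCat.{u}) {U : Opens X} {Y : Over U}
    (c : Rg O Y.left) : (O.over U).obj.obj (op Y) := c

/-- Combinations of basis sections over an open below `U`. -/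
noncomputable def bcomb (O : Sheaf (Opens.grothendieckTopology X) CommRingCat.{u}) {U : Opens X}
    (σ : Type u) (Y : Over U) :
    (σ →₀ Rg O Y.left) →+ ((fg (O.over U)).obj (freeO (O.over U) σ)).obj (op Y) :=
  (Finsupp.linearCombination ((O.over U).obj.obj (op Y)) fun i => bas i (op Y)).toAddMonoidHom

theorem bcomb_single {Y : Over U} (i : σ) (c : Rg O Y.left) :
    bcomb O σ Y (Finsupp.single i c) = sc O c • bas i (op Y) :=
  Finsupp.linearCombination_single ((O.over U).obj.obj (op Y)) _ _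

theorem bcomb_smul {Y : Over U} (c : Rg O Y.left) (a : σ →₀ Rg O Y.left) :
    bcomb O σ Y (c • a) = sc O c • bcomb O σ Y a := by
  induction a using Finsupp.induction_linear with
  | zero => rw [smul_zero, map_zero, smul_zero]
  | add b b' hb hb' => rw [smul_add, map_add, map_add, hb, hb', smul_add]
  | single j d =>
    rw [Finsupp.smul_single, bcomb_single, bcomb_single, smul_smul]
    rfl

/-- A coordinate, as a function on the underlying open. -/
noncomputable abbrev cc {σ : Type u} (O : Sheaf (Opens.grothendieckTopology X) CommRingCat.{u})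
    {U : Opens X} {Y : Over U} (i : σ)
    (z : ((fg (O.over U)).obj (freeO (O.over U) σ)).obj (op Y)) : Rg O Y.left :=
  coord (O := O.over U) i z

theorem rs_bcomb {Y Z : Over U} (g : Z ⟶ Y) (a : σ →₀ Rg O Y.left) :
    rs ((fg (O.over U)).obj (freeO (O.over U) σ)) g.op (bcomb O σ Y a) =
      bcomb O σ Z (mr O g.left.le a) := by
  induction a using Finsupp.induction_linear with
  | zero =>
    rw [map_zero, show mr O g.left.le (0 : σ →₀ Rg O Y.left) = 0 from Finsupp.mapRange_zero, map_zero]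
    exact map_zero (((fg (O.over U)).obj (freeO (O.over U) σ)).map g.op).hom
  | add a b ha hb =>
    simp only [map_add, rs_add, ha, hb, mr, Finsupp.mapRange_add (map_add _)]
  | single i c =>
    rw [show mr O g.left.le (Finsupp.single i c) = Finsupp.single i (rO O g.left.le c) from
      Finsupp.mapRange_single, bcomb_single, bcomb_single]
    refine (rs_smul g.op (sc O c) (bas i (op Y))).trans ?_
    rw [rs_bas]
    rfl

theorem coord_bcomb {Y : Over U} (i : σ) (a : σ →₀ Rg O Y.left) :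
    cc O i (bcomb O σ Y a) = a i := coord_lc (O := O.over U) i a

theorem app_bcomb {s : σ → Ms F U} (g : freeO (O.over U) σ ⟶ (ModSite.restr O U).obj F)
    (hg : ∀ i (Y : Over U), ((fg (O.over U)).map g).app (op Y) (bas i (op Y)) = rM F Y.hom.le (s i))
    (Y : Over U) (a : σ →₀ Rg O Y.left) :
    ((fg (O.over U)).map g).app (op Y) (bcomb O σ Y a) = comb s Y.hom.le a :=
  app_lc (O := O.over U) g _ (fun i => hg i Y) a

theorem app_bcomb_free (f : freeO (O.over U) τ ⟶ freeO (O.over U) σ) {Y : Over U}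
    (w : τ → σ →₀ Rg O Y.left)
    (hf : ∀ j, ((fg (O.over U)).map f).app (op Y) (bas j (op Y)) = bcomb O σ Y (w j))
    (b : τ →₀ Rg O Y.left) :
    ((fg (O.over U)).map f).app (op Y) (bcomb O τ Y b) =
      bcomb O σ Y (Finsupp.linearCombination (Rg O Y.left) w b) := by
  induction b using Finsupp.induction_linear with
  | zero =>
    refine (congrArg _ (map_zero (bcomb O τ Y))).trans ?_
    refine (map_zero (((fg (O.over U)).map f).app (op Y)).hom).trans ?_
    rw [map_zero, map_zero]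
  | add b b' hb hb' =>
    refine (congrArg _ (map_add (bcomb O τ Y) b b')).trans ?_
    refine (map_add (((fg (O.over U)).map f).app (op Y)).hom _ _).trans ?_
    refine (congrArg₂ (· + ·) hb hb').trans ?_
    rw [map_add, map_add]
  | single j c =>
    rw [bcomb_single, Finsupp.linearCombination_single, bcomb_smul, ← hf j]
    exact map_smul (((fg (O.over U)).map f).app (op Y)).hom (sc O c) _

theorem locally_bcomb {Y : Over U} (z : ((fg (O.over U)).obj (freeO (O.over U) σ)).obj (op Y)) (p : X)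
    (hp : p ∈ Y.left) :
    ∃ (Z : Over U) (g : Z ⟶ Y), p ∈ Z.left ∧ ∃ a : σ →₀ Rg O Z.left,
      bcomb O σ Z a = rs ((fg (O.over U)).obj (freeO (O.over U) σ)) g.op z := by
  obtain ⟨Z, g, hpZ, a, ha⟩ := locally_nhd_over (locally_free z) p hp
  exact ⟨Z, g, hpZ, a, ha⟩

theorem exists_finsupp {U' : Opens X} (hU' : U' ≤ U) (hU : IsCompact (U' : Set X))
    (z : ((fg (O.over U)).obj (freeO (O.over U) σ)).obj (op (ov hU'))) :
    ∃ a : σ →₀ Rg O U', bcomb O σ (ov hU') a = z := by
  classical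
  choose Z g hpZ a ha using fun p : U' => locally_bcomb z p.1 p.2
  obtain ⟨t, ht⟩ := hU.elim_finite_subcover (fun p : U' => ((Z p).left : Set X)) (fun p => (Z p).left.2)
    fun p hp => Set.mem_iUnion.2 ⟨⟨p, hp⟩, hpZ ⟨p, hp⟩⟩
  let Φs : Finset σ := t.biUnion fun p => (a p).support
  refine ⟨∑ i ∈ Φs, Finsupp.single i (cc O i z), eq_of_nhds_over _ fun x hx => ?_⟩
  obtain ⟨p, hp⟩ := Set.mem_iUnion.1 (ht hx)
  obtain ⟨hpt, hxp⟩ := Set.mem_iUnion.1 hp
  refine ⟨Z p, g p, hxp, ?_⟩
  rw [rs_bcomb, ← ha]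
  refine congrArg _ (Finsupp.ext fun i => ?_)
  have hc : rO O (g p).left.le (cc O i z) = a p i := by
    rw [← coord_bcomb i (a p), ha]
    exact (coord_rs (O := O.over U) i (g p).op z).symm
  simp only [mr, Finsupp.mapRange_apply, Finsupp.finsetSum_apply, Finsupp.single_apply,
    Finset.sum_ite_eq']
  split
  · exact hc
  · rename_i hi
    rw [map_zero]
    exact (Finsupp.notMem_support_iff.1 fun h => hi (Finset.mem_biUnion.2 ⟨p, hpt, h⟩)).symm

theorem locally_mem_span_of_shortExact {σ τ : Type u} {K M : ModSite.Mod (O.over U)}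
    (ι : K ⟶ freeO (O.over U) σ) (π : freeO (O.over U) σ ⟶ M) (w : ι ≫ π = 0)
    (hT : (ShortComplex.mk ι π w).ShortExact) (ρ : freeO (O.over U) τ ⟶ K) [Epi ρ]
    {U' : Opens X} (v : τ → σ →₀ Rg O U')
    (hv : ∀ j (Y : Over U) (hY : Y.left ≤ U'),
      ((fg (O.over U)).map (ρ ≫ ι)).app (op Y) (bas j (op Y)) = bcomb O σ Y (mr O hY (v j)))
    {Y : Over U} (hY : Y.left ≤ U') (a : σ →₀ Rg O Y.left)
    (h0 : ((fg (O.over U)).map π).app (op Y) (bcomb O σ Y a) = 0) (p : X) (hp : p ∈ Y.left) :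
    ∃ (Z : Over U) (g : Z ⟶ Y), p ∈ Z.left ∧
      mr O g.left.le a ∈ Submodule.span (Rg O Z.left)
        (Set.range fun j => mr O (g.left.le.trans hY) (v j)) := by
  obtain ⟨k, hk⟩ := exists_app_eq_of_exact hT _ h0
  obtain ⟨Z, g, hpZ, x, hx⟩ := locally_nhd_over (locally_exists_app_eq ρ k) p hp
  obtain ⟨Z', g', hpZ', b, hb⟩ := locally_bcomb x p hpZ
  refine ⟨Z', g' ≫ g, hpZ', ?_⟩
  have key : bcomb O σ Z' (mr O (g' ≫ g).left.le a) = bcomb O σ Z'
      (Finsupp.linearCombination (Rg O Z'.left) (fun j => mr O ((g' ≫ g).left.le.trans hY) (v j)) b) := by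
    rw [← app_bcomb_free (ρ ≫ ι) _ (fun j => hv j Z' ((g' ≫ g).left.le.trans hY)) b, ← rs_bcomb,
      ← hk, op_comp, rs_comp, ← app_rs, ← app_rs, ← hx, ← app_rs, ← hb]
    rfl
  have e₂ : mr O (g' ≫ g).left.le a = Finsupp.linearCombination (Rg O Z'.left)
      (fun j => mr O ((g' ≫ g).left.le.trans hY) (v j)) b := Finsupp.ext fun i => by
    rw [← coord_bcomb i (mr O _ a), key, coord_bcomb]
  rw [e₂, ← Finsupp.range_linearCombination]
  exact LinearMap.mem_range_self _ b

theorem app_bas_rs {σ : Type u} {K N : ModSite.Mod (O.over U)} (ρ : freeO (O.over U) σ ⟶ K)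
    (φ : K ⟶ N) (j : σ) {Y Z : Over U} (g : Z ⟶ Y) :
    ((fg (O.over U)).map (ρ ≫ φ)).app (op Z) (bas j (op Z)) =
      rs ((fg (O.over U)).obj N) g.op
        (((fg (O.over U)).map (ρ ≫ φ)).app (op Y) (bas j (op Y))) := by
  rw [← app_rs, rs_bas]

end

theorem exists_isPres_of {σ τ : Type u} {U' : Opens X} (hU' : U' ≤ U) (hc : IsCompact (U' : Set X))
    {K : ModSite.Mod (O.over U)} (π : freeO (O.over U) σ ⟶ (ModSite.restr O U).obj F)
    (ι : K ⟶ freeO (O.over U) σ) (w : ι ≫ π = 0) (hT : (ShortComplex.mk ι π w).ShortExact)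
    (ρ : freeO (O.over U) τ ⟶ K) [Epi ρ] :
    ∃ (s : σ → Ms F U') (v : τ → σ →₀ Rg O U'), IsPres s v := by
  let s : σ → Ms F U' := fun i => ((fg (O.over U)).map π).app _ (bas i (op (ov hU')))
  have hπ : ∀ i (Y : Over U) (h : Y.left ≤ U'),
      ((fg (O.over U)).map π).app (op Y) (bas i (op Y)) = rM F h (s i) := fun i Y h => by
    refine Eq.trans ?_ (rs_restr F (Over.homMk (homOfLE h) : Y ⟶ ov hU') (s i))
    exact (congrArg _ (rs_bas (O := O.over U) i (Over.homMk (homOfLE h) : Y ⟶ ov hU').op).symm).trans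
      (app_rs ((fg (O.over U)).map π) _ _)
  have happ : ∀ (Y : Over U) (h : Y.left ≤ U') (a : σ →₀ Rg O Y.left),
      ((fg (O.over U)).map π).app (op Y) (bcomb O σ Y a) = comb s h a := fun Y h a =>
    app_lc (O := O.over U) π _ (fun i => hπ i Y h) a
  have hex : ∀ j, ∃ c : σ →₀ Rg O U', ∀ (Y : Over U) (h : Y.left ≤ U'),
      ((fg (O.over U)).map (ρ ≫ ι)).app (op Y) (bas j (op Y)) =
        bcomb O σ Y (mr O h c) := fun j => by
    obtain ⟨c, hc⟩ := exists_finsupp hU' hc
      (((fg (O.over U)).map (ρ ≫ ι)).app _ (bas j (op (ov hU'))))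
    refine ⟨c, fun Y h => ?_⟩
    rw [app_bas_rs ρ ι j (Over.homMk (homOfLE h) : Y ⟶ ov hU'), ← hc, rs_bcomb]
  choose v hv using hex
  refine ⟨s, v, fun j => ?_, fun V hV x p hp => ?_, fun V hV a ha p hp => ?_⟩
  · have e : ((fg (O.over U)).map π).app _ (((fg (O.over U)).map (ρ ≫ ι)).app
        (op (ov hU')) (bas j (op (ov hU')))) = 0 :=
      (congrArg (fun t => ((fg (O.over U)).map t).app (op (ov hU')) (bas j (op (ov hU'))))
        ((Category.assoc ρ ι π).trans ((congrArg (ρ ≫ ·) w).trans comp_zero)) :).trans rfl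
    rw [hv j (ov hU') le_rfl, happ _ le_rfl] at e
    refine Eq.trans ?_ e
    refine (congrArg (fun t : σ → Ms F U' => Finsupp.linearCombination (Rg O U') t (v j))
      (funext fun i => (rM_self F le_rfl (s i)).symm)).trans ?_
    exact congrArg _ (Finsupp.ext fun i => (rO_self _ _).symm)
  · have : Epi π := hT.epi_g
    obtain ⟨Z, g, hpZ, z, hz⟩ := locally_nhd_over (Y := ov (hV.trans hU')) (locally_exists_app_eq π
      (show ((fg (O.over U)).obj ((ModSite.restr O U).obj F)).obj (op (ov (hV.trans hU'))) from x)) p hp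
    obtain ⟨Z', g', hpZ', a, ha⟩ := locally_bcomb z p hpZ
    refine ⟨Z'.left, g'.left.le.trans g.left.le, hpZ', a, ?_⟩
    rw [← happ Z' ((g'.left.le.trans g.left.le).trans hV) a, ha, app_rs, hz, ← rs_comp, ← op_comp]
    exact rs_restr F (g' ≫ g) x
  · have h0 : ((fg (O.over U)).map π).app (op (ov (hV.trans hU')))
        (bcomb O σ (ov (hV.trans hU')) a) = 0 := by
      rw [happ _ hV]
      exact ha
    obtain ⟨Z, g, hpZ, hm⟩ := locally_mem_span_of_shortExact ι π w hT ρ v hv
      (Y := ov (hV.trans hU')) hV a h0 p hp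
    exact ⟨Z.left, g.left.le, hpZ, hm⟩

/-- A presentation of the restriction gives generators and relations. -/
theorem exists_isPres {U' : Opens X} (hU' : U' ≤ U) (hc : IsCompact (U' : Set X))
    (P : ((ModSite.restr O U).obj F).Presentation) :
    ∃ (s : P.generators.I → Ms F U') (v : P.relations.I → P.generators.I →₀ Rg O U'), IsPres s v :=
  haveI : Epi P.relations.π := P.relations.epi
  exists_isPres_of hU' hc P.generators.π (kernel.ι P.generators.π) (kernel.condition _)
    { exact := ShortComplex.exact_of_f_is_kernel _ (kernelIsKernel _), epi_g := P.generators.epi }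
    P.relations.π

/-- Generators and relations give a presentation of the restriction. -/
theorem exists_presentation {σ τ : Type u} {s : σ → Ms F U} {v : τ → σ →₀ Rg O U} (hp : IsPres s v) :
    ∃ P : ((ModSite.restr O U).obj F).Presentation, Finite σ → Finite τ → P.IsFinite := by
  let O' := O.over U
  let M := (ModSite.restr O U).obj F
  let secs : σ → M.sections := fun i => (restrSectionsEquiv O U F).symm (s i)
  let g : freeO O' σ ⟶ M := M.freeHomEquiv.symm secs
  have hg : ∀ i (Y : Over U), ((fg O').map g).app (op Y) (bas i (op Y)) = rM F Y.hom.le (s i) :=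
    fun i Y => (desc_bas (M := M) secs i (op Y)).trans
      (rM_eq_rs F Y.hom.le Y.hom (s i)).symm
  let relSec : τ → (freeO O' σ).sections := fun j =>
    ⟨fun Y => bcomb O σ Y.unop (mr O Y.unop.hom.le (v j)), fun {Y Z} f => by
      refine (rs_bcomb f.unop _).trans ?_
      rw [mr_mr]⟩
  let f : freeO O' τ ⟶ freeO O' σ := (freeO O' σ).freeHomEquiv.symm relSec
  have hf : ∀ (Y : Over U) (b : τ →₀ Rg O Y.left), ((fg O').map f).app (op Y) (bcomb O τ Y b) =
      bcomb O σ Y (Finsupp.linearCombination (Rg O Y.left) (fun j => mr O Y.hom.le (v j)) b) :=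
    fun Y b => app_bcomb_free f _ (fun j => desc_bas (M := freeO O' σ) relSec j (op Y)) b
  have hfg : f ≫ g = 0 := M.freeHomEquiv.injective <| funext fun j => Subtype.ext <| funext fun Y => by
    refine Eq.trans (?_ : _ = (0 : ((fg O').obj M).obj Y)) rfl
    refine (hom_bas (M := M) (f ≫ g) j Y).symm.trans ?_
    rw [Functor.map_comp]
    refine (congrArg (((fg O').map g).app Y) (desc_bas (M := freeO O' σ) relSec j Y)).trans ?_
    refine (app_bcomb g hg Y.unop _).trans ?_
    rw [show (0 : ((fg O').obj M).obj Y) = rM F Y.unop.hom.le (0 : Ms F U) from (map_zero _).symm,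
      ← hp.rel j, show Finsupp.linearCombination (Rg O U) s (v j) = comb s (le_refl U) (v j) by
        simp only [comb, rM_self], rM_comb]
  have hepi : Epi g := by
    refine (SheafOfModules.toSheaf.{u} (ModSite.ringSh O')).epi_of_epi_map
      ((Sheaf.isLocallySurjective_iff_epi' (A := AddCommGrpCat.{u}) _).1 ⟨fun {Y} x => ?_⟩)
    rw [GrothendieckTopology.mem_over_iff]
    intro p hp'
    obtain ⟨W, h, hpW, a, ha⟩ := hp.gen Y.hom.le (x : Ms F Y.left) p hp'
    refine ⟨W, homOfLE h, ⟨ov (h.trans Y.hom.le), Over.homMk (homOfLE h) (Subsingleton.elim _ _), 𝟙 _,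
      ⟨bcomb O σ (ov (h.trans Y.hom.le)) a, ?_⟩, (Category.id_comp _).symm⟩, hpW⟩
    refine (app_bcomb g hg (ov (h.trans Y.hom.le)) a).trans ?_
    exact ha.trans (rs_restr F (Over.homMk (homOfLE h) (Subsingleton.elim _ _) :
      ov (h.trans Y.hom.le) ⟶ Y) x).symm
  let T : ShortComplex (ModSite.Mod O') := ShortComplex.mk f g hfg
  have hT : T.Exact := by
    rw [ShortComplex.exact_iff_epi_kernel_lift]
    let K : ShortComplex (ModSite.Mod O') := ShortComplex.mk (kernel.ι g) g (kernel.condition g)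
    refine (SheafOfModules.toSheaf.{u} (ModSite.ringSh O')).epi_of_epi_map
      ((Sheaf.isLocallySurjective_iff_epi' (A := AddCommGrpCat.{u}) _).1 ⟨fun {Y} x => ?_⟩)
    rw [GrothendieckTopology.mem_over_iff]
    intro p hp'
    let x' : ((fg O').obj (kernel g)).obj (op Y) := x
    let z := ((fg O').map (kernel.ι g)).app (op Y) x'
    obtain ⟨Z, q, hpZ, a, ha⟩ := locally_bcomb z p hp'
    have h0 : comb s Z.hom.le a = 0 := by
      rw [← app_bcomb g hg Z a, ha, app_rs]
      refine (congrArg (rs _ q.op) (congrArg (fun t => ((fg O').map t).app (op Y) x')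
        (kernel.condition g) :)).trans ?_
      exact map_zero (((fg O').obj M).map q.op).hom
    obtain ⟨W, h, hpW, hmem⟩ := hp.ker Z.hom.le a h0 p hpZ
    rw [← Finsupp.range_linearCombination] at hmem
    obtain ⟨b, hb⟩ := hmem
    refine ⟨W, homOfLE (h.trans q.left.le), ⟨ov (h.trans Z.hom.le), ovHom' q h, 𝟙 _,
      ⟨bcomb O τ (ov (h.trans Z.hom.le)) b, ?_⟩, (Category.id_comp _).symm⟩, hpW⟩
    have : Mono (kernel.ι g) := inferInstance
    refine app_injective (kernel.ι g) (op (ov (h.trans Z.hom.le))) ?_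
    refine Eq.trans ?_ (app_rs ((fg O').map (kernel.ι g)) (ovHom' q h).op x').symm
    refine (congrArg (fun t => ((fg O').map t).app (op (ov (h.trans Z.hom.le)))
      (bcomb O τ (ov (h.trans Z.hom.le)) b)) (kernel.lift_ι g f hfg) :).trans ?_
    rw [hf]
    show bcomb O σ (ov (h.trans Z.hom.le)) (Finsupp.linearCombination (Rg O W)
      (fun j => mr O (h.trans Z.hom.le) (v j)) b) = rs _ (ovHom' q h).op z
    rw [hb]
    refine (rs_bcomb (Over.homMk (homOfLE h) (Subsingleton.elim _ _) :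
      ov (h.trans Z.hom.le) ⟶ Z) a).symm.trans ?_
    rw [ha, ← rs_comp, ← op_comp]
    rfl
  refine ⟨SheafOfModules.presentationOfIsCokernelFree f g hfg hT.gIsCokernel, fun hσ hτ => ?_⟩
  exact { isFiniteType_generators := ⟨hσ⟩, isFiniteType_relations := ⟨hτ⟩ }
where
  ovHom' {U W : Opens X} {Y Z : Over U} (q : Z ⟶ Y) (h : W ≤ Z.left) : ov (h.trans Z.hom.le) ⟶ Y :=
    Over.homMk (homOfLE (h.trans q.left.le)) (Subsingleton.elim _ _)

end Groth.Agent.FormalSch78
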