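import Groth.Agent.FormalSch78.AssColim
import Groth.Agent.FormalSch78.OverPres
import Groth.Agent.ModTensor.FreeOn

/-!
# Kernels of maps between restrictions to a chart
-/

universe u

open CategoryTheory CategoryTheory.Limits Opposite TopologicalSpace TensorProduct
open Groth.Agent.ModTensor Groth.Agent.ModPull

namespace Groth.Agent.FormalSch78

variable {X : TopCat.{u}} {O : Sheaf (Opens.grothendieckTopology X) CommRingCat.{u}}
  {S : QCoh.Ab.CoverSystem X} {U : Opens X} {F G H : ModSite.Mod O}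

/-- A map of restrictions on an open below `U`. -/
noncomputable def oapp (φ : (ModSite.restr O U).obj F ⟶ (ModSite.restr O U).obj G) {V : Opens X} (h : V ≤ U) :
    Ms F V →ₗ[Rg O V] Ms G V :=
  (((fg (O.over U)).map φ).app (op (ov h))).hom

theorem rM_oapp (φ : (ModSite.restr O U).obj F ⟶ (ModSite.restr O U).obj G) {V W : Opens X} (h : V ≤ U)
    (h' : W ≤ V) (x : Ms F V) : rM G h' (oapp φ h x) = oapp φ (h'.trans h) (rM F h' x) :=
  ((rs_restr G (ovHom h h') _).symm.trans (app_rs ((fg (O.over U)).map φ) (ovHom h h').op x).symm).trans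
    (congrArg (oapp φ (h'.trans h)) (rs_restr F (ovHom h h') x))

theorem oapp_injective (φ : (ModSite.restr O U).obj F ⟶ (ModSite.restr O U).obj G) [Mono φ] {V : Opens X}
    (h : V ≤ U) : Function.Injective (oapp φ h) :=
  app_injective φ (op (ov h))

theorem oapp_eq_zero (φ : (ModSite.restr O U).obj F ⟶ (ModSite.restr O U).obj G)
    (ψ : (ModSite.restr O U).obj G ⟶ (ModSite.restr O U).obj H) (w : φ ≫ ψ = 0) {V : Opens X} (h : V ≤ U)
    (x : Ms F V) : oapp ψ h (oapp φ h x) = 0 :=
  congrArg (fun t : (ModSite.restr O U).obj F ⟶ (ModSite.restr O U).obj H => oapp t h x) w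

theorem exists_oapp_eq (φ : (ModSite.restr O U).obj F ⟶ (ModSite.restr O U).obj G)
    (ψ : (ModSite.restr O U).obj G ⟶ (ModSite.restr O U).obj H) (w : φ ≫ ψ = 0)
    (hk : IsLimit (KernelFork.ofι φ w)) {V : Opens X} (h : V ≤ U) (x : Ms G V) (hx : oapp ψ h x = 0) :
    ∃ y, oapp φ h y = x := by
  let e := freeOnCorepr (O.over U) (ov h)
  obtain ⟨a, ha'⟩ := (e.homEquiv (Y := (ModSite.restr O U).obj G)).surjective x
  have ha : a ≫ ψ = 0 := by
    refine (e.homEquiv (Y := (ModSite.restr O U).obj H)).injective ?_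
    refine (e.homEquiv_comp ψ a).trans ?_
    rw [ha']
    refine (show oapp ψ h x = oapp (0 : (ModSite.restr O U).obj G ⟶ (ModSite.restr O U).obj H) h x from hx).trans ?_
    have hz := e.homEquiv_comp (0 : (ModSite.restr O U).obj G ⟶ (ModSite.restr O U).obj H) a
    rw [ha'] at hz
    exact hz.symm.trans (congrArg e.homEquiv comp_zero)
  obtain ⟨b, hb⟩ := KernelFork.IsLimit.lift' hk a ha
  refine ⟨e.homEquiv b, ?_⟩
  refine (e.homEquiv_comp φ b).symm.trans ?_
  exact (congrArg e.homEquiv hb).trans ha'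

theorem θ_oapp (φ : (ModSite.restr O U).obj F ⟶ (ModSite.restr O U).obj G) {U' W : Opens X} (hU' : U' ≤ U)
    (y : T O U' (Ms F U') W) :
    oapp φ (inf_le_right.trans hU') (θ LinearMap.id W y) =
      θ (U := U') (F := G) LinearMap.id W ((oapp φ hU').lTensor (Rg O (W ⊓ U')) y) := by
  induction y using TensorProduct.induction_on with
  | zero => simp
  | tmul a c =>
    rw [LinearMap.lTensor_tmul, θ_tmul, θ_tmul, map_smul]
    exact congrArg (a • ·) (rM_oapp φ hU' inf_le_right c).symm
  | add y y' hy hy' => simp only [map_add, hy, hy']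

/-- A module which is below `U` the kernel of a map of modules given by tensor products. -/
theorem Ass.of_restr_kernel {U' : Opens X} (hU' : U' ≤ U) (hfl : IsFlatBase O S U')
    (φ : (ModSite.restr O U).obj F ⟶ (ModSite.restr O U).obj G)
    (ψ : (ModSite.restr O U).obj G ⟶ (ModSite.restr O U).obj H) (w : φ ≫ ψ = 0)
    (hk : IsLimit (KernelFork.ofι φ w)) (hG : Ass S U' G) (hH : Ass S U' H) : Ass S U' F := by
  intro W hW hWU
  have := hfl hW hWU
  have : Mono φ := Fork.IsLimit.mono hk
  have hinj' : Function.Injective ((oapp φ hU').lTensor (Rg O (W ⊓ U'))) :=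
    Module.Flat.lTensor_preserves_injective_linearMap _ (oapp_injective φ hU')
  have hex : Function.Exact (oapp φ hU') (oapp ψ hU') := fun x =>
    ⟨fun hx => exists_oapp_eq φ ψ w hk hU' x hx, fun ⟨y, hy⟩ => hy ▸ oapp_eq_zero φ ψ w hU' y⟩
  refine ⟨fun y y' e => hinj' ((hG hW hWU).1 ?_), fun x => ?_⟩
  · rw [← θ_oapp φ hU', ← θ_oapp φ hU', e]
  · obtain ⟨z, hz⟩ := (hG hW hWU).2 (oapp φ (inf_le_right.trans hU') x)
    have hz0 : (oapp ψ hU').lTensor (Rg O (W ⊓ U')) z = 0 := (hH hW hWU).1 (by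
      rw [← θ_oapp ψ hU', hz, oapp_eq_zero φ ψ w, map_zero])
    obtain ⟨y, hy⟩ := (Module.Flat.lTensor_exact (M := Rg O (W ⊓ U')) hex _).1 hz0
    exact ⟨y, oapp_injective φ _ (by rw [θ_oapp φ hU', hy, hz])⟩

/-- The sections of a kernel below `U` are finite. -/
theorem finite_of_restr_mono {U' : Opens X} (hU' : U' ≤ U) [IsNoetherianRing (Rg O U')]
    (φ : (ModSite.restr O U).obj F ⟶ (ModSite.restr O U).obj G) [Mono φ]
    [Module.Finite (Rg O U') (Ms G U')] : Module.Finite (Rg O U') (Ms F U') :=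
  haveI : _root_.IsNoetherian (Rg O U') (Ms G U') := isNoetherian_of_isNoetherianRing_of_finite _ _
  Module.Finite.of_injective (oapp φ hU') (oapp_injective φ hU')

end Groth.Agent.FormalSch78
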