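import Groth.Agent.FormalSch78.AssOps
import Mathlib.LinearAlgebra.DirectSum.Finsupp
import Mathlib.LinearAlgebra.Finsupp.LinearCombination

/-!
# Elementary presentations on a chart
-/

universe u

open CategoryTheory CategoryTheory.Limits Opposite TopologicalSpace TensorProduct
open Groth.Agent.ModTensor

namespace Groth.Agent.FormalSch78

variable {X : TopCat.{u}} {O : Sheaf (Opens.grothendieckTopology X) CommRingCat.{u}}
variable {S : QCoh.Ab.CoverSystem X} {U : Opens X} {F : ModSite.Mod O}
variable {σ τ : Type u}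

variable (O) in
/-- Restriction of finite families of functions. -/
noncomputable abbrev mr {V W : Opens X} (h : W ≤ V) (a : σ →₀ Rg O V) : σ →₀ Rg O W :=
  a.mapRange (rO O h) (map_zero _)

theorem mr_mr {V W Z : Opens X} (h : W ≤ V) (h' : Z ≤ W) (a : σ →₀ Rg O V) :
    mr O h' (mr O h a) = mr O (h'.trans h) a :=
  Finsupp.ext fun i => rO_rO _ _ (a i)

/-- The combination of restricted sections. -/
noncomputable abbrev comb (s : σ → Ms F U) {W : Opens X} (h : W ≤ U) :
    (σ →₀ Rg O W) →ₗ[Rg O W] Ms F W :=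
  Finsupp.linearCombination (Rg O W) fun i => rM F h (s i)

theorem rM_comb (s : σ → Ms F U) {V W : Opens X} (h : V ≤ U) (h' : W ≤ V) (a : σ →₀ Rg O V) :
    rM F h' (comb s h a) = comb s (h'.trans h) (mr O h' a) := by
  induction a using Finsupp.induction_linear with
  | zero => simp [mr]
  | add a b ha hb => simp only [map_add, ha, hb, mr, Finsupp.mapRange_add (map_add _)]
  | single i c => simp [comb, mr, rM_smul, rM_rM]

/-- Generators and relations of a module on a chart. -/
structure IsPres (s : σ → Ms F U) (v : τ → σ →₀ Rg O U) : Prop where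
  rel : ∀ j, Finsupp.linearCombination (Rg O U) s (v j) = 0
  gen : ∀ ⦃V : Opens X⦄ (hV : V ≤ U) (x : Ms F V), ∀ p ∈ V, ∃ (W : Opens X) (h : W ≤ V), p ∈ W ∧
    ∃ a : σ →₀ Rg O W, comb s (h.trans hV) a = rM F h x
  ker : ∀ ⦃V : Opens X⦄ (hV : V ≤ U) (a : σ →₀ Rg O V), comb s hV a = 0 → ∀ p ∈ V,
    ∃ (W : Opens X) (h : W ≤ V), p ∈ W ∧
      mr O h a ∈ Submodule.span (Rg O W) (Set.range fun j => mr O (h.trans hV) (v j))

variable (O U σ) in
/-- `a ↦ ∑ a i ⊗ e i`. -/
noncomputable abbrev Φ (W : Opens X) : (σ →₀ Rg O (W ⊓ U)) →ₗ[Rg O (W ⊓ U)] T O U (σ →₀ Rg O U) W :=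
  Finsupp.linearCombination (Rg O (W ⊓ U)) fun i =>
    (1 : Rg O (W ⊓ U)) ⊗ₜ[Rg O U] Finsupp.single i (1 : Rg O U)

theorem Φ_mr {W : Opens X} (c : σ →₀ Rg O U) :
    Φ O U σ W (mr O (inf_le_right : W ⊓ U ≤ U) c) = 1 ⊗ₜ[Rg O U] c := by
  induction c using Finsupp.induction_linear with
  | zero => simp [mr]
  | add a b ha hb => simp only [mr, Finsupp.mapRange_add (map_add _), map_add, ha, hb, TensorProduct.tmul_add]
  | single i c =>
    simp only [Φ, mr, Finsupp.mapRange_single, Finsupp.linearCombination_single]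
    rw [TensorProduct.smul_tmul', smul_eq_mul, mul_one,
      show rO O (inf_le_right : W ⊓ U ≤ U) c = c • (1 : Rg O (W ⊓ U)) by
        rw [Algebra.smul_def, mul_one, algInf_apply],
      TensorProduct.smul_tmul, Finsupp.smul_single, smul_eq_mul, mul_one]

theorem Φ_surjective (W : Opens X) : Function.Surjective (Φ O U σ W) := fun y => by
  induction y using TensorProduct.induction_on with
  | zero => exact ⟨0, map_zero _⟩
  | add y y' hy hy' =>
    obtain ⟨a, rfl⟩ := hy
    obtain ⟨b, rfl⟩ := hy'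
    exact ⟨a + b, map_add _ _ _⟩
  | tmul r c =>
    exact ⟨r • mr O inf_le_right c, by rw [map_smul, Φ_mr, TensorProduct.smul_tmul', smul_eq_mul, mul_one]⟩

theorem Φ_injective (W : Opens X) : Function.Injective (Φ O U σ W) := by
  classical
  refine Function.LeftInverse.injective
    (g := TensorProduct.finsuppScalarRight (Rg O U) (Rg O (W ⊓ U)) (Rg O (W ⊓ U)) σ) fun a => ?_
  induction a using Finsupp.induction_linear with
  | zero => simp
  | add a b ha hb => simp only [map_add, ha, hb]
  | single i c =>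
    ext j
    simp [Φ, Finsupp.linearCombination_single, TensorProduct.finsuppScalarRight_apply_tmul_apply,
      TensorProduct.smul_tmul', Finsupp.single_apply, ite_smul]

theorem tres_Φ {W W' : Opens X} (h : W' ≤ W) (a : σ →₀ Rg O (W ⊓ U)) :
    tres h (Φ O U σ W a) = Φ O U σ W' (mr O (inf_le_inf_right U h) a) := by
  induction a using Finsupp.induction_linear with
  | zero => simp [mr]
  | add a b ha hb => simp only [map_add, ha, hb, mr, Finsupp.mapRange_add (map_add _)]
  | single i c => simp [Φ, mr, tres_tmul, TensorProduct.smul_tmul']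

theorem θ_lc_Φ (s : σ → Ms F U) {W : Opens X} (a : σ →₀ Rg O (W ⊓ U)) :
    θ (Finsupp.linearCombination (Rg O U) s) W (Φ O U σ W a) = comb s inf_le_right a := by
  induction a using Finsupp.induction_linear with
  | zero => simp
  | add a b ha hb => simp only [map_add, ha, hb]
  | single i c => simp [Φ, comb, TensorProduct.smul_tmul', θ_tmul]

theorem mr_mem_span {V W : Opens X} (hV : V ≤ U) (h : W ≤ V) (v : τ → σ →₀ Rg O U) {a : σ →₀ Rg O V}
    (ha : a ∈ Submodule.span (Rg O V) (Set.range fun j => mr O hV (v j))) :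
    mr O h a ∈ Submodule.span (Rg O W) (Set.range fun j => mr O (h.trans hV) (v j)) := by
  induction ha using Submodule.span_induction with
  | mem x hx =>
    obtain ⟨j, rfl⟩ := hx
    exact Submodule.subset_span ⟨j, (mr_mr hV h (v j)).symm⟩
  | zero => simp [mr]
  | add x y _ _ hx hy =>
    rw [show mr O h (x + y) = mr O h x + mr O h y from Finsupp.mapRange_add (map_add _) x y]
    exact Submodule.add_mem _ hx hy
  | smul r x _ hx =>
    rw [show mr O h (r • x) = rO O h r • mr O h x from Finsupp.ext fun i => by simp [mr]]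
    exact Submodule.smul_mem _ _ hx

variable (S) in
/-- A presentation makes the module a tensor product with its sections. -/
theorem IsPres.ass (hB : IsTBase O S U) {s : σ → Ms F U} {v : τ → σ →₀ Rg O U} (hp : IsPres s v) :
    Ass S U F ∧ Submodule.span (Rg O U) (Set.range s) = ⊤ ∧
      LinearMap.ker (Finsupp.linearCombination (Rg O U) s) = Submodule.span (Rg O U) (Set.range v) := by
  let lc := Finsupp.linearCombination (Rg O U) s
  let K := Submodule.span (Rg O U) (Set.range v)
  have hK : K ≤ LinearMap.ker lc := Submodule.span_le.2 fun x ⟨j, hj⟩ => hj ▸ hp.rel j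
  let t : ((σ →₀ Rg O U) ⧸ K) →ₗ[Rg O U] Ms F U := K.liftQ lc hK
  have ht : t ∘ₗ K.mkQ = lc := K.liftQ_mkQ _ _
  have hθ : ∀ (W : Opens X) (a : σ →₀ Rg O (W ⊓ U)),
      θ t W (K.mkQ.lTensor _ (Φ O U σ W a)) = comb s inf_le_right a := fun W a => by
    rw [θ_lTensor, ht]
    exact θ_lc_Φ s a
  have hs : LocSurj t := fun V hV x p hp' => by
    obtain ⟨W, h, hpW, a, ha⟩ := hp.gen hV x p hp'
    refine ⟨W, h, hpW, K.mkQ.lTensor _ (Φ O U σ W (mr O inf_le_left a)), ?_⟩
    rw [hθ, ← rM_rM F h inf_le_left, ← ha, rM_comb]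
  have hi : LocInj t := fun W hWU y hy p hpW => by
    obtain ⟨y, rfl⟩ := LinearMap.lTensor_surjective (Rg O (W ⊓ U)) K.mkQ_surjective y
    obtain ⟨a, rfl⟩ := Φ_surjective W y
    rw [hθ] at hy
    obtain ⟨V, hV, hpV, ha⟩ := hp.ker inf_le_right a hy p ⟨hpW, hWU hpW⟩
    refine ⟨V, hV.trans inf_le_left, hpV, ?_⟩
    rw [tres_lTensor, tres_Φ]
    have ha' := mr_mem_span (hV.trans inf_le_right) (inf_le_left : V ⊓ U ≤ V) v ha
    rw [mr_mr] at ha'
    generalize mr O (inf_le_inf_right U (hV.trans inf_le_left)) a = b at ha'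
    induction ha' using Submodule.span_induction with
    | mem x hx =>
      obtain ⟨j, rfl⟩ := hx
      dsimp only
      rw [Φ_mr, LinearMap.lTensor_tmul, Submodule.mkQ_apply,
        (Submodule.Quotient.mk_eq_zero K).2 (Submodule.subset_span ⟨j, rfl⟩), TensorProduct.tmul_zero]
    | zero => simp
    | add x y _ _ hx hy => rw [map_add, map_add, hx, hy, add_zero]
    | smul r x _ hx =>
      rw [map_smul]
      exact ((K.mkQ.baseChange (Rg O (V ⊓ U))).map_smul r _).trans
        ((congrArg (r • ·) hx).trans (smul_zero r))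
  have hb := hB.bijective_of_locIso hs hi
  refine ⟨hB.ass_of_locIso hs hi, ?_, le_antisymm (fun x hx => ?_) hK⟩
  · rw [← Finsupp.range_linearCombination]
    show LinearMap.range lc = ⊤
    rw [← ht, LinearMap.range_comp_of_range_eq_top _ K.range_mkQ]
    exact LinearMap.range_eq_top.2 hb.2
  · rw [← Submodule.Quotient.mk_eq_zero K]
    refine hb.1 (Eq.trans ?_ (map_zero t).symm)
    exact hx

/-- Sections of generators and relations give a presentation. -/
theorem Ass.isPres (hB : IsTBase O S U) (hF : Ass S U F) {s : σ → Ms F U} {v : τ → σ →₀ Rg O U}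
    (hs : Submodule.span (Rg O U) (Set.range s) = ⊤)
    (hv : LinearMap.ker (Finsupp.linearCombination (Rg O U) s) = Submodule.span (Rg O U) (Set.range v)) :
    IsPres s v := by
  let lc := Finsupp.linearCombination (Rg O U) s
  have hlc : Function.Surjective lc := by
    rw [← LinearMap.range_eq_top, Finsupp.range_linearCombination, hs]
  have hθ : ∀ (W : Opens X) (a : σ →₀ Rg O (W ⊓ U)),
      θ LinearMap.id W (lc.lTensor _ (Φ O U σ W a)) = comb s inf_le_right a := fun W a => by
    rw [θ_lTensor, LinearMap.id_comp]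
    exact θ_lc_Φ s a
  refine ⟨fun j => ?_, fun V hV x p hpV => ?_, fun V hV a ha p hpV => ?_⟩
  · exact LinearMap.mem_ker.1 (hv ▸ Submodule.subset_span ⟨j, rfl⟩)
  · obtain ⟨W, hWV, hpW, y, hy⟩ := Ass.locSurj hB hF hV x p hpV
    obtain ⟨y, rfl⟩ := LinearMap.lTensor_surjective (Rg O (W ⊓ U)) hlc y
    obtain ⟨a, rfl⟩ := Φ_surjective W y
    rw [hθ] at hy
    refine ⟨W, hWV, hpW, mr O (le_inf le_rfl (hWV.trans hV)) a, ?_⟩
    rw [← rM_comb s inf_le_right (le_inf le_rfl (hWV.trans hV)) a, hy, rM_rM]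
  · obtain ⟨W, hW, hpW, hWV⟩ := hB.basis hV p hpV
    have hWU := hWV.trans hV
    let a' := mr O ((inf_le_left : W ⊓ U ≤ W).trans hWV) a
    have h0 : lc.lTensor (Rg O (W ⊓ U)) (Φ O U σ W a') = 0 := (hF hW hWU).1 (by
      rw [hθ, map_zero, ← rM_comb s hV, ha, map_zero])
    have hex : Function.Exact (Finsupp.linearCombination (Rg O U) v) lc :=
      LinearMap.exact_iff.2 (hv.trans (Finsupp.range_linearCombination _).symm)
    obtain ⟨w, hw⟩ := (lTensor_exact (Rg O (W ⊓ U)) hex hlc _).1 h0
    refine ⟨W, hWV, hpW, ?_⟩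
    have hmem : a' ∈ Submodule.span (Rg O (W ⊓ U))
        (Set.range fun j => mr O (inf_le_right : W ⊓ U ≤ U) (v j)) := by
      have key : ∀ w : T O U (τ →₀ Rg O U) W, ∃ b ∈ Submodule.span (Rg O (W ⊓ U))
          (Set.range fun j => mr O (inf_le_right : W ⊓ U ≤ U) (v j)),
          (Finsupp.linearCombination (Rg O U) v).lTensor _ w = Φ O U σ W b := fun w => by
        obtain ⟨c, rfl⟩ := Φ_surjective W w
        induction c using Finsupp.induction_linear with
        | zero => exact ⟨0, Submodule.zero_mem _, by simp⟩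
        | add c c' hc hc' =>
          obtain ⟨b, hb, e⟩ := hc
          obtain ⟨b', hb', e'⟩ := hc'
          exact ⟨b + b', Submodule.add_mem _ hb hb', by simp only [map_add, e, e']⟩
        | single j r =>
          refine ⟨r • mr O inf_le_right (v j), Submodule.smul_mem _ _ (Submodule.subset_span ⟨j, rfl⟩), ?_⟩
          rw [map_smul, Φ_mr]
          simp [Φ, TensorProduct.smul_tmul']
      obtain ⟨b, hb, hbw⟩ := key w
      exact Φ_injective W (hw.symm.trans hbw) ▸ hb
    have := mr_mem_span inf_le_right (le_inf le_rfl hWU : W ≤ W ⊓ U) v hmem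
    rwa [show mr O (le_inf le_rfl hWU : W ≤ W ⊓ U) a' = mr O hWV a from mr_mr _ _ a] at this

end Groth.Agent.FormalSch78
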