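import Groth.Agent.FormalSch78.RealModPull
import Groth.Agent.FormalSch78.CompleteBC
import Groth.Agent.ExistEasy.PP.PullSec
import Groth.Agent.FittX.Sheaf
import Groth.Prelude.Def_FSch6

/-!
# Inverse images of modules of coherent systems along morphisms of formal schemes
-/

universe u

open CategoryTheory CategoryTheory.Limits AlgebraicGeometry Opposite

namespace Groth.Agent.FormalSch78

variable {𝔛 𝔜 : FSch.Sys.{u}} (f : 𝔛 ⟶ 𝔜) (hX : 𝔛.IsFormal) (hY : 𝔜.IsFormal) (𝔐 : FSch.ModSys 𝔜)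

theorem lvU_pre' (n : ℕ) (V : (𝔜.X 0).Opens) :
    𝔛.lvU hX n ((f : FSch.Hom 𝔛 𝔜).app 0 ⁻¹ᵁ V) ≤ (f : FSch.Hom 𝔛 𝔜).app n ⁻¹ᵁ 𝔜.lvU hY n V :=
  (FSch.Hom.lvU_preimage f hX hY n V).ge

/-- A section of a level pulled back along the morphism. -/
noncomputable def σF (n : ℕ) (V : (𝔜.X 0).Opens) :
    PM hY 𝔐 n V →+ PM hX (FSch.ModSys.pullback f 𝔐) n ((f : FSch.Hom 𝔛 𝔜).app 0 ⁻¹ᵁ V) :=
  AddMonoidHom.mk' (fun y => (show Γ((FSch.ModSys.pullback f 𝔐).F n,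
        𝔛.lvU hX n ((f : FSch.Hom 𝔛 𝔜).app 0 ⁻¹ᵁ V)) from
      QCoh.pullSec ((f : FSch.Hom 𝔛 𝔜).app n) (𝔐.F n) (lvU_pre' f hX hY n V) (lM hY 𝔐 n V y)))
    fun x y => (congrArg (QCoh.pullSec _ _ (lvU_pre' f hX hY n V)) (map_add (lM hY 𝔐 n V) x y)).trans
      (QCoh.pullSec_add _ _ (lvU_pre' f hX hY n V) _ _)

theorem lM_σF (n : ℕ) (V : (𝔜.X 0).Opens) (y : PM hY 𝔐 n V) :
    lM hX _ n _ (σF f hX hY 𝔐 n V y) =
      QCoh.pullSec ((f : FSch.Hom 𝔛 𝔜).app n) (𝔐.F n) (lvU_pre' f hX hY n V) (lM hY 𝔐 n V y) := rfl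

theorem trM_σF (n : ℕ) (V : (𝔜.X 0).Opens) (y : PM hY 𝔐 (n + 1) V) :
    trM hX (FSch.ModSys.pullback f 𝔐) n ((f : FSch.Hom 𝔛 𝔜).app 0 ⁻¹ᵁ V) (σF f hX hY 𝔐 (n + 1) V y) =
      σF f hX hY 𝔐 n V (trM hY 𝔐 n V y) := by
  let g := fun k => (f : FSch.Hom 𝔛 𝔜).app k
  let W := g 0 ⁻¹ᵁ V
  apply (lM_bijective hX _ n W).1
  refine (lM_trM hX (FSch.ModSys.pullback f 𝔐) n W (σF f hX hY 𝔐 (n + 1) V y)).trans ?_
  rw [lM_σF, lM_σF]
  let M := 𝔐.F (n + 1)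
  let hw := 𝔛.lvU_le hX n W
  let hv := 𝔜.lvU_le hY n V
  let x := lM hY 𝔐 (n + 1) V y
  let z := QCoh.pullSec (g (n + 1)) M (lvU_pre' f hX hY (n + 1) V) x
  have hdown : lM hY 𝔐 n V (trM hY 𝔐 n V y) = (𝔐.e n).hom.app _ (QCoh.pullSec (𝔜.ι n) M hv x) :=
    (lM_trM hY 𝔐 n V y).trans (QCoh.map_app_comm _ _ _).symm
  rw [hdown]
  refine (QCoh.map_app_comm ((FSch.ModSys.pullback f 𝔐).e n).hom (homOfLE hw) _).symm.trans ?_
  show ((Scheme.Modules.pullback (g n)).map (𝔐.e n).hom).app _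
      (((Scheme.Modules.pullbackComp (g n) (𝔜.ι n)).inv.app M).app _
        (((Scheme.Modules.pullbackCongr ((f : FSch.Hom 𝔛 𝔜).comm n).symm).hom.app M).app _
          (((Scheme.Modules.pullbackComp (𝔛.ι n) (g (n + 1))).hom.app M).app _
            (QCoh.pullSec (𝔛.ι n) ((Scheme.Modules.pullback (g (n + 1))).obj M) hw z)))) = _
  refine (congrArg (fun t => ((Scheme.Modules.pullback (g n)).map (𝔐.e n).hom).app _ t) ?_).trans
    (ExistEasy.pullSec_natural (g n) (𝔐.e n).hom (lvU_pre' f hX hY n V) _)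
  rw [ExistEasy.pullSec_comp (𝔛.ι n) (g (n + 1)) M (lvU_pre' f hX hY (n + 1) V) hw x]
  refine (congrArg (fun t => ((Scheme.Modules.pullbackComp (g n) (𝔜.ι n)).inv.app M).app _ t)
    (ExistEasy.pullSec_congr _ M _ x)).trans ?_
  refine (congrArg (fun t => ((Scheme.Modules.pullbackComp (g n) (𝔜.ι n)).inv.app M).app _ t)
    (ExistEasy.pullSec_comp (g n) (𝔜.ι n) M hv (lvU_pre' f hX hY n V) x).symm).trans ?_
  exact congr(Scheme.Modules.Hom.app $((Scheme.Modules.pullbackComp (g n) (𝔜.ι n)).hom_inv_id_app M) _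
    (QCoh.pullSec (g n) ((Scheme.Modules.pullback (𝔜.ι n)).obj M) (lvU_pre' f hX hY n V)
      (QCoh.pullSec (𝔜.ι n) M hv x)))

/-- Sections to the sections of a level of the inverse image system. -/
noncomputable def toLevelF (n : ℕ) :
    𝔐.realMod hY ⟶ (FSch.homMor f hX hY).push.obj
      ((FSch.levelMor 𝔛 hX n).push.obj ((FSch.ModSys.pullback f 𝔐).F n)) :=
  FSch.realProj 𝔜 hY 𝔐.F 𝔐.toPush n ≫
    (FSch.levelMor 𝔜 hY n).push.map
      ((ModSite.RMor.ofScheme ((f : FSch.Hom 𝔛 𝔜).app n)).adj.unit.app (𝔐.F n)) ≫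
      (FSch.lvPushSq f hX hY n).inv.app ((FSch.ModSys.pullback f 𝔐).F n)

theorem app_toLevelF (n : ℕ) (V : (𝔜.X 0).Opens) (x : Ms (𝔐.realMod hY) V) :
    app (toLevelF f hX hY 𝔐 n) V x = σF f hX hY 𝔐 n V (πM hY 𝔐 n V x) := rfl

theorem toLevelF_succ (n : ℕ) :
    toLevelF f hX hY 𝔐 (n + 1) ≫ (FSch.homMor f hX hY).push.map
        ((FSch.levelMor 𝔛 hX (n + 1)).push.map ((FSch.ModSys.pullback f 𝔐).toPush n) ≫
          (FSch.pushCompare 𝔛 hX n).app ((FSch.ModSys.pullback f 𝔐).F n)) =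
      toLevelF f hX hY 𝔐 n :=
  hom_ext fun V x => (trM_σF f hX hY 𝔐 n V (πM hY 𝔐 (n + 1) V x)).trans
    (congrArg (σF f hX hY 𝔐 n V) (trM_πM hY 𝔐 n V x))

/-- The comparison map to the inverse image system. -/
noncomputable def toRealModF :
    𝔐.realMod hY ⟶ (FSch.homMor f hX hY).push.obj ((FSch.ModSys.pullback f 𝔐).realMod hX) :=
  haveI := (FSch.homMor f hX hY).adj.rightAdjoint_preservesLimits
  (isLimitOfPreserves (FSch.homMor f hX hY).push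
    (limit.isLimit (FSch.levelSysOf 𝔛 hX (FSch.ModSys.pullback f 𝔐).F (FSch.ModSys.pullback f 𝔐).toPush))).lift
    { pt := 𝔐.realMod hY
      π := NatTrans.ofOpSequence (fun n => toLevelF f hX hY 𝔐 n) fun n => by
        simp only [Functor.const_obj_map, Category.id_comp, Functor.comp_map, FSch.levelSysOf_map_succ]
        exact (toLevelF_succ f hX hY 𝔐 n).symm }

theorem toRealModF_proj (n : ℕ) :
    toRealModF f hX hY 𝔐 ≫ (FSch.homMor f hX hY).push.map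
        (FSch.realProj 𝔛 hX _ (FSch.ModSys.pullback f 𝔐).toPush n) = toLevelF f hX hY 𝔐 n :=
  haveI := (FSch.homMor f hX hY).adj.rightAdjoint_preservesLimits
  IsLimit.fac _ _ (op n)

theorem toRealModF_proj_sq (n : ℕ) :
    toRealModF f hX hY 𝔐 ≫ (FSch.pushF f hX hY).map
        (FSch.realProj 𝔛 hX _ (FSch.ModSys.pullback f 𝔐).toPush n) ≫
        (FSch.lvPushSq f hX hY n).hom.app ((FSch.ModSys.pullback f 𝔐).F n) =
      FSch.realProj 𝔜 hY 𝔐.F 𝔐.toPush n ≫ (FSch.levelMor 𝔜 hY n).push.map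
        ((ModSite.RMor.ofScheme ((f : FSch.Hom 𝔛 𝔜).app n)).adj.unit.app (𝔐.F n)) := by
  refine (Category.assoc _ _ _).symm.trans ((congrArg (· ≫ _) (toRealModF_proj f hX hY 𝔐 n)).trans ?_)
  refine (Category.assoc _ _ _).trans (congrArg (_ ≫ ·) ?_)
  refine (Category.assoc _ _ _).trans ((congrArg (_ ≫ ·) ((FSch.lvPushSq f hX hY n).inv_hom_id_app _)).trans ?_)
  exact Category.comp_id _

theorem appLE_eq_πlvF (n : ℕ) {U : (𝔜.X 0).Opens} {W : (𝔛.X 0).Opens}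
    (h : W ≤ (f : FSch.Hom 𝔛 𝔜).app 0 ⁻¹ᵁ U) (r : Rg (𝔜.Osh hY) U) :
    ((f : FSch.Hom 𝔛 𝔜).app n).appLE (𝔜.lvU hY n U) (𝔛.lvU hX n W)
        (((TopologicalSpace.Opens.map (𝔛.gInv hX n)).map (homOfLE h)).le.trans (lvU_pre' f hX hY n U))
        (πlv hY n U r) =
      πlv hX n W (pl ((f : FSch.Hom 𝔛 𝔜).app 0).base (FSch.Hom.sharp f hX hY) h r) := by
  refine Eq.trans ?_ (reslv_πlv hX n h _)
  refine Eq.trans ?_ (congrArg (reslv hX n h)
    (congr(($(FSch.Hom.sharp_proj f hX hY n)).hom.app (op U) r)).symm)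
  exact congr(($(Scheme.Hom.appLE_map ((f : FSch.Hom 𝔛 𝔜).app n) (lvU_pre' f hX hY n U)
    ((TopologicalSpace.Opens.map (𝔛.gInv hX n)).map (homOfLE h)).op)).hom (πlv hY n U r)).symm

variable (hAX : 𝔛.IsAdic) (hNX : ∀ n, IsLocallyNoetherian (𝔛.X n))
  (hAY : 𝔜.IsAdic) (hNY : ∀ n, IsLocallyNoetherian (𝔜.X n)) (h𝔐 : 𝔐.IsCoh)

include hAX hNX hAY hNY h𝔐

theorem isBC_toRealModF {U : (𝔜.X 0).Opens} (hU : IsAffineOpen U) {W : (𝔛.X 0).Opens} (hW : IsAffineOpen W)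
    (hWU : W ≤ (f : FSch.Hom 𝔛 𝔜).app 0 ⁻¹ᵁ U) :
    IsBC ((f : FSch.Hom 𝔛 𝔜).app 0).base (FSch.Hom.sharp f hX hY) (toRealModF f hX hY 𝔐) hWU := by
  let 𝔑 := FSch.ModSys.pullback f 𝔐
  let g := fun k => (f : FSch.Hom 𝔛 𝔜).app k
  have h𝔑 : 𝔑.IsCoh := fun n =>
    ⟨QCoh.isQCoh_pullback (g n) (h𝔐 n).1, FittX.isFT_pullback (g n) (h𝔐 n).1 (h𝔐 n).2⟩
  let A := Rg (𝔜.Osh hY) U
  let B := Rg (𝔛.Osh hX) W
  let φ := toRealModF f hX hY 𝔐
  let φA : A →+* B := pl ((f : FSch.Hom 𝔛 𝔜).app 0).base (FSch.Hom.sharp f hX hY) hWU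
  let hle : ∀ n, 𝔛.lvU hX n W ≤ g n ⁻¹ᵁ 𝔜.lvU hY n U := fun n =>
    ((TopologicalSpace.Opens.map (𝔛.gInv hX n)).map (homOfLE hWU)).le.trans (lvU_pre' f hX hY n U)
  let R : ℕ → Type u := fun n => lv hY n U
  let : Algebra A B := φA.toAlgebra
  let : ∀ n, Algebra A (lv hY n U) := fun n => (πlv hY n U).toAlgebra
  let : ∀ n, Algebra A (lv hX n W) := fun n => ((πlv hX n W).comp φA).toAlgebra
  let : ∀ n, Algebra (lv hY n U) (lv hX n W) := fun n => ((g n).appLE _ _ (hle n)).hom.toAlgebra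
  have : ∀ n, IsScalarTower A (lv hY n U) (lv hX n W) := fun n =>
    IsScalarTower.of_algebraMap_eq fun a => (appLE_eq_πlvF f hX hY n hWU a).symm
  let M := Ms (𝔑.realMod hX) W
  let : Module A M := Module.compHom _ φA
  have : IsScalarTower A B M := ⟨fun a b x => by rw [Algebra.smul_def, mul_smul]; rfl⟩
  let NY : ℕ → Type u := fun n => Γ(𝔐.F n, 𝔜.lvU hY n U)
  let N : ℕ → Type u := fun n => Γ((Scheme.Modules.pullback (g n)).obj (𝔐.F n), 𝔛.lvU hX n W)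
  let : ∀ n, Module A (NY n) := fun n => Module.compHom _ (algebraMap A (lv hY n U))
  let : ∀ n, Module A (N n) := fun n => Module.compHom _ (algebraMap A (lv hX n W))
  let : ∀ n, Module (lv hY n U) (N n) := fun n => Module.compHom _ (algebraMap (lv hY n U) (lv hX n W))
  have : ∀ n, IsScalarTower A (lv hY n U) (NY n) := fun n =>
    ⟨fun a b x => by rw [Algebra.smul_def, mul_smul]; rfl⟩
  have : ∀ n, IsScalarTower A (lv hX n W) (N n) := fun n =>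
    ⟨fun a b x => by rw [Algebra.smul_def, mul_smul]; rfl⟩
  have : ∀ n, IsScalarTower (lv hY n U) (lv hX n W) (N n) := fun n =>
    ⟨fun a b x => by rw [Algebra.smul_def, mul_smul]; rfl⟩
  have : ∀ n, IsScalarTower A (lv hY n U) (N n) := fun n => ⟨fun a b x => by
    show algebraMap (lv hY n U) (lv hX n W) (a • b) • x =
      algebraMap A (lv hX n W) a • algebraMap (lv hY n U) (lv hX n W) b • x
    rw [Algebra.smul_def, map_mul, ← IsScalarTower.algebraMap_apply, mul_smul]⟩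
  obtain ⟨-, -, hcompl, hker, hn⟩ := formalIdeal_spec hX hAX hW hNX
  obtain ⟨-, -, -, hkerY, -⟩ := formalIdeal_spec hY hAY hU hNY
  obtain ⟨-, hfin, hspec⟩ := realMod_spec hX 𝔑 hAX hNX h𝔑 hW
  obtain ⟨-, hfinY, hspecY⟩ := realMod_spec hY 𝔐 hAY hNY h𝔐 hU
  let C := Ms (𝔐.realMod hY) U
  let ρ : C →ₗ[A] M :=
    { toFun := pm ((f : FSch.Hom 𝔛 𝔜).app 0).base (FSch.Hom.sharp f hX hY) φ hWU
      map_add' := map_add _
      map_smul' := fun r c => pm_smul _ _ φ hWU r c }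
  let q : ∀ n, M →+ N n := fun n => (lM hX 𝔑 n W).comp (πM hX 𝔑 n W).toAddMonoidHom
  let π : ∀ n, C →ₗ[A] NY n := fun n =>
    { toFun := fun c => lM hY 𝔐 n U (πM hY 𝔐 n U c)
      map_add' := fun c c' => by rw [map_add, map_add]
      map_smul' := fun a c => by rw [map_smul, lM_smul]; rfl }
  let l : ∀ n, NY n →ₗ[lv hY n U] N n := fun n =>
    { toFun := QCoh.pullSec (g n) (𝔐.F n) (hle n)
      map_add' := QCoh.pullSec_add (g n) (𝔐.F n) (hle n)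
      map_smul' := fun a x => QCoh.pullSec_smul (g n) (𝔐.F n) (hle n) a x }
  have hπ : ∀ n, IsBaseChange (lv hY n U) (π n) := fun n => by
    refine isBaseChange_of_surjective (surjective_πlv hY hU n) (π n)
      ((lM_bijective hY 𝔐 n U).2.comp (hspecY n).1) fun c hc => ?_
    have hc' : c ∈ LinearMap.ker (πM hY 𝔐 n U) :=
      LinearMap.mem_ker.2 ((map_eq_zero_iff _ (lM_bijective hY 𝔐 n U).1).1 hc)
    rw [(hspecY n).2] at hc'
    rwa [show RingHom.ker (algebraMap A (lv hY n U)) = formalIdeal hY U ^ (n + 1) from hkerY n]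
  have hl : ∀ n, IsBaseChange (lv hX n W) (l n) := fun n =>
    letI : Module (lv hY n U) Γ((Scheme.Modules.pullback (g n)).obj (𝔐.F n), 𝔛.lvU hX n W) :=
      (inferInstance : Module (lv hY n U) (N n))
    haveI : IsScalarTower (lv hY n U) (lv hX n W) Γ((Scheme.Modules.pullback (g n)).obj (𝔐.F n), 𝔛.lvU hX n W) :=
      (inferInstance : IsScalarTower (lv hY n U) (lv hX n W) (N n))
    QCoh.isBaseChange_pullback (isAffineOpen_lvU hY hU n) (g n) (isAffineOpen_lvU hX hW n) (h𝔐 n).1 (hle n)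
      (fun a => rfl) (l n) fun x => rfl
  let r : ∀ n, C →ₗ[A] N n := fun n => ((l n).restrictScalars A).comp (π n)
  have hr : ∀ n c, r n c = q n (ρ c) := fun n c => by
    show QCoh.pullSec (g n) (𝔐.F n) (hle n) (lM hY 𝔐 n U (πM hY 𝔐 n U c)) =
      lM hX 𝔑 n W (πM hX 𝔑 n W (rM _ hWU (app φ U c)))
    refine Eq.trans ?_ (congrArg (lM hX 𝔑 n W) (app_rM (FSch.realProj 𝔛 hX 𝔑.F 𝔑.toPush n) hWU _)).symm
    refine Eq.trans ?_ (congrArg (fun t => lM hX 𝔑 n W (rM _ hWU (app t U c)))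
      (toRealModF_proj f hX hY 𝔐 n)).symm
    refine Eq.trans ?_ (lM_rM hX 𝔑 n hWU _).symm
    exact (QCoh.map_map (M := 𝔑.F n) ((TopologicalSpace.Opens.map (𝔛.gInv hX n)).map (homOfLE hWU))
      (homOfLE (lvU_pre' f hX hY n U)) _).symm
  have hbc : IsBaseChange B ρ :=
    isBaseChange_of_levels (R := fun n => lv hX n W) (N := N) (formalIdeal hX W) ρ
      (fun n => { πlv hX n W with commutes' := fun a => rfl }) (surjective_πlv hX hW) hker q
      (fun n b x => (congrArg (lM hX 𝔑 n W) (map_smul (πM hX 𝔑 n W) b x)).trans (lM_smul hX 𝔑 n W b _))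
      (fun n x hx => by
        rw [← (hspec n).2]
        exact LinearMap.mem_ker.2 ((lM_bijective hX 𝔑 n W).1 (hx.trans (map_zero _).symm)))
      r hr fun n => IsBaseChange.comp (hπ n) (hl n)
  exact isBC_of_isBaseChange (g := ((f : FSch.Hom 𝔛 𝔜).app 0).base) (sharp := FSch.Hom.sharp f hX hY)
    (φ := φ) (fun a => rfl) (l := ρ) (fun c => rfl) hbc

/-- The inverse image of the module of a coherent system is the module of the inverse image system. -/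
theorem isIso_toRealModF_adjunct :
    IsIso (((FSch.homMor f hX hY).adj.homEquiv _ _).symm (toRealModF f hX hY 𝔐)) := by
  refine isIso_adjunct (g := ((f : FSch.Hom 𝔛 𝔜).app 0).base) (sharp := FSch.Hom.sharp f hX hY)
    (toRealModF f hX hY 𝔐) fun q => ?_
  obtain ⟨U, hU, hqU, -⟩ := exists_isAffineOpen_mem_and_subset
    (x := ((f : FSch.Hom 𝔛 𝔜).app 0).base q) (U := (⊤ : (𝔜.X 0).Opens)) trivial
  refine ⟨U, hqU, locSpan_realMod hY hAY hNY 𝔐 h𝔐 hU, fun V hV q hq => ?_⟩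
  obtain ⟨W, hW, hqW, hWV⟩ := exists_isAffineOpen_mem_and_subset (x := q) (U := (V : (𝔛.X 0).Opens)) hq
  exact ⟨W, hWV, (show (W : (𝔛.X 0).Opens) ≤ _ ⁻¹ᵁ U from hWV.trans hV), hqW,
    isBC_toRealModF f hX hY 𝔐 hAX hNX hAY hNY h𝔐 hU hW _⟩

end Groth.Agent.FormalSch78
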