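import Groth.Agent.FormalSch78.LevelPull
import Groth.Agent.FormalSch78.HomSys

/-!
# The system of levels of a module on a formal scheme
-/

universe u

open CategoryTheory CategoryTheory.Limits AlgebraicGeometry Opposite

namespace Groth.Agent.FormalSch78

variable {𝔛 : FSch.Sys.{u}} (hF : 𝔛.IsFormal)

/-- The comparison of the two direct images from a level, as an isomorphism. -/
noncomputable def pushCompareIso (n : ℕ) :
    Scheme.Modules.pushforward (𝔛.ι n) ⋙ (FSch.levelMor 𝔛 hF (n + 1)).push ≅ (FSch.levelMor 𝔛 hF n).push where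
  hom := FSch.pushCompare 𝔛 hF n
  inv := FSch.pushCompareInv 𝔛 hF n
  hom_inv_id := NatTrans.ext (funext fun G => FSch.pushCompare_pushCompareInv 𝔛 hF n G)
  inv_hom_id := NatTrans.ext (funext fun G => FSch.pushCompareInv_pushCompare 𝔛 hF n G)

/-- Inverse image to the next level followed by inverse image along the transition is inverse image to the level. -/
noncomputable def transIso (n : ℕ) :
    (FSch.levelMor 𝔛 hF (n + 1)).pull ⋙ Scheme.Modules.pullback (𝔛.ι n) ≅ (FSch.levelMor 𝔛 hF n).pull :=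
  ((FSch.levelMor 𝔛 hF (n + 1)).adj.comp (Scheme.Modules.pullbackPushforwardAdjunction (𝔛.ι n))).leftAdjointUniq
    ((FSch.levelMor 𝔛 hF n).adj.ofNatIsoRight (pushCompareIso hF n).symm)

/-- The system of inverse images of a module to the levels. -/
noncomputable def pullLv (𝔉 : FSch.ModF 𝔛 hF) : FSch.ModSys 𝔛 where
  F n := (FSch.levelMor 𝔛 hF n).pull.obj 𝔉
  e n := (transIso hF n).app 𝔉

/-- Functoriality of the system of levels. -/
noncomputable def pullLvMap {𝔉 𝔊 : FSch.ModF 𝔛 hF} (θ : 𝔉 ⟶ 𝔊) : pullLv hF 𝔉 ⟶ pullLv hF 𝔊 :=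
  ⟨fun n => (FSch.levelMor 𝔛 hF n).pull.map θ, fun n => (transIso hF n).hom.naturality θ⟩

theorem unit_toPush (𝔉 : FSch.ModF 𝔛 hF) (n : ℕ) :
    (FSch.levelMor 𝔛 hF (n + 1)).adj.unit.app 𝔉 ≫
        (FSch.levelMor 𝔛 hF (n + 1)).push.map ((pullLv hF 𝔉).toPush n) =
      (FSch.levelMor 𝔛 hF n).adj.unit.app 𝔉 ≫
        (FSch.pushCompareInv 𝔛 hF n).app ((pullLv hF 𝔉).F n) := by
  refine ((FSch.levelMor 𝔛 hF (n + 1)).adj.homEquiv_unit _ _ _).symm.trans ?_
  refine Eq.trans ?_ (((FSch.levelMor 𝔛 hF (n + 1)).adj.comp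
    (Scheme.Modules.pullbackPushforwardAdjunction (𝔛.ι n))).homEquiv_leftAdjointUniq_hom_app
    ((FSch.levelMor 𝔛 hF n).adj.ofNatIsoRight (pushCompareIso hF n).symm) 𝔉)
  exact (congr($((FSch.levelMor 𝔛 hF (n + 1)).adj.comp_homEquiv
    (Scheme.Modules.pullbackPushforwardAdjunction (𝔛.ι n))) 𝔉 ((pullLv hF 𝔉).F n)
      ((transIso hF n).hom.app 𝔉))).symm

theorem unit_trans (𝔉 : FSch.ModF 𝔛 hF) (n : ℕ) :
    (FSch.levelMor 𝔛 hF (n + 1)).adj.unit.app 𝔉 ≫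
        (FSch.levelMor 𝔛 hF (n + 1)).push.map ((pullLv hF 𝔉).toPush n) ≫
          (FSch.pushCompare 𝔛 hF n).app ((pullLv hF 𝔉).F n) =
      (FSch.levelMor 𝔛 hF n).adj.unit.app 𝔉 := by
  refine (Category.assoc _ _ _).symm.trans ((congrArg (· ≫ _) (unit_toPush hF 𝔉 n)).trans ?_)
  refine (Category.assoc _ _ _).trans ?_
  refine (congrArg (_ ≫ ·) (FSch.pushCompareInv_pushCompare 𝔛 hF n _)).trans ?_
  exact Category.comp_id _

/-- The map to the limit of the levels. -/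
noncomputable def toLevels (𝔉 : FSch.ModF 𝔛 hF) : 𝔉 ⟶ (pullLv hF 𝔉).realMod hF :=
  limit.lift (FSch.levelSysOf 𝔛 hF (pullLv hF 𝔉).F (pullLv hF 𝔉).toPush)
    { pt := 𝔉
      π := NatTrans.ofOpSequence (fun n => (FSch.levelMor 𝔛 hF n).adj.unit.app 𝔉) fun n => by
        simp only [Functor.const_obj_map, Category.id_comp, FSch.levelSysOf_map_succ]
        exact (unit_trans hF 𝔉 n).symm }

theorem toLevels_realProj (𝔉 : FSch.ModF 𝔛 hF) (n : ℕ) :
    toLevels hF 𝔉 ≫ FSch.realProj 𝔛 hF (pullLv hF 𝔉).F (pullLv hF 𝔉).toPush n =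
      (FSch.levelMor 𝔛 hF n).adj.unit.app 𝔉 :=
  limit.lift_π _ (op n)

/-- Sections of the module to sections of a level. -/
noncomputable def unitM (𝔉 : FSch.ModF 𝔛 hF) (n : ℕ) (W : (𝔛.X 0).Opens) :
    Ms 𝔉 W →ₗ[Rg (𝔛.Osh hF) W] PM hF (pullLv hF 𝔉) n W :=
  app ((FSch.levelMor 𝔛 hF n).adj.unit.app 𝔉) W

theorem πM_toLevels (𝔉 : FSch.ModF 𝔛 hF) (n : ℕ) (W : (𝔛.X 0).Opens) (x : Ms 𝔉 W) :
    πM hF (pullLv hF 𝔉) n W (app (toLevels hF 𝔉) W x) = unitM hF 𝔉 n W x :=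
  congrArg (fun φ => app φ W x) (toLevels_realProj hF 𝔉 n)

end Groth.Agent.FormalSch78
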