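import Groth.Agent.FormalSch78.Coherent
import Groth.Agent.FormalSch78.Crit
import Groth.Agent.ExistEasy.PP.PullSec
import Groth.Agent.QCoh.Support
import Groth.Agent.QCoh.Extension
import Groth.Prelude.Def_FSch3

/-!
# Systems pulled back from a scheme
-/

universe u

open CategoryTheory CategoryTheory.Limits AlgebraicGeometry Opposite

namespace Groth.Agent.FormalSch78

variable {𝔛 : FSch.Sys.{u}} (hF : 𝔛.IsFormal) {Y : Scheme.{u}} (p : ∀ n, 𝔛.X n ⟶ Y)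
  (hp : ∀ n, 𝔛.ι n ≫ p (n + 1) = p n) {F G : Y.Modules}

/-- The system of the inverse images of a module of a scheme. -/
noncomputable def pullSys (F : Y.Modules) : FSch.ModSys 𝔛 where
  F n := (Scheme.Modules.pullback (p n)).obj F
  e n := (Scheme.Modules.pullbackComp (𝔛.ι n) (p (n + 1)) ≪≫ Scheme.Modules.pullbackCongr (hp n)).app F

/-- Functoriality of the systems of inverse images. -/
noncomputable def pullSysMap (φ : F ⟶ G) : pullSys p hp F ⟶ pullSys p hp G :=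
  ⟨fun n => (Scheme.Modules.pullback (p n)).map φ, fun n => by
    exact (Scheme.Modules.pullbackComp (𝔛.ι n) (p (n + 1)) ≪≫
      Scheme.Modules.pullbackCongr (hp n)).hom.naturality φ⟩

include hp in
theorem lvU_pre (n : ℕ) (V : Y.Opens) : 𝔛.lvU hF n (p 0 ⁻¹ᵁ V) = p n ⁻¹ᵁ V :=
  (FSch.lvU_p 𝔛 hF p hp n V).symm

/-- A section as a section of a level. -/
noncomputable def σP (F : Y.Modules) (n : ℕ) (V : Y.Opens) :
    Γ(F, V) →+ PM hF (pullSys p hp F) n (p 0 ⁻¹ᵁ V) :=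
  AddMonoidHom.mk' (fun x => (show Γ((pullSys p hp F).F n, 𝔛.lvU hF n (p 0 ⁻¹ᵁ V)) from
      QCoh.pullSec (p n) F (lvU_pre hF p hp n V).le x))
    fun x y => QCoh.pullSec_add (p n) F (lvU_pre hF p hp n V).le x y

theorem lM_σP (n : ℕ) (V : Y.Opens) (x : Γ(F, V)) :
    lM hF _ n (p 0 ⁻¹ᵁ V) (σP hF p hp F n V x) =
      QCoh.pullSec (p n) F (lvU_pre hF p hp n V).le x := rfl

theorem trM_σP (n : ℕ) (V : Y.Opens) (x : Γ(F, V)) :
    trM hF (pullSys p hp F) n (p 0 ⁻¹ᵁ V) (σP hF p hp F (n + 1) V x) = σP hF p hp F n V x := by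
  apply (lM_bijective hF _ n (p 0 ⁻¹ᵁ V)).1
  refine (lM_trM hF (pullSys p hp F) n (p 0 ⁻¹ᵁ V) (σP hF p hp F (n + 1) V x)).trans ?_
  let hw := 𝔛.lvU_le hF n (p 0 ⁻¹ᵁ V)
  let P := (Scheme.Modules.pullback (p (n + 1))).obj F
  let z : Γ((Scheme.Modules.pullback (𝔛.ι n)).obj P, 𝔛.ι n ⁻¹ᵁ 𝔛.lvU hF (n + 1) (p 0 ⁻¹ᵁ V)) :=
    ((Scheme.Modules.pullbackPushforwardAdjunction (𝔛.ι n)).unit.app P).app _
      (QCoh.pullSec (p (n + 1)) F (lvU_pre hF p hp (n + 1) V).le x)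
  have e1 := ExistEasy.pullSec_comp (𝔛.ι n) (p (n + 1)) F (lvU_pre hF p hp (n + 1) V).le hw x
  have e2 := ExistEasy.pullSec_congr (hp n) F
    (show 𝔛.lvU hF n (p 0 ⁻¹ᵁ V) ≤ (𝔛.ι n ≫ p (n + 1)) ⁻¹ᵁ V from
      hw.trans (Scheme.Hom.preimage_mono _ (lvU_pre hF p hp (n + 1) V).le)) x
  have e0 : ((pullSys p hp F).F n).presheaf.map (homOfLE hw).op (((pullSys p hp F).e n).hom.app _ z) =
      ((pullSys p hp F).e n).hom.app _
        (((Scheme.Modules.pullback (𝔛.ι n)).obj P).presheaf.map (homOfLE hw).op z) :=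
    (QCoh.map_app_comm _ _ _).symm
  have e3 : ∀ (W : (𝔛.X n).Opens) (v : Γ((Scheme.Modules.pullback (𝔛.ι n)).obj P, W)),
      ((pullSys p hp F).e n).hom.app W v = ((Scheme.Modules.pullbackCongr (hp n)).hom.app F).app W
        (((Scheme.Modules.pullbackComp (𝔛.ι n) (p (n + 1))).hom.app F).app W v) := fun W v => rfl
  refine Eq.trans ?_ ((e3 _ _).trans ((congrArg (((Scheme.Modules.pullbackCongr (hp n)).hom.app F).app _) e1).trans e2))
  rw [lM_σP]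
  exact e0

theorem πM_pullSysMap (φ : F ⟶ G) (n : ℕ) (W : (𝔛.X 0).Opens)
    (y : Ms ((pullSys p hp F).realMod hF) W) :
    πM hF (pullSys p hp G) n W (app (FSch.ModSys.realModMap hF (pullSysMap p hp φ)) W y) =
      app ((FSch.levelMor 𝔛 hF n).push.map ((Scheme.Modules.pullback (p n)).map φ)) W
        (πM hF (pullSys p hp F) n W y) :=
  congrArg (fun ψ => app ψ W y)
    (FSch.realLimMap_realProj 𝔛 hF (pullSysMap p hp φ).app (FSch.ModSys.Hom.toPush_comm _) n)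

theorem app_σP (φ : F ⟶ G) (n : ℕ) (V : Y.Opens) (x : Γ(F, V)) :
    app ((FSch.levelMor 𝔛 hF n).push.map ((Scheme.Modules.pullback (p n)).map φ))
      (p 0 ⁻¹ᵁ V) (σP hF p hp F n V x) = σP hF p hp G n V (φ.app V x) := by
  exact ExistEasy.pullSec_natural (p n) φ (lvU_pre hF p hp n V).le x

theorem trM_map {𝔐 𝔑 : FSch.ModSys 𝔛} (φ : 𝔐 ⟶ 𝔑) (n : ℕ) (W : (𝔛.X 0).Opens)
    (z : PM hF 𝔐 (n + 1) W) :
    trM hF 𝔑 n W (app ((FSch.levelMor 𝔛 hF (n + 1)).push.map (φ.app (n + 1))) W z) =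
      app ((FSch.levelMor 𝔛 hF n).push.map (φ.app n)) W (trM hF 𝔐 n W z) := by
  have nat := (FSch.pushCompare 𝔛 hF n).naturality (φ.app n)
  let L := (FSch.levelMor 𝔛 hF (n + 1)).push
  let c := FSch.pushCompare 𝔛 hF n
  let f1 : (L.obj (𝔐.F (n + 1)) ⟶ L.obj (𝔑.F (n + 1))) := L.map (φ.app (n + 1))
  let g1 := L.map (𝔑.toPush n)
  have hφ : f1 ≫ (g1 ≫ c.app (𝔑.F n)) =
      (L.map (𝔐.toPush n) ≫ c.app (𝔐.F n)) ≫ (FSch.levelMor 𝔛 hF n).push.map (φ.app n) :=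
    calc f1 ≫ (g1 ≫ c.app (𝔑.F n))
        = (f1 ≫ g1) ≫ c.app (𝔑.F n) := (Category.assoc _ _ _).symm
      _ = L.map (φ.app (n + 1) ≫ 𝔑.toPush n) ≫ c.app (𝔑.F n) :=
          congrArg (· ≫ c.app (𝔑.F n)) (L.map_comp _ _).symm
      _ = L.map (𝔐.toPush n ≫ (Scheme.Modules.pushforward (𝔛.ι n)).map (φ.app n)) ≫ c.app (𝔑.F n) :=
          congrArg (fun ψ => L.map ψ ≫ c.app (𝔑.F n)) (FSch.ModSys.Hom.toPush_comm φ n).symm
      _ = (L.map (𝔐.toPush n) ≫ L.map ((Scheme.Modules.pushforward (𝔛.ι n)).map (φ.app n))) ≫ c.app (𝔑.F n) :=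
          congrArg (· ≫ c.app (𝔑.F n)) (L.map_comp _ _)
      _ = L.map (𝔐.toPush n) ≫ (L.map ((Scheme.Modules.pushforward (𝔛.ι n)).map (φ.app n)) ≫ c.app (𝔑.F n)) :=
          Category.assoc _ _ _
      _ = L.map (𝔐.toPush n) ≫ (c.app (𝔐.F n) ≫ (FSch.levelMor 𝔛 hF n).push.map (φ.app n)) :=
          congrArg _ nat
      _ = _ := (Category.assoc _ _ _).symm
  exact congrArg (fun ψ => app ψ W z) hφ

section Closed

variable [∀ n, IsClosedImmersion (p n)] {V : Y.Opens} (hV : IsAffineOpen V)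

include hV

theorem surjective_σP (hQ : Coh.IsQCoh F) (n : ℕ) : Function.Surjective (σP hF p hp F n V) := fun y => by
  have : IsIso (homOfLE (lvU_pre hF p hp n V).le) :=
    ⟨homOfLE (lvU_pre hF p hp n V).ge, Subsingleton.elim _ _, Subsingleton.elim _ _⟩
  obtain ⟨z, hz⟩ := (ConcreteCategory.bijective_of_isIso
    (((pullSys p hp F).F n).presheaf.map (homOfLE (lvU_pre hF p hp n V).le).op)).2 (lM hF _ n _ y)
  obtain ⟨x, rfl⟩ := (QCoh.unit_app_closed (p n) hQ hV).1 z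
  exact ⟨x, (lM_bijective hF _ n _).1 hz⟩

theorem σP_eq_zero_iff (hQ : Coh.IsQCoh F) (n : ℕ) (x : Γ(F, V)) :
    σP hF p hp F n V x = 0 ↔ x ∈ (p n).ker.ideal ⟨V, hV⟩ • (⊤ : Submodule Γ(Y, V) Γ(F, V)) := by
  have : IsIso (homOfLE (lvU_pre hF p hp n V).le) :=
    ⟨homOfLE (lvU_pre hF p hp n V).ge, Subsingleton.elim _ _, Subsingleton.elim _ _⟩
  refine (map_eq_zero_iff (lM hF _ n _) (lM_bijective hF _ n _).1).symm.trans ?_
  refine (map_eq_zero_iff _ (ConcreteCategory.bijective_of_isIso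
    (((pullSys p hp F).F n).presheaf.map (homOfLE (lvU_pre hF p hp n V).le).op)).1).trans ?_
  exact (QCoh.unit_app_closed (p n) hQ hV).2 x

omit hV

include hp in
theorem exists_affine_pre_le {W : (𝔛.X 0).Opens} {x : 𝔛.X 0} (hx : x ∈ W) :
    ∃ V : Y.Opens, IsAffineOpen V ∧ x ∈ p 0 ⁻¹ᵁ V ∧ p 0 ⁻¹ᵁ V ≤ W := by
  obtain ⟨O, hO, hOW⟩ := (p 0).isClosedEmbedding.isInducing.isOpen_iff.1 W.2
  have hxO : (p 0).base x ∈ O := (Set.ext_iff.1 hOW x).2 hx
  obtain ⟨V, hV, hxV, hVO⟩ :=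
    exists_isAffineOpen_mem_and_subset (U := (⟨O, hO⟩ : Y.Opens)) hxO
  exact ⟨V, hV, hxV, fun z hz => (Set.ext_iff.1 hOW z).1 (hVO hz)⟩

section Exact

variable {S : ShortComplex Y.Modules}

include hV

theorem exists_lift_level (hS : S.ShortExact) (h2 : Coh.IsQCoh S.X₂) (h3 : Coh.IsQCoh S.X₃)
    (n : ℕ) (y : PM hF (pullSys p hp S.X₂) n (p 0 ⁻¹ᵁ V))
    (hy : app ((FSch.levelMor 𝔛 hF n).push.map ((Scheme.Modules.pullback (p n)).map S.g))
      (p 0 ⁻¹ᵁ V) y = 0) :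
    ∃ x : PM hF (pullSys p hp S.X₁) n (p 0 ⁻¹ᵁ V),
      app ((FSch.levelMor 𝔛 hF n).push.map ((Scheme.Modules.pullback (p n)).map S.f)) (p 0 ⁻¹ᵁ V) x = y := by
  have := hS.mono_f
  have := hS.epi_g
  obtain ⟨m, rfl⟩ := surjective_σP hF p hp hV h2 n y
  have hy := (σP_eq_zero_iff hF p hp hV h3 n _).1 ((app_σP hF p hp S.g n V m).symm.trans hy)
  obtain ⟨w, hw, hwm⟩ : ∃ w ∈ (p n).ker.ideal ⟨V, hV⟩ • (⊤ : Submodule Γ(Y, V) Γ(S.X₂, V)),
      S.g.app V w = S.g.app V m :=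
    FComplLib.exists_mem_smul_top (RingHom.id _) Function.surjective_id (S.g.app V).hom
      (QCoh.app_surjective_of_epi h2 h3 S.g hV) (fun r x => Scheme.Modules.Hom.app_smul S.g r x) _
      (by rw [Ideal.map_id]; exact hy)
  have hw0 : σP hF p hp S.X₂ n V w = 0 := (σP_eq_zero_iff hF p hp hV h2 n w).2 hw
  obtain ⟨a, ha⟩ := QCoh.exists_app_f_eq hS V (m - w) (by rw [map_sub, hwm, sub_self])
  refine ⟨σP hF p hp S.X₁ n V a, (app_σP hF p hp S.f n V a).trans ?_⟩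
  rw [ha, map_sub, hw0, sub_zero]

theorem exists_ker_level [IsLocallyNoetherian Y] (J : Y.IdealSheafData)
    (hJ : ∀ n, (p n).ker = J ^ (n + 1)) (hS : S.ShortExact) (h1 : Coh.IsQCoh S.X₁)
    (h2 : Coh.IsCoh S.X₂) :
    ∃ c : ℕ, ∀ n (x : Γ(S.X₁, V)), σP hF p hp S.X₂ (n + c) V (S.f.app V x) = 0 →
      σP hF p hp S.X₁ n V x = 0 := by
  have := hS.mono_f
  have : IsNoetherianRing Γ(Y, V) := IsLocallyNoetherian.component_noetherian ⟨V, hV⟩
  have : Module.Finite Γ(Y, V) Γ(S.X₂, V) := QCoh.finite_sections h2 hV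
  let l : Γ(S.X₁, V) →ₗ[Γ(Y, V)] Γ(S.X₂, V) :=
    { toFun := S.f.app V, map_add' := map_add _, map_smul' := fun r x => Scheme.Modules.Hom.app_smul S.f r x }
  have hinj : Function.Injective l := QCoh.app_injective S.f V
  have hker : ∀ k, (p k).ker.ideal ⟨V, hV⟩ = J.ideal ⟨V, hV⟩ ^ (k + 1) := fun k => by
    rw [hJ, Scheme.IdealSheafData.ideal_pow, Pi.pow_apply]
  obtain ⟨c, hc⟩ := Ideal.exists_pow_inf_eq_pow_smul (J.ideal ⟨V, hV⟩) (LinearMap.range l)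
  refine ⟨c, fun n x hx => (σP_eq_zero_iff hF p hp hV h1 n x).2 ?_⟩
  have hx1 := (σP_eq_zero_iff hF p hp hV h2.1 _ _).1 hx
  rw [hker, show n + c + 1 = n + 1 + c by omega] at hx1
  rw [hker]
  have hx' : l x ∈ J.ideal ⟨V, hV⟩ ^ (n + 1 + c) • ⊤ ⊓ LinearMap.range l := ⟨hx1, x, rfl⟩
  rw [hc _ (Nat.le_add_left c (n + 1)), Nat.add_sub_cancel] at hx'
  have hx'' : l x ∈ (J.ideal ⟨V, hV⟩ ^ (n + 1) • (⊤ : Submodule Γ(Y, V) Γ(S.X₁, V))).map l := by
    rw [Submodule.map_smul'', Submodule.map_top]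
    exact Submodule.smul_mono le_rfl inf_le_right hx'
  obtain ⟨x', hx', he⟩ := hx''
  rwa [hinj he] at hx'

end Exact

end Closed

theorem realModMap_comp_zero {S : ShortComplex Y.Modules} :
    FSch.ModSys.realModMap hF (pullSysMap p hp S.f) ≫ FSch.ModSys.realModMap hF (pullSysMap p hp S.g) = 0 := by
  refine hom_ext fun W x => πM_ext hF _ fun n => ?_
  have := (Scheme.Modules.pullbackPushforwardAdjunction (p n)).left_adjoint_additive
  let P := Scheme.Modules.pullback (p n)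
  have h0 : P.map S.f ≫ P.map S.g = 0 :=
    (P.map_comp _ _).symm.trans ((congrArg P.map S.zero).trans (P.map_zero _ _))
  refine (πM_pullSysMap hF p hp S.g n W _).trans ?_
  refine (congrArg _ (πM_pullSysMap hF p hp S.f n W x)).trans ?_
  refine (congrArg (fun ψ => Scheme.Modules.Hom.app ψ (𝔛.lvU hF n W)
    (lM hF _ n W (πM hF (pullSys p hp S.X₁) n W x))) h0).trans ?_
  exact (map_zero _).symm

/-- The limit of the inverse images is exact on coherent modules. -/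
theorem shortExact_realModMap [IsLocallyNoetherian Y] [∀ n, IsClosedImmersion (p n)]
    (J : Y.IdealSheafData) (hJ : ∀ n, (p n).ker = J ^ (n + 1)) (S : ShortComplex Y.Modules)
    (hS : S.ShortExact) (h1 : Coh.IsCoh S.X₁) (h2 : Coh.IsCoh S.X₂) (h3 : Coh.IsCoh S.X₃)
    (w : FSch.ModSys.realModMap hF (pullSysMap p hp S.f) ≫
      FSch.ModSys.realModMap hF (pullSysMap p hp S.g) = 0) :
    (ShortComplex.mk _ _ w).ShortExact := by
  have := hS.mono_f
  have := hS.epi_g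
  refine ShortComplex.ShortExact.mk' ?_ ?_ ?_
  · refine exact_of_nhds fun W y hy q hq => ?_
    obtain ⟨V, hV, hqV, hle⟩ := exists_affine_pre_le p hp hq
    refine ⟨p 0 ⁻¹ᵁ V, hle, hqV, ?_⟩
    let y' : Ms ((pullSys p hp S.X₂).realMod hF) (p 0 ⁻¹ᵁ V) := rM _ hle y
    have hy' : app (FSch.ModSys.realModMap hF (pullSysMap p hp S.g)) (p 0 ⁻¹ᵁ V) y' = 0 :=
      (app_rM _ hle y).trans ((congrArg (rM _ hle) hy).trans (map_zero _))
    obtain ⟨c, hc⟩ := exists_ker_level hF p hp hV J hJ hS h1.1 h2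
    have hlev : ∀ n, ∃ x : PM hF (pullSys p hp S.X₁) n (p 0 ⁻¹ᵁ V),
        app ((FSch.levelMor 𝔛 hF n).push.map ((Scheme.Modules.pullback (p n)).map S.f)) (p 0 ⁻¹ᵁ V) x =
          πM hF _ n (p 0 ⁻¹ᵁ V) y' := fun n =>
      exists_lift_level hF p hp hV hS h2.1 h3.1 n _
        ((πM_pullSysMap hF p hp S.g n _ y').symm.trans ((congrArg _ hy').trans (map_zero _)))
    choose x hx using hlev
    choose a ha using fun n => surjective_σP hF p hp hV h1.1 n (x n)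
    have hfa : ∀ n, σP hF p hp S.X₂ n V (S.f.app V (a n)) = πM hF _ n (p 0 ⁻¹ᵁ V) y' := fun n =>
      (app_σP hF p hp S.f n V (a n)).symm.trans ((congrArg _ (ha n)).trans (hx n))
    have hdown : ∀ k m (b : Γ(S.X₁, V)),
        σP hF p hp S.X₂ (m + k) V (S.f.app V b) = πM hF _ (m + k) (p 0 ⁻¹ᵁ V) y' →
        σP hF p hp S.X₂ m V (S.f.app V b) = πM hF _ m (p 0 ⁻¹ᵁ V) y' := by
      intro k
      induction k with
      | zero => exact fun m b h => h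
      | succ k ih =>
        refine fun m b h => ih m b ?_
        rw [← trM_σP hF p hp (m + k) V (S.f.app V b), ← trM_πM hF _ (m + k) _ y']
        exact congrArg _ h
    have hgoal : ∀ n, trM hF (pullSys p hp S.X₁) n (p 0 ⁻¹ᵁ V)
        (σP hF p hp S.X₁ (n + 1) V (a (n + 1 + c))) = σP hF p hp S.X₁ n V (a (n + c)) := by
      intro n
      rw [trM_σP, ← sub_eq_zero, ← map_sub]
      refine hc n _ ?_
      rw [map_sub, map_sub, hfa, sub_eq_zero]
      refine hdown 1 (n + c) (a (n + 1 + c)) ?_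
      rw [show n + 1 + c = n + c + 1 by omega]
      exact hfa _
    obtain ⟨z, hz, -⟩ := exists_πM_eq hF (pullSys p hp S.X₁) (p 0 ⁻¹ᵁ V)
      (fun n => σP hF p hp S.X₁ n V (a (n + c))) hgoal
    refine ⟨z, πM_ext hF _ fun n => ?_⟩
    refine (πM_pullSysMap hF p hp S.f n _ z).trans ?_
    rw [hz]
    exact (app_σP hF p hp S.f n V _).trans (hdown c n _ (hfa (n + c)))
  · refine mono_of_nhds _ fun W y hy q hq => ?_
    obtain ⟨V, hV, hqV, hle⟩ := exists_affine_pre_le p hp hq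
    refine ⟨p 0 ⁻¹ᵁ V, hle, hqV, πM_ext hF _ fun n => ?_⟩
    obtain ⟨c, hc⟩ := exists_ker_level hF p hp hV J hJ hS h1.1 h2
    let y' : Ms ((pullSys p hp S.X₁).realMod hF) (p 0 ⁻¹ᵁ V) := rM _ hle y
    obtain ⟨a, ha⟩ := surjective_σP hF p hp hV h1.1 (n + c) (πM hF _ (n + c) (p 0 ⁻¹ᵁ V) y')
    have hzero : σP hF p hp S.X₂ (n + c) V (S.f.app V a) = 0 := by
      refine (app_σP hF p hp S.f (n + c) V a).symm.trans ?_
      rw [ha]
      refine (πM_pullSysMap hF p hp S.f (n + c) _ y').symm.trans ?_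
      refine (congrArg _ ((app_rM _ hle y).trans ((congrArg (rM _ hle) hy).trans (map_zero _)))).trans ?_
      exact map_zero _
    have hdown : ∀ k m, σP hF p hp S.X₁ (m + k) V a = πM hF _ (m + k) (p 0 ⁻¹ᵁ V) y' →
        σP hF p hp S.X₁ m V a = πM hF _ m (p 0 ⁻¹ᵁ V) y' := by
      intro k
      induction k with
      | zero => exact fun m h => h
      | succ k ih =>
        refine fun m h => ih m ?_
        rw [← trM_σP hF p hp (m + k) V a, ← trM_πM hF _ (m + k) _ y']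
        exact congrArg _ h
    refine ((hdown c n ha).symm.trans (hc n a hzero)).trans (map_zero _).symm
  · refine epi_of_nhds _ fun W y q hq => ?_
    obtain ⟨V, hV, hqV, hle⟩ := exists_affine_pre_le p hp hq
    refine ⟨p 0 ⁻¹ᵁ V, hle, hqV, ?_⟩
    let y' : Ms ((pullSys p hp S.X₃).realMod hF) (p 0 ⁻¹ᵁ V) := rM _ hle y
    let P₂ := fun n => PM hF (pullSys p hp S.X₂) n (p 0 ⁻¹ᵁ V)
    let ag := fun n => app ((FSch.levelMor 𝔛 hF n).push.map ((Scheme.Modules.pullback (p n)).map S.g)) (p 0 ⁻¹ᵁ V)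
    have hsurj : ∀ n (v : PM hF (pullSys p hp S.X₃) n (p 0 ⁻¹ᵁ V)), ∃ u : P₂ n, ag n u = v := fun n v => by
      obtain ⟨b, rfl⟩ := surjective_σP hF p hp hV h3.1 n v
      obtain ⟨a, rfl⟩ := QCoh.app_surjective_of_epi h2.1 h3.1 S.g hV b
      exact ⟨σP hF p hp S.X₂ n V a, app_σP hF p hp S.g n V a⟩
    have hstep : ∀ n (u : P₂ n), ag n u = πM hF _ n (p 0 ⁻¹ᵁ V) y' →
        ∃ u' : P₂ (n + 1), ag (n + 1) u' = πM hF _ (n + 1) (p 0 ⁻¹ᵁ V) y' ∧
          trM hF (pullSys p hp S.X₂) n (p 0 ⁻¹ᵁ V) u' = u := by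
      intro n u hu
      obtain ⟨v, hv⟩ := hsurj (n + 1) (πM hF _ (n + 1) (p 0 ⁻¹ᵁ V) y')
      obtain ⟨d, hd⟩ := exists_lift_level hF p hp hV hS h2.1 h3.1 n
        (u - trM hF (pullSys p hp S.X₂) n (p 0 ⁻¹ᵁ V) v) (by
          refine (map_sub (ag n) u _).trans (sub_eq_zero.2 ?_)
          refine hu.trans ?_
          refine Eq.trans ?_ (trM_map hF (pullSysMap p hp S.g) n _ v)
          refine Eq.trans ?_ (congrArg _ hv.symm)
          exact (trM_πM hF _ n _ y').symm)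
      obtain ⟨a, rfl⟩ := surjective_σP hF p hp hV h1.1 n d
      refine ⟨v + σP hF p hp S.X₂ (n + 1) V (S.f.app V a), ?_, ?_⟩
      · refine (map_add (ag (n + 1)) _ _).trans ?_
        rw [hv]
        refine add_eq_left.2 ?_
        refine (app_σP hF p hp S.g (n + 1) V _).trans ?_
        rw [show S.g.app V (S.f.app V a) = (S.f ≫ S.g).app V a from rfl, S.zero]
        exact map_zero _
      · refine (map_add (trM hF (pullSys p hp S.X₂) n (p 0 ⁻¹ᵁ V)) _ _).trans ?_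
        rw [trM_σP]
        refine (congrArg _ ((app_σP hF p hp S.f n V a).symm.trans hd)).trans ?_
        exact add_sub_cancel _ u
    obtain ⟨u₀, hu₀⟩ := hsurj 0 (πM hF _ 0 (p 0 ⁻¹ᵁ V) y')
    let u : ∀ n, { v : P₂ n // ag n v = πM hF _ n (p 0 ⁻¹ᵁ V) y' } := fun n =>
      Nat.rec ⟨u₀, hu₀⟩ (fun n v => ⟨(hstep n v.1 v.2).choose, (hstep n v.1 v.2).choose_spec.1⟩) n
    obtain ⟨z, hz, -⟩ := exists_πM_eq hF (pullSys p hp S.X₂) (p 0 ⁻¹ᵁ V) (fun n => (u n).1)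
      fun n => (hstep n (u n).1 (u n).2).choose_spec.2
    refine ⟨z, πM_ext hF _ fun n => ?_⟩
    refine (πM_pullSysMap hF p hp S.g n _ z).trans ?_
    rw [hz]
    exact (u n).2

end Groth.Agent.FormalSch78
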