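import Groth.Agent.FormalSch78.Coherent
import Groth.Agent.FormalSch78.Adjunct

/-!
# The levels of the module of a coherent system
-/

universe u

open CategoryTheory CategoryTheory.Limits AlgebraicGeometry Opposite

namespace Groth.Agent.FormalSch78

/-- A base change is a base change. -/
theorem isBC_of_isBaseChange {X X' : TopCat.{u}} {O : Sheaf (Opens.grothendieckTopology X) CommRingCat.{u}}
    {O' : Sheaf (Opens.grothendieckTopology X') CommRingCat.{u}} {g : X' ⟶ X}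
    {sharp : O ⟶ ((TopologicalSpace.Opens.map g).sheafPushforwardContinuous CommRingCat.{u}
      (Opens.grothendieckTopology X) (Opens.grothendieckTopology X')).obj O'}
    {F : ModSite.Mod O} {N : ModSite.Mod O'} {U : TopologicalSpace.Opens X}
    {φ : F ⟶ (mor g sharp).push.obj N} {V : TopologicalSpace.Opens X'}
    {h : V ≤ (TopologicalSpace.Opens.map g).obj U}
    [Algebra (Rg O U) (Rg O' V)] [Module (Rg O U) (Ms N V)] [IsScalarTower (Rg O U) (Rg O' V) (Ms N V)]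
    (halg : ∀ r, algebraMap (Rg O U) (Rg O' V) r = pl g sharp h r)
    {l : Ms F U →ₗ[Rg O U] Ms N V} (hl : ∀ c, l c = pm g sharp φ h c)
    (hb : IsBaseChange (Rg O' V) l) : IsBC g sharp φ h := by
  refine ⟨eq_top_iff.2 fun y _ => ?_, fun Q _ _ ρ hρ => ?_⟩
  · refine hb.inductionOn y (motive := fun z => z ∈ Submodule.span (Rg O' V) (Set.range (pm g sharp φ h)))
      (Submodule.zero_mem _) (fun c => Submodule.subset_span ⟨c, (hl c).symm⟩)
      (fun r z hz => Submodule.smul_mem _ r hz) fun z z' hz hz' => Submodule.add_mem _ hz hz'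
  · let : Module (Rg O U) Q := Module.compHom _ (algebraMap (Rg O U) (Rg O' V))
    have : IsScalarTower (Rg O U) (Rg O' V) Q :=
      ⟨fun a b x => by rw [Algebra.smul_def, mul_smul]; rfl⟩
    let ρ' : Ms F U →ₗ[Rg O U] Q :=
      { ρ with map_smul' := fun r c => (hρ r c).trans (by rw [← halg]; rfl) }
    exact ⟨hb.lift ρ', fun c => by rw [← hl]; exact hb.lift_eq ρ' c⟩

variable {𝔛 : FSch.Sys.{u}} (hF : 𝔛.IsFormal)

theorem exists_affine_lvU_le (n : ℕ) {V : (𝔛.X n).Opens} {U : (𝔛.X 0).Opens}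
    (hVU : V ≤ 𝔛.lvU hF n U) {q : 𝔛.X n} (hq : q ∈ V) :
    ∃ W : (𝔛.X 0).Opens, IsAffineOpen W ∧ W ≤ U ∧ q ∈ 𝔛.lvU hF n W ∧ 𝔛.lvU hF n W ≤ V := by
  have hxg : (𝔛.toX n).base.hom ((𝔛.gInv hF n).hom q) = q :=
    congr($(FSch.Sys.gInv_toX_base 𝔛 hF n).hom q)
  obtain ⟨W, hW, hqW, hWV⟩ := exists_isAffineOpen_mem_and_subset (x := (𝔛.gInv hF n).hom q)
    (U := 𝔛.toX n ⁻¹ᵁ V) (show (𝔛.toX n).base.hom _ ∈ V by rw [hxg]; exact hq)
  have hmem : ∀ y : 𝔛.X n, y ∈ 𝔛.lvU hF n W → y ∈ V := fun y hy => by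
    have h1 : (𝔛.toX n).base.hom ((𝔛.gInv hF n).hom y) ∈ V := hWV hy
    have : (𝔛.toX n).base.hom ((𝔛.gInv hF n).hom y) = y :=
      congr($(FSch.Sys.gInv_toX_base 𝔛 hF n).hom y)
    rwa [this] at h1
  refine ⟨W, hW, fun x hx => ?_, hqW, hmem⟩
  have h2 := hVU (show (𝔛.toX n).base.hom x ∈ V from hWV hx)
  have : (𝔛.gInv hF n).hom ((𝔛.toX n).base.hom x) = x :=
    congr($(FSch.Sys.toX_base_gInv 𝔛 hF n).hom x)
  exact this ▸ (show (𝔛.gInv hF n).hom ((𝔛.toX n).base.hom x) ∈ U from h2)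

variable (hA : 𝔛.IsAdic) (hN : ∀ n, IsLocallyNoetherian (𝔛.X n)) (𝔐 : FSch.ModSys 𝔛) (h𝔐 : 𝔐.IsCoh)
  {U : (𝔛.X 0).Opens} (hU : IsAffineOpen U) {W : (𝔛.X 0).Opens} (hW : IsAffineOpen W) (hWU : W ≤ U)

include hA hN h𝔐 hU hW

/-- Over affine opens of a chart, a level is the base change of the sections. -/
theorem isBC_realMod (n : ℕ) :
    IsBC (𝔛.gInv hF n) (𝔛.OshProj hF n) (FSch.realProj 𝔛 hF 𝔐.F 𝔐.toPush n)
      (((TopologicalSpace.Opens.map (𝔛.gInv hF n)).map (homOfLE hWU)).le) := by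
  let A := Rg (𝔛.Osh hF) U
  let R := lv hF n U
  let R' := lv hF n W
  let NU := Γ(𝔐.F n, 𝔛.lvU hF n U)
  let NV := Γ(𝔐.F n, 𝔛.lvU hF n W)
  let hle' := ((TopologicalSpace.Opens.map (𝔛.gInv hF n)).map (homOfLE hWU)).le
  let : Algebra A R := (πlv hF n U).toAlgebra
  let : Algebra R R' := (reslv hF n hWU).toAlgebra
  let : Algebra A R' := ((reslv hF n hWU).comp (πlv hF n U)).toAlgebra
  have : IsScalarTower A R R' := IsScalarTower.of_algebraMap_eq fun a => rfl
  let : Module A NU := Module.compHom _ (algebraMap A R)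
  let : Module A NV := Module.compHom _ (algebraMap A R')
  let : Module R NV := Module.compHom _ (algebraMap R R')
  have : IsScalarTower A R NU := ⟨fun a b x => by rw [Algebra.smul_def, mul_smul]; rfl⟩
  have : IsScalarTower A R' NV := ⟨fun a b x => by rw [Algebra.smul_def, mul_smul]; rfl⟩
  have : IsScalarTower R R' NV := ⟨fun a b x => by rw [Algebra.smul_def, mul_smul]; rfl⟩
  have : IsScalarTower A R NV := ⟨fun a b x => by
    show algebraMap R R' (a • b) • x = algebraMap A R' a • algebraMap R R' b • x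
    rw [Algebra.smul_def, map_mul, ← IsScalarTower.algebraMap_apply, mul_smul]⟩
  obtain ⟨-, -, hspec⟩ := realMod_spec hF 𝔐 hA hN h𝔐 hU
  obtain ⟨-, -, -, hkerU, -⟩ := formalIdeal_spec hF hA hU hN
  let π : Ms (𝔐.realMod hF) U →ₗ[A] NU :=
    { toFun := fun c => lM hF 𝔐 n U (πM hF 𝔐 n U c)
      map_add' := fun c c' => by rw [map_add, map_add]
      map_smul' := fun a c => by rw [map_smul, lM_smul]; rfl }
  have hπ : IsBaseChange R π := by
    refine isBaseChange_of_surjective (surjective_πlv hF hU n) π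
      ((lM_bijective hF 𝔐 n U).2.comp (hspec n).1) fun c hc => ?_
    have hc' : c ∈ LinearMap.ker (πM hF 𝔐 n U) :=
      LinearMap.mem_ker.2 ((map_eq_zero_iff _ (lM_bijective hF 𝔐 n U).1).1 hc)
    rw [(hspec n).2] at hc'
    rwa [show RingHom.ker (algebraMap A R) = formalIdeal hF U ^ (n + 1) from hkerU n]
  let l : NU →ₗ[R] NV :=
    { toFun := (𝔐.F n).presheaf.map (homOfLE hle').op
      map_add' := map_add _
      map_smul' := fun r x => (QCoh.map_smul' (M := 𝔐.F n) (homOfLE hle') r x).trans rfl }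
  have hl : IsBaseChange R' l :=
    isBaseChange_res (h𝔐 n).1 (isAffineOpen_lvU hF hU n) (isAffineOpen_lvU hF hW n) hle'
      (fun r => rfl) l fun x => rfl
  let lπ : Ms (𝔐.realMod hF) U →ₗ[A] NV := (l.restrictScalars A).comp π
  have hc : IsBaseChange R' lπ := IsBaseChange.comp hπ hl
  let : Algebra A (Rg (𝔛.X n).sheaf ((TopologicalSpace.Opens.map (𝔛.gInv hF n)).obj W)) :=
    (inferInstance : Algebra A R')
  let : Module A (Ms (O := (𝔛.X n).sheaf) (𝔐.F n) ((TopologicalSpace.Opens.map (𝔛.gInv hF n)).obj W)) :=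
    (inferInstance : Module A NV)
  have : IsScalarTower A (Rg (𝔛.X n).sheaf ((TopologicalSpace.Opens.map (𝔛.gInv hF n)).obj W))
      (Ms (O := (𝔛.X n).sheaf) (𝔐.F n) ((TopologicalSpace.Opens.map (𝔛.gInv hF n)).obj W)) :=
    (inferInstance : IsScalarTower A R' NV)
  exact isBC_of_isBaseChange (g := 𝔛.gInv hF n) (sharp := 𝔛.OshProj hF n)
    (O' := (𝔛.X n).sheaf) (N := 𝔐.F n) (l := lπ) (fun r => rfl)
    (fun c => rfl) hc

omit hW

theorem locSpan_realMod : LocSpan (𝔐.realMod hF) U :=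
  span_of_ass (isTBase_formal hF hA hN hU) (ass_realMod hF 𝔐 hA hN h𝔐 hU)

omit hU

/-- The inverse image of the module of a coherent system on a level is that level. -/
theorem isIso_realProj_adjunct (k : ℕ) :
    IsIso (((FSch.levelMor 𝔛 hF k).adj.homEquiv _ _).symm (FSch.realProj 𝔛 hF 𝔐.F 𝔐.toPush k)) := by
  refine isIso_adjunct (g := 𝔛.gInv hF k) (sharp := 𝔛.OshProj hF k)
    (FSch.realProj 𝔛 hF 𝔐.F 𝔐.toPush k) fun q => ?_
  obtain ⟨U, hU, hqU, -⟩ := exists_isAffineOpen_mem_and_subset (x := (𝔛.gInv hF k).hom q)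
    (U := (⊤ : (𝔛.X 0).Opens)) trivial
  refine ⟨U, hqU, locSpan_realMod hF hA hN 𝔐 h𝔐 hU, fun V hV p hp => ?_⟩
  obtain ⟨W, hW, hWU, hpW, hWV⟩ := exists_affine_lvU_le hF k hV hp
  exact ⟨𝔛.lvU hF k W, hWV, _, hpW, isBC_realMod hF hA hN 𝔐 h𝔐 hU hW hWU k⟩

end Groth.Agent.FormalSch78
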