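import Groth.Agent.FormalSch78.PullSys
import Groth.Agent.FormalSch78.RealModPull
import Groth.Agent.FormalSch78.CompleteBC
import Groth.Agent.FittX.Sheaf

/-!
# Inverse images of coherent modules of a scheme on a formal scheme over it
-/

universe u

open CategoryTheory CategoryTheory.Limits AlgebraicGeometry Opposite

namespace Groth.Agent.FormalSch78

variable {𝔛 : FSch.Sys.{u}} (hF : 𝔛.IsFormal) {Y : Scheme.{u}} (p : ∀ n, 𝔛.X n ⟶ Y)
  (hp : ∀ n, 𝔛.ι n ≫ p (n + 1) = p n) (F : Y.Modules)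

/-- The morphism to the scheme, in the chart form. -/
noncomputable abbrev toSch : ModSite.RMor (𝔛.Osh hF) Y.sheaf :=
  mor (X := Y.toTopCat) (O := Y.sheaf) (p 0).base (FSch.schSharp 𝔛 hF p hp)

/-- Sections to the sections of a level. -/
noncomputable def toLevel (n : ℕ) :
    (show ModSite.Mod Y.sheaf from F) ⟶
      (toSch hF p hp).push.obj ((FSch.levelMor 𝔛 hF n).push.obj ((pullSys p hp F).F n)) :=
  (Scheme.Modules.pullbackPushforwardAdjunction (p n)).unit.app F ≫
    (FSch.schPushCompare 𝔛 hF p hp n).app ((pullSys p hp F).F n)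

theorem app_toLevel (n : ℕ) (V : Y.Opens) (x : Γ(F, V)) :
    app (O := Y.sheaf) (toLevel hF p hp F n) V x = σP hF p hp F n V x := rfl

theorem toLevel_succ (n : ℕ) :
    toLevel hF p hp F (n + 1) ≫ (toSch hF p hp).push.map
        ((FSch.levelMor 𝔛 hF (n + 1)).push.map ((pullSys p hp F).toPush n) ≫
          (FSch.pushCompare 𝔛 hF n).app ((pullSys p hp F).F n)) =
      toLevel hF p hp F n :=
  hom_ext (X := Y.toTopCat) fun V x => trM_σP hF p hp n V x

/-- The comparison map to the limit of the levels. -/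
noncomputable def toRealMod :
    (show ModSite.Mod Y.sheaf from F) ⟶ (toSch hF p hp).push.obj ((pullSys p hp F).realMod hF) :=
  haveI := (toSch hF p hp).adj.rightAdjoint_preservesLimits
  (isLimitOfPreserves (toSch hF p hp).push
    (limit.isLimit (FSch.levelSysOf 𝔛 hF (pullSys p hp F).F (pullSys p hp F).toPush))).lift
    { pt := (show ModSite.Mod Y.sheaf from F)
      π := NatTrans.ofOpSequence (fun n => toLevel hF p hp F n) fun n => by
        simp only [Functor.const_obj_map, Category.id_comp, Functor.comp_map, FSch.levelSysOf_map_succ]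
        exact (toLevel_succ hF p hp F n).symm }

theorem toRealMod_proj (n : ℕ) :
    toRealMod hF p hp F ≫ (toSch hF p hp).push.map
        (FSch.realProj 𝔛 hF (pullSys p hp F).F (pullSys p hp F).toPush n) = toLevel hF p hp F n :=
  haveI := (toSch hF p hp).adj.rightAdjoint_preservesLimits
  IsLimit.fac _ _ (op n)

theorem πM_toRealMod (n : ℕ) (V : Y.Opens) (x : Γ(F, V)) :
    πM hF (pullSys p hp F) n (p 0 ⁻¹ᵁ V) (app (O := Y.sheaf) (toRealMod hF p hp F) V x) =
      σP hF p hp F n V x :=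
  congrArg (fun φ => app (O := Y.sheaf) φ V x) (toRealMod_proj hF p hp F n)

theorem appLE_eq_πlv (n : ℕ) {V : Y.Opens} {W : (𝔛.X 0).Opens} (h : W ≤ p 0 ⁻¹ᵁ V) (r : Γ(Y, V)) :
    (p n).appLE V (𝔛.lvU hF n W)
        (((TopologicalSpace.Opens.map (𝔛.gInv hF n)).map (homOfLE h)).le.trans (lvU_pre hF p hp n V).le) r =
      πlv hF n W (pl (X := Y.toTopCat) (O := Y.sheaf) (p 0).base (FSch.schSharp 𝔛 hF p hp) h r) := by
  refine Eq.trans ?_ (reslv_πlv hF n h _)
  refine Eq.trans ?_ (congrArg (reslv hF n h)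
    (congr(($(FSch.schSharp_proj 𝔛 hF p hp n)).hom.app (op V) r)).symm)
  exact congr(($(Scheme.Hom.appLE_map (p n) (lvU_pre hF p hp n V).le
    ((TopologicalSpace.Opens.map (𝔛.gInv hF n)).map (homOfLE h)).op)).hom r).symm

theorem isCoh_pullSys (hQ : Coh.IsCoh F) : (pullSys p hp F).IsCoh := fun n =>
  ⟨QCoh.isQCoh_pullback (p n) hQ.1, FittX.isFT_pullback (p n) hQ.1 hQ.2⟩

theorem locSpan_scheme (hQ : Coh.IsQCoh F) {U : Y.Opens} (hU : IsAffineOpen U) :
    LocSpan (X := Y.toTopCat) (O := Y.sheaf) F U := by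
  intro W hWU x q hq
  obtain ⟨V, hV, hqV, hVW⟩ := exists_isAffineOpen_mem_and_subset (x := q) (U := (W : Y.Opens)) hq
  refine ⟨V, hVW, (show (V : Y.Opens) ≤ U from hVW.trans hWU), hqV, ?_⟩
  have hle : (V : Y.Opens) ≤ U := hVW.trans hWU
  let : Algebra Γ(Y, U) Γ(Y, V) := (Y.presheaf.map (homOfLE hle).op).hom.toAlgebra
  let : Module Γ(Y, U) Γ(F, V) := Module.compHom _ (algebraMap Γ(Y, U) Γ(Y, V))
  have : IsScalarTower Γ(Y, U) Γ(Y, V) Γ(F, V) := ⟨fun a b x => by rw [Algebra.smul_def, mul_smul]; rfl⟩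
  let l : Γ(F, U) →ₗ[Γ(Y, U)] Γ(F, V) :=
    { toFun := F.presheaf.map (homOfLE hle).op
      map_add' := map_add _
      map_smul' := fun r x => (QCoh.map_smul' (M := F) (homOfLE hle) r x).trans rfl }
  have hl := isBaseChange_res hQ hU hV hle (fun r => rfl) l fun x => rfl
  exact hl.inductionOn (F.presheaf.map (homOfLE hVW).op x)
    (motive := fun z => z ∈ Submodule.span Γ(Y, V) (Set.range fun c : Γ(F, U) => F.presheaf.map (homOfLE hle).op c))
    (Submodule.zero_mem _) (fun c => Submodule.subset_span ⟨c, rfl⟩)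
    (fun r z hz => Submodule.smul_mem _ r hz) fun z z' hz hz' => Submodule.add_mem _ hz hz'

variable (hA : 𝔛.IsAdic) (hN : ∀ n, IsLocallyNoetherian (𝔛.X n)) (hQ : Coh.IsCoh F)

include hA hN hQ

theorem isBC_toRealMod {U : Y.Opens} (hU : IsAffineOpen U) {W : (𝔛.X 0).Opens} (hW : IsAffineOpen W)
    (hWU : W ≤ p 0 ⁻¹ᵁ U) :
    IsBC (X := Y.toTopCat) (O := Y.sheaf) (p 0).base (FSch.schSharp 𝔛 hF p hp) (toRealMod hF p hp F) hWU := by
  let 𝔐 := pullSys p hp F
  have h𝔐 := isCoh_pullSys p hp F hQ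
  let A := Γ(Y, U)
  let B := Rg (𝔛.Osh hF) W
  let f : A →+* B := pl (X := Y.toTopCat) (O := Y.sheaf) (p 0).base (FSch.schSharp 𝔛 hF p hp) hWU
  let hle : ∀ n, 𝔛.lvU hF n W ≤ p n ⁻¹ᵁ U := fun n =>
    ((TopologicalSpace.Opens.map (𝔛.gInv hF n)).map (homOfLE hWU)).le.trans (lvU_pre hF p hp n U).le
  let : Algebra A B := f.toAlgebra
  let : ∀ n, Algebra A (lv hF n W) := fun n => ((πlv hF n W).comp f).toAlgebra
  let M := Ms (𝔐.realMod hF) W
  let : Module A M := Module.compHom _ f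
  have : IsScalarTower A B M := ⟨fun a b x => by rw [Algebra.smul_def, mul_smul]; rfl⟩
  let N : ℕ → Type u := fun n => Γ((Scheme.Modules.pullback (p n)).obj F, 𝔛.lvU hF n W)
  let : ∀ n, Module A (N n) := fun n => Module.compHom _ (algebraMap A (lv hF n W))
  have : ∀ n, IsScalarTower A (lv hF n W) (N n) := fun n =>
    ⟨fun a b x => by rw [Algebra.smul_def, mul_smul]; rfl⟩
  obtain ⟨-, -, hcompl, hker, hn⟩ := formalIdeal_spec hF hA hW hN
  obtain ⟨-, hfin, hspec⟩ := realMod_spec hF 𝔐 hA hN h𝔐 hW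
  have : Module.Finite A Γ(F, U) := QCoh.finite_sections hQ hU
  let φ := toRealMod hF p hp F
  let ρ : Γ(F, U) →ₗ[A] M :=
    { toFun := pm (X := Y.toTopCat) (O := Y.sheaf) (p 0).base (FSch.schSharp 𝔛 hF p hp) φ hWU
      map_add' := map_add _
      map_smul' := fun r c => pm_smul (X := Y.toTopCat) (O := Y.sheaf) _ _ φ hWU r c }
  let q : ∀ n, M →+ N n := fun n => (lM hF 𝔐 n W).comp (πM hF 𝔐 n W).toAddMonoidHom
  let r : ∀ n, Γ(F, U) →ₗ[A] N n := fun n =>
    { toFun := QCoh.pullSec (p n) F (hle n)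
      map_add' := QCoh.pullSec_add (p n) F (hle n)
      map_smul' := fun a x => (QCoh.pullSec_smul (p n) F (hle n) a x).trans
        (congrArg (fun s : lv hF n W => s • (show N n from QCoh.pullSec (p n) F (hle n) x))
          (appLE_eq_πlv hF p hp n hWU a)) }
  have hr : ∀ n c, r n c = q n (ρ c) := fun n c => by
    show QCoh.pullSec (p n) F (hle n) c = lM hF 𝔐 n W (πM hF 𝔐 n W (rM _ hWU
      (app (O := Y.sheaf) φ U c)))
    refine Eq.trans ?_ (congrArg (lM hF 𝔐 n W) (app_rM (FSch.realProj 𝔛 hF 𝔐.F 𝔐.toPush n) hWU _)).symm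
    refine Eq.trans ?_ (congrArg (fun t => lM hF 𝔐 n W (rM _ hWU t)) (πM_toRealMod hF p hp F n U c)).symm
    refine Eq.trans ?_ (lM_rM hF 𝔐 n hWU _).symm
    exact (QCoh.map_map (M := 𝔐.F n) ((TopologicalSpace.Opens.map (𝔛.gInv hF n)).map (homOfLE hWU))
      (homOfLE (lvU_pre hF p hp n U).le) _).symm
  have hbc : IsBaseChange B ρ :=
    isBaseChange_of_levels (R := fun n => lv hF n W) (N := N) (formalIdeal hF W) ρ
      (fun n => { πlv hF n W with commutes' := fun a => rfl }) (surjective_πlv hF hW) hker q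
      (fun n b x => (congrArg (lM hF 𝔐 n W) (map_smul (πM hF 𝔐 n W) b x)).trans (lM_smul hF 𝔐 n W b _))
      (fun n x hx => by
        rw [← (hspec n).2]
        exact LinearMap.mem_ker.2 ((lM_bijective hF 𝔐 n W).1 (hx.trans (map_zero _).symm)))
      r hr fun n =>
        letI : Module Γ(Y, U) Γ((Scheme.Modules.pullback (p n)).obj F, 𝔛.lvU hF n W) := (inferInstance : Module A (N n))
        haveI : IsScalarTower Γ(Y, U) (lv hF n W) Γ((Scheme.Modules.pullback (p n)).obj F, 𝔛.lvU hF n W) :=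
          (inferInstance : IsScalarTower A (lv hF n W) (N n))
        QCoh.isBaseChange_pullback hU (p n) (isAffineOpen_lvU hF hW n) hQ.1 (hle n)
        (fun a => (appLE_eq_πlv hF p hp n hWU a).symm) (r n) fun x => rfl
  let : Algebra (Rg (X := Y.toTopCat) Y.sheaf U) (Rg (𝔛.Osh hF) W) := (inferInstance : Algebra A B)
  let : Module (Rg (X := Y.toTopCat) Y.sheaf U) (Ms ((pullSys p hp F).realMod hF) W) := (inferInstance : Module A M)
  have : IsScalarTower (Rg (X := Y.toTopCat) Y.sheaf U) (Rg (𝔛.Osh hF) W) (Ms ((pullSys p hp F).realMod hF) W) :=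
    (inferInstance : IsScalarTower A B M)
  exact isBC_of_isBaseChange (X := Y.toTopCat) (O := Y.sheaf) (g := (p 0).base)
    (sharp := FSch.schSharp 𝔛 hF p hp) (φ := φ) (fun a => rfl) (l := ρ) (fun c => rfl) hbc

/-- The inverse image of a coherent module is the limit of the levels. -/
theorem isIso_toRealMod_adjunct :
    IsIso (((toSch hF p hp).adj.homEquiv _ _).symm (toRealMod hF p hp F)) := by
  refine isIso_adjunct (X := Y.toTopCat) (O := Y.sheaf) (g := (p 0).base)
    (sharp := FSch.schSharp 𝔛 hF p hp) (toRealMod hF p hp F) fun q => ?_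
  obtain ⟨U, hU, hqU, -⟩ := exists_isAffineOpen_mem_and_subset (x := (p 0).base q) (U := (⊤ : Y.Opens)) trivial
  refine ⟨U, hqU, locSpan_scheme F hQ.1 hU, fun V hV q hq => ?_⟩
  obtain ⟨W, hW, hqW, hWV⟩ := exists_isAffineOpen_mem_and_subset (x := q) (U := (V : (𝔛.X 0).Opens)) hq
  exact ⟨W, hWV, (show (W : (𝔛.X 0).Opens) ≤ p 0 ⁻¹ᵁ U from hWV.trans hV), hqW,
    isBC_toRealMod hF p hp F hA hN hQ hU hW _⟩

end Groth.Agent.FormalSch78
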