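import Groth.Agent.FormalSch78.AssOps
import Groth.Agent.FormalSch78.Crit
import Groth.Agent.QCoh.RpushGod
import Groth.Agent.SiteBase.ModKill

/-!
# Vanishing of higher direct images of modules
-/

universe u

open CategoryTheory CategoryTheory.Limits Opposite TopologicalSpace

namespace Groth.Agent.FormalSch78

variable {X Y : TopCat.{u}} {O : Sheaf (Opens.grothendieckTopology X) CommRingCat.{u}}
  {O' : Sheaf (Opens.grothendieckTopology Y) CommRingCat.{u}}

/-- Cartan's criterion on a distinguished open. -/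
theorem HU_subsingleton (S : QCoh.Ab.CoverSystem X) {V : Opens X} (hV : S.Good V) :
    ∀ (n : ℕ) (F : CohTop.Ab X), S.Acyclic F → Subsingleton (CohTop.HU F (n + 1) V) := by
  intro n
  induction n with
  | zero =>
    intro F hF
    exact SiteBase.subsingleton_HU_one_X₁ (SiteBase.injectiveSES_shortExact F) V inferInstance
      (QCoh.Ab.sections_surjective S (SiteBase.injectiveSES_shortExact F) hF hV)
  | succ n ih =>
    intro F hF
    exact SiteBase.subsingleton_HU_X₁_succ (SiteBase.injectiveSES_shortExact F) V n inferInstance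
      (ih _ (QCoh.Ab.Acyclic_X₃ S (SiteBase.injectiveSES_shortExact F) hF fun _ _ _ U _ =>
        @QCoh.Ab.acyclic_of_injective _ (SiteBase.injectiveSES F).X₂ (SiteBase.injective_injectiveSES_X₂ F) _ U))

theorem Ass.HU_subsingleton {S : QCoh.Ab.CoverSystem X} {U : Opens X} (hB : IsTBase O S U)
    {F : ModSite.Mod O} (hF : Ass S U F) (n : ℕ) : Subsingleton (ModSite.HU O F (n + 1) U) :=
  FormalSch78.HU_subsingleton (below S U) ⟨hB.good, le_rfl⟩ n _ (hF.acyclic_below hB)

theorem HU_subsingleton_of_injective (I : ModSite.Mod O) [Injective I] (V : Opens X) (n : ℕ) :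
    Subsingleton (ModSite.HU O I (n + 1) V) :=
  SiteBase.subsingleton_HU_of_totallyAcyclic (SiteBase.isTotallyAcyclic_toSheaf_injective (R := ModSite.ringSh O) I) V n

/-- The underlying abelian sheaves of a short exact sequence of modules. -/
theorem toAb_shortExact {T : ShortComplex (ModSite.Mod O)} (hT : T.ShortExact) :
    (T.map (SheafOfModules.toSheaf (ModSite.ringSh O))).ShortExact :=
  hT.map_of_exact (SheafOfModules.toSheaf (ModSite.ringSh O))

theorem HU_subsingleton_X₃ {T : ShortComplex (ModSite.Mod O)} (hT : T.ShortExact) (V : Opens X) (n : ℕ)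
    (h₁ : Subsingleton (ModSite.HU O T.X₁ (n + 2) V)) (h₂ : Subsingleton (ModSite.HU O T.X₂ (n + 1) V)) :
    Subsingleton (ModSite.HU O T.X₃ (n + 1) V) :=
  SiteBase.subsingleton_HU_X₃ (toAb_shortExact hT) V (n + 1) h₁ h₂

theorem surjective_app_of_HU_one {T : ShortComplex (ModSite.Mod O)} (hT : T.ShortExact) (V : Opens X)
    (h₁ : Subsingleton (ModSite.HU O T.X₁ 1 V)) : Function.Surjective (app T.g V) :=
  SiteBase.surjective_sections_of_HU_one (toAb_shortExact hT) V h₁

/-- Higher direct images vanish when cohomology vanishes above a basis of the target. -/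
theorem isZero_Rpush (f : ModSite.RMor O O') [HasInjectiveResolutions (ModSite.Mod O)]
    (B : Opens Y → Prop) (hB : ∀ (U : Opens Y) (y : Y), y ∈ U → ∃ W, W ≤ U ∧ y ∈ W ∧ B W)
    (M : ModSite.Mod O) (hM : ∀ W, B W → ∀ n, Subsingleton (ModSite.HU O M (n + 1) (f.fn.obj W)))
    (i : ℕ) : IsZero ((f.Rpush (i + 1)).obj M) := by
  have := SpObjSS.enoughInjectives_of_hasInjectiveResolutions (C := ModSite.Mod O)
  have : f.push.IsRightAdjoint := f.adj.isRightAdjoint
  refine QCoh.isZero_rightDerived_of_class f.push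
    (fun N => ∀ W, B W → ∀ n, Subsingleton (ModSite.HU O N (n + 1) (f.fn.obj W)))
    (fun {T} hT h₁ h₂ W hW n => ?_) (fun {T} hT h₁ _ => ?_) M hM i
  · exact HU_subsingleton_X₃ hT _ n (h₁ W hW (n + 1)) (haveI := h₂; HU_subsingleton_of_injective T.X₂ _ n)
  · refine epi_of_nhds (O := O') (f.push.map T.g) fun V x p hp => ?_
    obtain ⟨W, hWV, hpW, hW⟩ := hB V p hp
    obtain ⟨y, hy⟩ := surjective_app_of_HU_one hT (f.fn.obj W) (h₁ W hW 0) (rM _ hWV x)
    exact ⟨W, hWV, hpW, y, hy⟩

end Groth.Agent.FormalSch78
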