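import Groth.Agent.FormalSch78.CohOps
import Groth.Agent.FormalSch78.GenSpan

/-!
# Quasi-coherent modules on locally Noetherian formal schemes
-/

universe u

open CategoryTheory CategoryTheory.Limits AlgebraicGeometry Opposite

namespace Groth.Agent.FormalSch78

variable {𝔛 : FSch.Sys.{u}} (hF : 𝔛.IsFormal) (hA : 𝔛.IsAdic) (hN : ∀ n, IsLocallyNoetherian (𝔛.X n))
  (𝔉 : FSch.ModF 𝔛 hF)

/-- `U` is an affine chart below which the module is given by tensor products. -/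
def IsQChart (U : (𝔛.X 0).Opens) : Prop :=
  IsAffineOpen U ∧ ∀ U' : (𝔛.X 0).Opens, IsAffineOpen U' → U' ≤ U → Ass (QCoh.stdCovers (𝔛.X 0)) U' 𝔉

theorem IsQChart.ass {U : (𝔛.X 0).Opens} (h : IsQChart hF 𝔉 U) : Ass (QCoh.stdCovers (𝔛.X 0)) U 𝔉 :=
  h.2 U h.1 le_rfl

theorem IsQChart.of_le {U V : (𝔛.X 0).Opens} (h : IsQChart hF 𝔉 U) (hV : IsAffineOpen V) (hVU : V ≤ U) :
    IsQChart hF 𝔉 V :=
  ⟨hV, fun U' hU' hle => h.2 U' hU' (hle.trans hVU)⟩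

include hA hN

theorem exists_isQChart [SheafOfModules.IsQuasicoherent.{u} 𝔉] (x : 𝔛.X 0) {V : (𝔛.X 0).Opens} (hxV : x ∈ V) :
    ∃ U : (𝔛.X 0).Opens, IsQChart hF 𝔉 U ∧ x ∈ U ∧ U ≤ V := by
  obtain ⟨W, hxW, hW⟩ := exists_ass_of_isQuasicoherent (S := QCoh.stdCovers (𝔛.X 0)) (F := 𝔉) x
  obtain ⟨U, hU, hxU, hUW⟩ :=
    exists_isAffineOpen_mem_and_subset (x := x) (U := (W ⊓ V : (𝔛.X 0).Opens)) ⟨hxW, hxV⟩
  exact ⟨U, ⟨hU, fun U' hU' h => hW U' (fun y hy => (hUW (h hy)).1) hU'.isCompact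
    (isTBase_formal hF hA hN hU')⟩, hxU, fun y hy => (hUW hy).2⟩

/-- A module with charts of tensor products is quasi-coherent. -/
theorem isQuasicoherent_of_charts
    (h : ∀ x : 𝔛.X 0, ∃ U : (𝔛.X 0).Opens, IsAffineOpen U ∧ x ∈ U ∧ Ass (QCoh.stdCovers (𝔛.X 0)) U 𝔉) :
    SheafOfModules.IsQuasicoherent.{u} 𝔉 :=
  isQuasicoherent_of_ass (S := QCoh.stdCovers (𝔛.X 0)) fun x => by
    obtain ⟨U, hU, hx, ha⟩ := h x
    exact ⟨U, hx, isTBase_formal hF hA hN hU, ha⟩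

theorem isCohF_of_charts
    (h : ∀ x : 𝔛.X 0, ∃ U : (𝔛.X 0).Opens, IsAffineOpen U ∧ x ∈ U ∧ Ass (QCoh.stdCovers (𝔛.X 0)) U 𝔉 ∧
      Module.Finite (Rg (𝔛.Osh hF) U) (Ms 𝔉 U)) : FSch.IsCohF 𝔛 hF 𝔉 :=
  isFinitePresentation_of_ass (S := QCoh.stdCovers (𝔛.X 0)) fun x => by
    obtain ⟨U, hU, hx, ha, hfin⟩ := h x
    obtain ⟨-, -, -, -, hn⟩ := formalIdeal_spec hF hA hU hN
    exact ⟨U, hx, isTBase_formal hF hA hN hU, ha, Module.finitePresentation_of_finite _ _⟩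

theorem isCohF_of_qcoh_finiteType [SheafOfModules.IsQuasicoherent.{u} 𝔉] [SheafOfModules.IsFiniteType.{u} 𝔉] :
    FSch.IsCohF 𝔛 hF 𝔉 :=
  isCohF_of_charts hF hA hN 𝔉 fun x => by
    obtain ⟨W, hxW, hW⟩ := exists_finite_of_isFiniteType (S := QCoh.stdCovers (𝔛.X 0)) (F := 𝔉) x
    obtain ⟨U, hU, hxU, hUW⟩ := exists_isQChart hF hA hN 𝔉 x hxW
    exact ⟨U, hU.1, hxU, hU.ass, hW U hUW (isTBase_formal hF hA hN hU.1) hU.ass⟩

variable {𝔉} {𝔊 : FSch.ModF 𝔛 hF}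

theorem exists_isQChart₂ [SheafOfModules.IsQuasicoherent.{u} 𝔉] [SheafOfModules.IsQuasicoherent.{u} 𝔊]
    (x : 𝔛.X 0) {V : (𝔛.X 0).Opens} (hxV : x ∈ V) :
    ∃ U : (𝔛.X 0).Opens, IsQChart hF 𝔉 U ∧ IsQChart hF 𝔊 U ∧ x ∈ U ∧ U ≤ V := by
  obtain ⟨U₁, h₁, hx₁, hle₁⟩ := exists_isQChart hF hA hN 𝔉 x hxV
  obtain ⟨U₂, h₂, hx₂, hle₂⟩ := exists_isQChart hF hA hN 𝔊 x hx₁
  exact ⟨U₂, IsQChart.of_le hF 𝔉 h₁ h₂.1 hle₂, h₂, hx₂, hle₂.trans hle₁⟩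

variable [SheafOfModules.IsQuasicoherent.{u} 𝔉] [SheafOfModules.IsQuasicoherent.{u} 𝔊]

theorem isQuasicoherent_kernelF (φ : 𝔉 ⟶ 𝔊) : SheafOfModules.IsQuasicoherent.{u} (kernel φ) :=
  isQuasicoherent_of_charts hF hA hN _ fun x => by
    obtain ⟨U, h₁, h₂, hx, -⟩ := exists_isQChart₂ hF hA hN (𝔉 := 𝔉) (𝔊 := 𝔊) x (V := ⊤) trivial
    exact ⟨U, h₁.1, hx, Ass.of_mono_exact (isFlatBase_formal hF hA hN h₁.1) (ShortComplex.exact_kernel φ)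
      h₁.ass h₂.ass⟩

theorem isQuasicoherent_cokernelF (φ : 𝔉 ⟶ 𝔊) : SheafOfModules.IsQuasicoherent.{u} (cokernel φ) :=
  isQuasicoherent_of_charts hF hA hN _ fun x => by
    obtain ⟨U, h₁, h₂, hx, -⟩ := exists_isQChart₂ hF hA hN (𝔉 := 𝔉) (𝔊 := 𝔊) x (V := ⊤) trivial
    exact ⟨U, h₁.1, hx, Ass.of_exact_epi (isTBase_formal hF hA hN h₁.1) (ShortComplex.exact_cokernel φ)
      h₁.ass h₂.ass⟩

omit [SheafOfModules.IsQuasicoherent.{u} 𝔉]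

/-- A quasi-coherent submodule of a coherent module is coherent. -/
theorem isCohF_of_mono (h𝔉 : FSch.IsCohF 𝔛 hF 𝔉) (ι : 𝔊 ⟶ 𝔉) [Mono ι] : FSch.IsCohF 𝔛 hF 𝔊 :=
  isCohF_of_charts hF hA hN _ fun x => by
    obtain ⟨W, -, hxW, -, hch⟩ := exists_isChart hF hA hN 𝔉 h𝔉 x (V := ⊤) trivial
    obtain ⟨U, hU, hxU, hUW⟩ := exists_isQChart hF hA hN 𝔊 x hxW
    obtain ⟨-, -, -, -, hn⟩ := formalIdeal_spec hF hA hU.1 hN
    have := (hch U hU.1 hUW).2.2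
    have : _root_.IsNoetherian (Rg (𝔛.Osh hF) U) (Ms 𝔉 U) := isNoetherian_of_isNoetherianRing_of_finite _ _
    exact ⟨U, hU.1, hxU, hU.ass,
      Module.Finite.of_injective (app ι U) (ModPull.app_injective ι (op U))⟩

/-- A quasi-coherent quotient of a coherent module is coherent. -/
theorem isCohF_of_epi (h𝔉 : FSch.IsCohF 𝔛 hF 𝔉) (π : 𝔉 ⟶ 𝔊) [Epi π] : FSch.IsCohF 𝔛 hF 𝔊 :=
  isCohF_of_charts hF hA hN _ fun x => by
    obtain ⟨W, -, hxW, -, hch⟩ := exists_isChart hF hA hN 𝔉 h𝔉 x (V := ⊤) trivial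
    obtain ⟨U, hU, hxU, hUW⟩ := exists_isQChart hF hA hN 𝔊 x hxW
    have hc := hch U hU.1 hUW
    have hB := isTBase_formal hF hA hN hU.1
    have hT : (ShortComplex.mk (kernel.ι π) π (kernel.condition π)).ShortExact :=
      { exact := ShortComplex.exact_kernel π, mono_f := inferInstance, epi_g := inferInstance }
    have hk : Ass (QCoh.stdCovers (𝔛.X 0)) U (kernel π) :=
      Ass.of_mono_exact (isFlatBase_formal hF hA hN hU.1) (ShortComplex.exact_kernel π) hc.2.1 hU.ass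
    have := hc.2.2
    exact ⟨U, hU.1, hxU, hU.ass,
      Module.Finite.of_surjective (app π U) (sections_surjective hB hT hk hU.1 le_rfl)⟩

end Groth.Agent.FormalSch78

namespace Groth.Agent.FormalSch78

section Five

variable {C : Type*} [Category C] [Abelian C]

theorem exists_shortExact_middle (S : ComposableArrows C 4) (hS : S.Exact) :
    ∃ (p : S.obj' 1 ⟶ kernel (S.map' 2 3)) (w₁ : S.map' 0 1 ≫ p = 0)
      (q : S.obj' 2 ⟶ kernel (S.map' 3 4)) (w₂ : kernel.ι (S.map' 2 3) ≫ q = 0),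
      (ShortComplex.mk _ _ w₁).Exact ∧ Epi p ∧ (ShortComplex.mk _ _ w₂).ShortExact := by
  let w : ∀ i (hi : i + 2 ≤ 4), S.map' i (i + 1) ≫ S.map' (i + 1) (i + 2) = 0 := fun i hi => hS.zero i hi
  let p : S.obj' 1 ⟶ kernel (S.map' 2 3) := kernel.lift _ (S.map' 1 2) (w 1 (by omega))
  let q : S.obj' 2 ⟶ kernel (S.map' 3 4) := kernel.lift _ (S.map' 2 3) (w 2 (by omega))
  have w₁ : S.map' 0 1 ≫ p = 0 := (cancel_mono (kernel.ι (S.map' 2 3))).1 (by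
    rw [Category.assoc, zero_comp, kernel.lift_ι]; exact w 0 (by omega))
  have w₂ : kernel.ι (S.map' 2 3) ≫ q = 0 := (cancel_mono (kernel.ι (S.map' 3 4))).1 (by
    rw [Category.assoc, zero_comp, kernel.lift_ι, kernel.condition])
  have hp : Epi p := (hS.exact 1).epi_kernelLift
  have hq : Epi q := (hS.exact 2).epi_kernelLift
  refine ⟨p, w₁, q, w₂, ?_, hp, { exact := ?_, mono_f := inferInstance, epi_g := hq }⟩
  · let φ : ShortComplex.mk _ _ w₁ ⟶ S.sc hS.toIsComplex 0 :=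
      { τ₁ := 𝟙 _, τ₂ := 𝟙 _, τ₃ := kernel.ι _
        comm₁₂ := (Category.id_comp _).trans (Category.comp_id _).symm
        comm₂₃ := (Category.id_comp _).trans (kernel.lift_ι _ _ _).symm }
    have : Epi φ.τ₁ := inferInstanceAs (Epi (𝟙 _))
    have : IsIso φ.τ₂ := inferInstanceAs (IsIso (𝟙 _))
    have : Mono φ.τ₃ := inferInstanceAs (Mono (kernel.ι _))
    exact (ShortComplex.exact_iff_of_epi_of_isIso_of_mono φ).2 (hS.exact 0)
  · let φ : ShortComplex.mk _ _ w₂ ⟶ ShortComplex.mk (kernel.ι (S.map' 2 3)) _ (kernel.condition _) :=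
      { τ₁ := 𝟙 _, τ₂ := 𝟙 _, τ₃ := kernel.ι _
        comm₁₂ := (Category.id_comp _).trans (Category.comp_id _).symm
        comm₂₃ := (Category.id_comp _).trans (kernel.lift_ι _ _ _).symm }
    have : Epi φ.τ₁ := inferInstanceAs (Epi (𝟙 _))
    have : IsIso φ.τ₂ := inferInstanceAs (IsIso (𝟙 _))
    have : Mono φ.τ₃ := inferInstanceAs (Mono (kernel.ι _))
    exact (ShortComplex.exact_iff_of_epi_of_isIso_of_mono φ).2 (ShortComplex.exact_kernel _)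

end Five

section

variable {𝔛 : FSch.Sys.{u}} (hF : 𝔛.IsFormal) (hA : 𝔛.IsAdic) (hN : ∀ n, IsLocallyNoetherian (𝔛.X n))

include hA hN

theorem isQuasicoherent_middle (S : ComposableArrows (FSch.ModF 𝔛 hF) 4) (hS : S.Exact)
    (h₀ : SheafOfModules.IsQuasicoherent.{u} (S.obj 0)) (h₁ : SheafOfModules.IsQuasicoherent.{u} (S.obj 1))
    (h₃ : SheafOfModules.IsQuasicoherent.{u} (S.obj 3)) (h₄ : SheafOfModules.IsQuasicoherent.{u} (S.obj 4)) :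
    SheafOfModules.IsQuasicoherent.{u} (S.obj 2) := by
  obtain ⟨p, w₁, q, w₂, hex, hp, hse⟩ := exists_shortExact_middle S hS
  refine isQuasicoherent_of_charts hF hA hN _ fun x => ?_
  obtain ⟨U₁, hU₀, hU₁, hx₁, -⟩ := exists_isQChart₂ hF hA hN (𝔉 := S.obj 0) (𝔊 := S.obj 1) x (V := ⊤) trivial
  obtain ⟨U, hU₃, hU₄, hx, hle⟩ := exists_isQChart₂ hF hA hN (𝔉 := S.obj 3) (𝔊 := S.obj 4) x hx₁
  have hB := isTBase_formal hF hA hN hU₃.1
  have hQ : Ass (QCoh.stdCovers (𝔛.X 0)) U (kernel (S.map' 3 4)) :=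
    Ass.of_mono_exact (isFlatBase_formal hF hA hN hU₃.1) (ShortComplex.exact_kernel (S.map' 3 4)) hU₃.ass hU₄.ass
  have hK : Ass (QCoh.stdCovers (𝔛.X 0)) U (kernel (S.map' 2 3)) :=
    haveI : Epi (ShortComplex.mk _ _ w₁).g := hp
    Ass.of_exact_epi hB hex (hU₀.2 U hU₃.1 hle) (hU₁.2 U hU₃.1 hle)
  exact ⟨U, hU₃.1, hx, Ass.of_shortExact hB hse hK hQ⟩

end

end Groth.Agent.FormalSch78
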