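import Groth.Agent.FormalSch78.FormalChart
import Groth.Agent.FormalSch78.QCohRes
import Groth.Agent.FComplLib.AffSysMod
import Groth.Agent.Adic7.Limit
import Groth.Agent.QCoh.Support
import Groth.Agent.FormalSch78.Loc

/-!
# The module of a coherent system on the affine opens of a formal scheme
-/

universe u

open CategoryTheory CategoryTheory.Limits AlgebraicGeometry Opposite TensorProduct

namespace Groth.Agent.FormalSch78

/-- A surjection with the expected kernel is a base change along a surjection of rings. -/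
theorem isBaseChange_of_surjective {A R C N : Type u} [CommRing A] [CommRing R] [Algebra A R]
    [AddCommGroup C] [Module A C] [AddCommGroup N] [Module A N] [Module R N] [IsScalarTower A R N]
    (hs : Function.Surjective (algebraMap A R)) (π : C →ₗ[A] N) (hπ : Function.Surjective π)
    (hk : LinearMap.ker π ≤ RingHom.ker (algebraMap A R) • (⊤ : Submodule A C)) : IsBaseChange R π := by
  refine IsBaseChange.of_lift_unique _ fun Q _ _ _ _ h => ?_
  let : AddCommGroup Q := Module.addCommMonoidToAddCommGroup R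
  have hh : LinearMap.ker π ≤ LinearMap.ker h := by
    refine hk.trans (Submodule.smul_le.2 fun a ha x _ => ?_)
    rw [LinearMap.mem_ker, map_smul, ← algebraMap_smul R a (h x), RingHom.mem_ker.1 ha, zero_smul]
  let g : N →ₗ[A] Q :=
    (LinearMap.ker π).liftQ h hh ∘ₗ (π.quotKerEquivOfSurjective hπ).symm.toLinearMap
  have hg : ∀ x, g (π x) = h x := fun x => by
    have : (π.quotKerEquivOfSurjective hπ).symm (π x) = Submodule.Quotient.mk x :=
      (LinearEquiv.symm_apply_eq _).2 rfl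
    show (LinearMap.ker π).liftQ h hh ((π.quotKerEquivOfSurjective hπ).symm (π x)) = h x
    rw [this]
    rfl
  refine ⟨{ g with map_smul' := fun r y => ?_ }, LinearMap.ext fun x => hg x, fun g' hg' => ?_⟩
  · obtain ⟨a, rfl⟩ := hs r
    show g (algebraMap A R a • y) = algebraMap A R a • g y
    rw [algebraMap_smul, map_smul, algebraMap_smul]
  · refine LinearMap.ext fun y => ?_
    obtain ⟨x, rfl⟩ := hπ y
    exact (congr($hg' x)).trans (hg x).symm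

variable {𝔛 : FSch.Sys.{u}} (hF : 𝔛.IsFormal) (𝔐 : FSch.ModSys 𝔛)

/-- Sections on level `n` as a module over the functions of the formal scheme. -/
abbrev PM (n : ℕ) (W : (𝔛.X 0).Opens) : Type u :=
  Ms ((FSch.levelMor 𝔛 hF n).push.obj (𝔐.F n)) W

/-- Identification with the sections of the level. -/
noncomputable def lM (n : ℕ) (W : (𝔛.X 0).Opens) : PM hF 𝔐 n W →+ Γ(𝔐.F n, 𝔛.lvU hF n W) where
  toFun x := x
  map_zero' := rfl
  map_add' _ _ := rfl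

theorem lM_bijective (n : ℕ) (W : (𝔛.X 0).Opens) : Function.Bijective (lM hF 𝔐 n W) :=
  ⟨fun _ _ h => h, fun x => ⟨x, rfl⟩⟩

theorem lM_smul (n : ℕ) (W : (𝔛.X 0).Opens) (r : Rg (𝔛.Osh hF) W) (x : PM hF 𝔐 n W) :
    lM hF 𝔐 n W (r • x) = πlv hF n W r • lM hF 𝔐 n W x := rfl

theorem lM_rM (n : ℕ) {W W' : (𝔛.X 0).Opens} (h : W' ≤ W) (x : PM hF 𝔐 n W) :
    lM hF 𝔐 n W' (rM _ h x) =
      (𝔐.F n).presheaf.map ((TopologicalSpace.Opens.map (𝔛.gInv hF n)).map (homOfLE h)).op (lM hF 𝔐 n W x) :=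
  rfl

/-- Projection to a level. -/
noncomputable def πM (n : ℕ) (W : (𝔛.X 0).Opens) :
    Ms (𝔐.realMod hF) W →ₗ[Rg (𝔛.Osh hF) W] PM hF 𝔐 n W :=
  app (FSch.realProj 𝔛 hF 𝔐.F 𝔐.toPush n) W

/-- Transition map of the levels. -/
noncomputable def trM (n : ℕ) (W : (𝔛.X 0).Opens) :
    PM hF 𝔐 (n + 1) W →ₗ[Rg (𝔛.Osh hF) W] PM hF 𝔐 n W :=
  app ((FSch.levelMor 𝔛 hF (n + 1)).push.map (𝔐.toPush n) ≫ (FSch.pushCompare 𝔛 hF n).app (𝔐.F n)) W

theorem trM_πM (n : ℕ) (W : (𝔛.X 0).Opens) (x : Ms (𝔐.realMod hF) W) :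
    trM hF 𝔐 n W (πM hF 𝔐 (n + 1) W x) = πM hF 𝔐 n W x :=
  congrArg (fun φ => app φ W x) (FSch.realProj_map 𝔛 hF 𝔐.F 𝔐.toPush n)

theorem lM_trM (n : ℕ) (W : (𝔛.X 0).Opens) (x : PM hF 𝔐 (n + 1) W) :
    lM hF 𝔐 n W (trM hF 𝔐 n W x) = (𝔐.F n).presheaf.map (homOfLE (𝔛.lvU_le hF n W)).op
      ((𝔐.e n).hom.app ((𝔛.ι n) ⁻¹ᵁ 𝔛.lvU hF (n + 1) W)
        (((Scheme.Modules.pullbackPushforwardAdjunction (𝔛.ι n)).unit.app (𝔐.F (n + 1))).app
          (𝔛.lvU hF (n + 1) W) (lM hF 𝔐 (n + 1) W x))) := by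
  rw [trM, FSch.ModSys.toPush, Adjunction.homEquiv_unit]
  rfl

theorem exists_πM_eq (W : (𝔛.X 0).Opens) (y : ∀ n, PM hF 𝔐 n W)
    (hy : ∀ n, trM hF 𝔐 n W (y (n + 1)) = y n) :
    ∃! x : Ms (𝔐.realMod hF) W, ∀ n, πM hF 𝔐 n W x = y n := by
  let S := FSch.levelSysOf 𝔛 hF 𝔐.F 𝔐.toPush
  let G : FSch.ModF 𝔛 hF ⥤ Type u :=
    SheafOfModules.evaluation (ModSite.ringSh (𝔛.Osh hF)) (op W) ⋙ CategoryTheory.forget _
  let hlim : IsLimit (G.mapCone (limit.cone S)) := isLimitOfPreserves G (limit.isLimit S)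
  have hstep : ∀ (a b : ℕ) (hab : a ≤ b), (S ⋙ G).map (homOfLE hab).op (y b) = y a := by
    intro a b hab
    induction b, hab using Nat.le_induction with
    | base => exact ConcreteCategory.congr_hom ((S ⋙ G).map_id (op a)) (y a)
    | succ b hab ih =>
      refine (ConcreteCategory.congr_hom ((S ⋙ G).map_comp
        (homOfLE (Nat.le_add_right b 1)).op (homOfLE hab).op) (y (b + 1))).trans ?_
      refine Eq.trans ?_ ih
      refine congrArg ((S ⋙ G).map (homOfLE hab).op) ?_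
      rw [Functor.comp_map, FSch.levelSysOf_map_succ]
      exact hy b
  let s : (S ⋙ G).sections := ⟨fun j => y j.unop, fun {a b} f => by
    rw [show f = (homOfLE (leOfHom f.unop)).op from Subsingleton.elim _ _]
    exact hstep _ _ _⟩
  refine ⟨(Types.isLimitEquivSections hlim).symm s,
    fun n => Types.isLimitEquivSections_symm_apply hlim s (op n), fun r hr => ?_⟩
  refine (Types.isLimitEquivSections hlim).injective (Subtype.ext (funext fun j => ?_))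
  rw [Equiv.apply_symm_apply]
  exact (Types.isLimitEquivSections_apply hlim j r).trans (hr j.unop)

theorem πM_ext {W : (𝔛.X 0).Opens} {x x' : Ms (𝔐.realMod hF) W}
    (h : ∀ n, πM hF 𝔐 n W x = πM hF 𝔐 n W x') : x = x' :=
  (exists_πM_eq hF 𝔐 W (fun n => πM hF 𝔐 n W x') fun n => trM_πM hF 𝔐 n W x').unique h fun _ => rfl

theorem mem_smul_top_iff_lM (n : ℕ) (W : (𝔛.X 0).Opens) (hW : IsAffineOpen W)
    (J : Ideal (Rg (𝔛.Osh hF) W)) (x : PM hF 𝔐 n W) :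
    lM hF 𝔐 n W x ∈ J.map (πlv hF n W) • (⊤ : Submodule (lv hF n W) Γ(𝔐.F n, 𝔛.lvU hF n W)) ↔
      x ∈ J • (⊤ : Submodule (Rg (𝔛.Osh hF) W) (PM hF 𝔐 n W)) := by
  refine ⟨fun h => ?_, fun h => FComplLib.map_mem_smul_top _ _ (lM_smul hF 𝔐 n W) J h⟩
  obtain ⟨m, hm, hmx⟩ := FComplLib.exists_mem_smul_top (πlv hF n W) (surjective_πlv hF hW n)
    (lM hF 𝔐 n W) (lM_bijective hF 𝔐 n W).2 (lM_smul hF 𝔐 n W) J h
  rwa [(lM_bijective hF 𝔐 n W).1 hmx] at hm

variable (hA : 𝔛.IsAdic) (hN : ∀ n, IsLocallyNoetherian (𝔛.X n)) (h𝔐 : 𝔐.IsCoh)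
  {W : (𝔛.X 0).Opens} (hW : IsAffineOpen W)

include hA in
theorem ideal_ker_ι (n : ℕ) :
    (𝔛.ι n).ker.ideal ⟨_, isAffineOpen_lvU hF hW (n + 1)⟩ = lvIdeal hF hW (n + 1) ^ (n + 1) := by
  have h1 := congrArg (fun I => I.ideal ⟨_, isAffineOpen_lvU hF hW (n + 1)⟩) (hA n)
  rwa [Scheme.IdealSheafData.ideal_pow, Pi.pow_apply] at h1

include hW h𝔐

theorem surjective_trM (n : ℕ) : Function.Surjective (trM hF 𝔐 n W) := fun y => by
  have := FComplLib.isClosedImmersion_ι hF n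
  have e₀ : 𝔛.lvU hF n W = (𝔛.ι n) ⁻¹ᵁ 𝔛.lvU hF (n + 1) W := (𝔛.lvU_succ hF n W).symm
  have hiso : IsIso ((𝔐.e n).hom.app ((𝔛.ι n) ⁻¹ᵁ 𝔛.lvU hF (n + 1) W)) :=
    Scheme.Modules.Hom.isIso_iff_isIso_app.mp inferInstance _
  have : IsIso (homOfLE (𝔛.lvU_le hF n W)) :=
    ⟨homOfLE (𝔛.lvU_succ hF n W).le, Subsingleton.elim _ _, Subsingleton.elim _ _⟩
  obtain ⟨z, hz⟩ := (ConcreteCategory.bijective_of_isIso
    ((𝔐.F n).presheaf.map (homOfLE (𝔛.lvU_le hF n W)).op)).2 (lM hF 𝔐 n W y)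
  obtain ⟨v, rfl⟩ := (ConcreteCategory.bijective_of_isIso
    ((𝔐.e n).hom.app ((𝔛.ι n) ⁻¹ᵁ 𝔛.lvU hF (n + 1) W))).2 z
  obtain ⟨w, rfl⟩ := (QCoh.unit_app_closed (𝔛.ι n) (h𝔐 (n + 1)).1 (isAffineOpen_lvU hF hW (n + 1))).1 v
  obtain ⟨x, rfl⟩ := (lM_bijective hF 𝔐 (n + 1) W).2 w
  exact ⟨x, (lM_bijective hF 𝔐 n W).1 ((lM_trM hF 𝔐 n W x).trans hz)⟩

include hA hN

theorem trM_eq_zero_iff (n : ℕ) (x : PM hF 𝔐 (n + 1) W) :
    trM hF 𝔐 n W x = 0 ↔
      x ∈ formalIdeal hF W ^ (n + 1) • (⊤ : Submodule (Rg (𝔛.Osh hF) W) (PM hF 𝔐 (n + 1) W)) := by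
  have := FComplLib.isClosedImmersion_ι hF n
  have hiso : IsIso ((𝔐.e n).hom.app ((𝔛.ι n) ⁻¹ᵁ 𝔛.lvU hF (n + 1) W)) :=
    Scheme.Modules.Hom.isIso_iff_isIso_app.mp inferInstance _
  have : IsIso (homOfLE (𝔛.lvU_le hF n W)) :=
    ⟨homOfLE (𝔛.lvU_succ hF n W).le, Subsingleton.elim _ _, Subsingleton.elim _ _⟩
  refine (map_eq_zero_iff (lM hF 𝔐 n W) (lM_bijective hF 𝔐 n W).1).symm.trans ?_
  rw [lM_trM]
  refine (map_eq_zero_iff _ (ConcreteCategory.bijective_of_isIso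
      ((𝔐.F n).presheaf.map (homOfLE (𝔛.lvU_le hF n W)).op)).1).trans ?_
  refine (map_eq_zero_iff _ (ConcreteCategory.bijective_of_isIso
      ((𝔐.e n).hom.app ((𝔛.ι n) ⁻¹ᵁ 𝔛.lvU hF (n + 1) W))).1).trans ?_
  refine ((QCoh.unit_app_closed (𝔛.ι n) (h𝔐 (n + 1)).1 (isAffineOpen_lvU hF hW (n + 1))).2 _).trans ?_
  rw [ideal_ker_ι hF hA hW, ← (formalIdeal_spec hF hA hW hN).2.1 (n + 1), ← Ideal.map_pow]
  exact mem_smul_top_iff_lM hF 𝔐 (n + 1) W hW _ x

theorem finite_PM_zero : Module.Finite (Rg (𝔛.Osh hF) W) (PM hF 𝔐 0 W) := by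
  obtain ⟨k, g, hg⟩ := Submodule.fg_iff_exists_fin_generating_family.mp
    (QCoh.finite_sections (h𝔐 0) (isAffineOpen_lvU hF hW 0)).fg_top
  choose x hx using fun i => (lM_bijective hF 𝔐 0 W).2 (g i)
  refine ⟨Submodule.fg_def.2 ⟨Set.range x, Set.finite_range x, eq_top_iff.2 fun y _ => ?_⟩⟩
  obtain ⟨c, hc⟩ := (Submodule.mem_span_range_iff_exists_fun _).1
    (hg.ge (Submodule.mem_top (x := lM hF 𝔐 0 W y)))
  choose d hd using fun i => surjective_πlv hF hW 0 (c i)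
  refine (Submodule.mem_span_range_iff_exists_fun _).2 ⟨d, (lM_bijective hF 𝔐 0 W).1 ?_⟩
  rw [map_sum, ← hc]
  exact Finset.sum_congr rfl fun i _ => by rw [lM_smul, hd, hx]

/-- The sections over an affine open: a finite module with the given levels. -/
theorem realMod_spec :
    IsAdicComplete (formalIdeal hF W) (Ms (𝔐.realMod hF) W) ∧
      Module.Finite (Rg (𝔛.Osh hF) W) (Ms (𝔐.realMod hF) W) ∧
      ∀ n, Function.Surjective (πM hF 𝔐 n W) ∧ LinearMap.ker (πM hF 𝔐 n W) =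
        formalIdeal hF W ^ (n + 1) • (⊤ : Submodule (Rg (𝔛.Osh hF) W) (Ms (𝔐.realMod hF) W)) := by
  obtain ⟨hfg, -, hc, -, -⟩ := formalIdeal_spec hF hA hW hN
  obtain ⟨h1, h2, h3⟩ := Adic7.limit_quotient_system (Rg (𝔛.Osh hF) W) (formalIdeal hF W) hfg
    (fun n => PM hF 𝔐 n W) (fun n => trM hF 𝔐 n W) (surjective_trM hF 𝔐 h𝔐 hW)
    (fun n => SetLike.ext fun x => trM_eq_zero_iff hF 𝔐 hA hN h𝔐 hW n x)
    (Ms (𝔐.realMod hF) W) (fun n => πM hF 𝔐 n W) (fun n => LinearMap.ext fun x => trM_πM hF 𝔐 n W x)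
    (fun x hx => πM_ext hF 𝔐 fun n => (hx n).trans (map_zero _).symm)
    (fun y hy => (exists_πM_eq hF 𝔐 W y hy).exists)
  exact ⟨h1, h3 hc (finite_PM_zero hF 𝔐 hA hN h𝔐 hW), h2⟩

omit hW

variable {U : (𝔛.X 0).Opens} (hU : IsAffineOpen U)

include hU

theorem ker_πM_θ (n : ℕ) (hWU : IsAffineOpen (W ⊓ U))
    (y : T (𝔛.Osh hF) U (Ms (𝔐.realMod hF) U) W) (hy : πM hF 𝔐 n (W ⊓ U) (θ LinearMap.id W y) = 0) :
    y ∈ formalIdeal hF U ^ (n + 1) •
      (⊤ : Submodule (Rg (𝔛.Osh hF) U) (T (𝔛.Osh hF) U (Ms (𝔐.realMod hF) U) W)) := by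
  let A := Rg (𝔛.Osh hF) U
  let C := Ms (𝔐.realMod hF) U
  let R := lv hF n U
  let R' := lv hF n (W ⊓ U)
  let NU := Γ(𝔐.F n, 𝔛.lvU hF n U)
  let NV := Γ(𝔐.F n, 𝔛.lvU hF n (W ⊓ U))
  have hle : (W ⊓ U : (𝔛.X 0).Opens) ≤ U := inf_le_right
  let hle' := ((TopologicalSpace.Opens.map (𝔛.gInv hF n)).map (homOfLE hle)).le
  let : Algebra A R := (πlv hF n U).toAlgebra
  let : Algebra A R' := ((πlv hF n (W ⊓ U)).comp (algebraMap A (Rg (𝔛.Osh hF) (W ⊓ U)))).toAlgebra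
  let : Algebra R R' := (reslv hF n hle).toAlgebra
  have : IsScalarTower A R R' :=
    IsScalarTower.of_algebraMap_eq fun a => (reslv_πlv hF n hle a).symm
  let : Module A NU := Module.compHom _ (algebraMap A R)
  let : Module A NV := Module.compHom _ (algebraMap A R')
  let : Module R NV := Module.compHom _ (algebraMap R R')
  have : IsScalarTower A R NU := ⟨fun a b x => by rw [Algebra.smul_def, mul_smul]; rfl⟩
  have : IsScalarTower A R' NV := ⟨fun a b x => by rw [Algebra.smul_def, mul_smul]; rfl⟩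
  have : IsScalarTower R R' NV := ⟨fun a b x => by rw [Algebra.smul_def, mul_smul]; rfl⟩
  have : IsScalarTower A R NV := ⟨fun a b x => by
    show algebraMap R R' (a • b) • x = algebraMap A R' a • algebraMap R R' b • x
    rw [Algebra.smul_def, map_mul, ← IsScalarTower.algebraMap_apply, mul_smul]⟩
  obtain ⟨-, -, hspec⟩ := realMod_spec hF 𝔐 hA hN h𝔐 hU
  obtain ⟨-, -, -, hkerU, -⟩ := formalIdeal_spec hF hA hU hN
  let π : C →ₗ[A] NU :=
    { toFun := fun c => lM hF 𝔐 n U (πM hF 𝔐 n U c)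
      map_add' := fun c c' => by rw [map_add, map_add]
      map_smul' := fun a c => by rw [map_smul, lM_smul]; rfl }
  have hπ : IsBaseChange R π := by
    refine isBaseChange_of_surjective (surjective_πlv hF hU n) π
      ((lM_bijective hF 𝔐 n U).2.comp (hspec n).1) fun c hc => ?_
    have hc' : c ∈ LinearMap.ker (πM hF 𝔐 n U) :=
      LinearMap.mem_ker.2 ((map_eq_zero_iff _ (lM_bijective hF 𝔐 n U).1).1 hc)
    rw [(hspec n).2] at hc'
    rwa [show RingHom.ker (algebraMap A R) = formalIdeal hF U ^ (n + 1) from hkerU n]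
  let l : NU →ₗ[R] NV :=
    { toFun := (𝔐.F n).presheaf.map (homOfLE hle').op
      map_add' := map_add _
      map_smul' := fun r x => (QCoh.map_smul' (M := 𝔐.F n) (homOfLE hle') r x).trans rfl }
  have hl : IsBaseChange R' l :=
    isBaseChange_res (h𝔐 n).1 (isAffineOpen_lvU hF hU n) (isAffineOpen_lvU hF hWU n) hle'
      (fun r => rfl) l fun x => rfl
  have hg := IsBaseChange.comp hπ hl
  let φ : Rg (𝔛.Osh hF) (W ⊓ U) →ₐ[A] R' := { πlv hF n (W ⊓ U) with commutes' := fun a => rfl }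
  have key : ∀ y : Rg (𝔛.Osh hF) (W ⊓ U) ⊗[A] C,
      lM hF 𝔐 n (W ⊓ U) (πM hF 𝔐 n (W ⊓ U) (θ LinearMap.id W y)) = hg.equiv (φ.toLinearMap.rTensor C y) := by
    intro y
    induction y using TensorProduct.induction_on with
    | zero => simp
    | tmul b c =>
      rw [LinearMap.rTensor_tmul, hg.equiv_tmul, θ_tmul, map_smul, lM_smul]
      refine congrArg (πlv hF n (W ⊓ U) b • ·) ?_
      refine (congrArg (lM hF 𝔐 n (W ⊓ U)) (app_rM (FSch.realProj 𝔛 hF 𝔐.F 𝔐.toPush n) hle c)).trans ?_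
      exact lM_rM hF 𝔐 n hle (πM hF 𝔐 n U c)
    | add y y' hy hy' => simp only [map_add, hy, hy']
  have h0 : φ.toLinearMap.rTensor C y = 0 := by
    rw [← hg.equiv.map_eq_zero_iff, ← key, hy, map_zero]
  obtain ⟨z, rfl⟩ := (rTensor_exact C (LinearMap.exact_subtype_ker_map φ.toLinearMap)
    (surjective_πlv hF hWU n) y).1 h0
  clear h0 hy key
  induction z using TensorProduct.induction_on with
  | zero => simp
  | tmul b c =>
    rw [LinearMap.rTensor_tmul]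
    refine tmul_mem_smul_top _ ?_ c
    rw [map_pow_eq_ker hF hA hN hU hWU n]
    exact LinearMap.mem_ker.1 b.2
  | add z z' hz hz' => rw [map_add]; exact Submodule.add_mem _ hz hz'

/-- The module of a coherent system is given by tensor products on the affine opens. -/
theorem ass_realMod : Ass (QCoh.stdCovers (𝔛.X 0)) U (𝔐.realMod hF) := by
  intro W hW hWU
  have hW' : IsAffineOpen (W ⊓ U) := by rwa [inf_eq_left.2 hWU]
  obtain ⟨-, hfinU, -⟩ := realMod_spec hF 𝔐 hA hN h𝔐 hU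
  obtain ⟨hcV, hfinV, hspecV⟩ := realMod_spec hF 𝔐 hA hN h𝔐 hW'
  obtain ⟨-, -, hcB, -, -⟩ := formalIdeal_spec hF hA hW' hN
  have := isAdicComplete_T hF hA hN hU (Ms (𝔐.realMod hF) U) hW'
  refine ⟨(injective_iff_map_eq_zero _).2 fun y hy => ?_, fun x => ?_⟩
  · refine IsHausdorff.haus this.toIsHausdorff y fun k => SModEq.zero.2 ?_
    rcases k with _ | k
    · simp
    · exact ker_πM_θ hF 𝔐 hA hN h𝔐 hU k hW' y (by rw [hy, map_zero])
  let C := Ms (𝔐.realMod hF) U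
  let f : T (𝔛.Osh hF) U C W →ₗ[Rg (𝔛.Osh hF) (W ⊓ U)] Ms (𝔐.realMod hF) (W ⊓ U) :=
    { toFun := θ LinearMap.id W
      map_add' := map_add _
      map_smul' := fun b y => θ_smul LinearMap.id W b y }
  have hrange : (⊤ : Submodule (Rg (𝔛.Osh hF) (W ⊓ U)) (Ms (𝔐.realMod hF) (W ⊓ U))) ≤
      LinearMap.range f ⊔ formalIdeal hF (W ⊓ U) • ⊤ := by
    intro x _
    let R' := lv hF 0 (W ⊓ U)
    obtain ⟨-, -, hspecU⟩ := realMod_spec hF 𝔐 hA hN h𝔐 hU
    have hgen : lM hF 𝔐 0 (W ⊓ U) (πM hF 𝔐 0 (W ⊓ U) x) ∈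
        Submodule.span R' (Set.range fun c : C => lM hF 𝔐 0 (W ⊓ U) (πM hF 𝔐 0 (W ⊓ U)
          (rM _ (inf_le_right : W ⊓ U ≤ U) c))) := by
      have hle : (W ⊓ U : (𝔛.X 0).Opens) ≤ U := inf_le_right
      let hle' := ((TopologicalSpace.Opens.map (𝔛.gInv hF 0)).map (homOfLE hle)).le
      let : Algebra (lv hF 0 U) R' := (reslv hF 0 hle).toAlgebra
      let : Module (lv hF 0 U) Γ(𝔐.F 0, 𝔛.lvU hF 0 (W ⊓ U)) := Module.compHom _ (reslv hF 0 hle)
      have : IsScalarTower (lv hF 0 U) R' Γ(𝔐.F 0, 𝔛.lvU hF 0 (W ⊓ U)) :=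
        ⟨fun a b x => by rw [Algebra.smul_def, mul_smul]; rfl⟩
      let l : Γ(𝔐.F 0, 𝔛.lvU hF 0 U) →ₗ[lv hF 0 U] Γ(𝔐.F 0, 𝔛.lvU hF 0 (W ⊓ U)) :=
        { toFun := (𝔐.F 0).presheaf.map (homOfLE hle').op
          map_add' := map_add _
          map_smul' := fun r x => (QCoh.map_smul' (M := 𝔐.F 0) (homOfLE hle') r x).trans rfl }
      have hl : IsBaseChange R' l :=
        isBaseChange_res (h𝔐 0).1 (isAffineOpen_lvU hF hU 0) (isAffineOpen_lvU hF hW' 0) hle'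
          (fun r => rfl) l fun x => rfl
      refine hl.inductionOn _ (motive := fun z => z ∈ Submodule.span R' _) (Submodule.zero_mem _) (fun z => ?_)
        (fun r z hz => Submodule.smul_mem _ r hz) fun z z' hz hz' => Submodule.add_mem _ hz hz'
      obtain ⟨p, rfl⟩ := (lM_bijective hF 𝔐 0 U).2 z
      obtain ⟨c, rfl⟩ := (hspecU 0).1 p
      refine Submodule.subset_span ⟨c, ?_⟩
      refine (congrArg (lM hF 𝔐 0 (W ⊓ U)) (app_rM (FSch.realProj 𝔛 hF 𝔐.F 𝔐.toPush 0) hle c)).trans ?_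
      exact lM_rM hF 𝔐 0 hle (πM hF 𝔐 0 U c)
    obtain ⟨coef, hcoef⟩ := (Finsupp.mem_span_range_iff_exists_finsupp).1 hgen
    choose d hd using fun r : R' => surjective_πlv hF hW' 0 r
    let y : Ms (𝔐.realMod hF) (W ⊓ U) :=
      coef.sum fun c r => d r • rM _ (inf_le_right : W ⊓ U ≤ U) c
    have hy : y ∈ LinearMap.range f := Submodule.sum_mem _ fun c _ =>
      ⟨d (coef c) ⊗ₜ c, θ_tmul LinearMap.id W _ c⟩
    have hxy : x - y ∈ formalIdeal hF (W ⊓ U) • (⊤ : Submodule (Rg (𝔛.Osh hF) (W ⊓ U)) (Ms (𝔐.realMod hF) (W ⊓ U))) := by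
      rw [← pow_one (formalIdeal hF (W ⊓ U)), ← (hspecV 0).2, LinearMap.mem_ker]
      refine (lM_bijective hF 𝔐 0 (W ⊓ U)).1 ?_
      rw [map_sub, map_sub, map_zero, sub_eq_zero, ← hcoef]
      simp only [y, map_finsuppSum, map_smul, lM_smul, hd]
    exact (add_sub_cancel y x) ▸ Submodule.add_mem_sup hy hxy
  have hfinV' := hfinV.fg_top
  have := Submodule.le_of_le_smul_of_le_jacobson_bot hfinV'
    (IsAdicComplete.le_jacobson_bot (formalIdeal hF (W ⊓ U))) hrange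
  exact this trivial

/-- The module of a coherent system is coherent. -/
theorem isCohF_realMod_aux (hU' : IsAffineOpen U) :
    Ass (QCoh.stdCovers (𝔛.X 0)) U (𝔐.realMod hF) ∧
      Module.FinitePresentation (Rg (𝔛.Osh hF) U) (Ms (𝔐.realMod hF) U) := by
  obtain ⟨-, hfin, -⟩ := realMod_spec hF 𝔐 hA hN h𝔐 hU
  have := (formalIdeal_spec hF hA hU hN).2.2.2.2
  exact ⟨ass_realMod hF 𝔐 hA hN h𝔐 hU, Module.finitePresentation_of_finite _ _⟩

end Groth.Agent.FormalSch78
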