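import Groth.Agent.ModPull.Sections
import Mathlib.Topology.Sheaves.AddCommGrpCat
import Mathlib.CategoryTheory.Abelian.Refinements

/-!
# Sections of sheaves of modules on a ringed space
-/

universe u

open CategoryTheory CategoryTheory.Limits Opposite TopologicalSpace
open Groth.Agent.ModTensor Groth.Agent.ModPull

namespace Groth.Agent.FormalSch78

variable {X : TopCat.{u}}

/-- Sections of the structure sheaf. -/
abbrev Rg (O : Sheaf (Opens.grothendieckTopology X) CommRingCat.{u}) (V : Opens X) : Type u :=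
  O.obj.obj (op V)

variable {O : Sheaf (Opens.grothendieckTopology X) CommRingCat.{u}}

/-- Sections of a module. -/
abbrev Ms (F : ModSite.Mod O) (V : Opens X) : Type u := ((fg O).obj F).obj (op V)

/-- Restriction of functions. -/
noncomputable def rO (O : Sheaf (Opens.grothendieckTopology X) CommRingCat.{u}) {V W : Opens X}
    (h : W ≤ V) : Rg O V →+* Rg O W :=
  (O.obj.map (homOfLE h).op).hom

theorem rO_rO {V W Z : Opens X} (h : W ≤ V) (h' : Z ≤ W) (a : Rg O V) :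
    rO O h' (rO O h a) = rO O (h'.trans h) a :=
  congr($((O.obj.map_comp (homOfLE h).op (homOfLE h').op).symm) a)

theorem rO_self {V : Opens X} (h : V ≤ V) (a : Rg O V) : rO O h a = a :=
  congr($(O.obj.map_id (op V)) a)

/-- Restriction of sections. -/
noncomputable def rM (F : ModSite.Mod O) {V W : Opens X} (h : W ≤ V) : Ms F V →+ Ms F W :=
  (((fg O).obj F).map (homOfLE h).op).hom.toAddMonoidHom

theorem rM_eq_rs (F : ModSite.Mod O) {V W : Opens X} (h : W ≤ V) (g : W ⟶ V) (x : Ms F V) :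
    rM F h x = rs ((fg O).obj F) g.op x := by
  rw [Subsingleton.elim g (homOfLE h)]
  rfl

theorem rM_smul (F : ModSite.Mod O) {V W : Opens X} (h : W ≤ V) (a : Rg O V) (x : Ms F V) :
    rM F h (a • x) = rO O h a • rM F h x :=
  rs_smul (P := (fg O).obj F) (homOfLE h).op a x

theorem rM_rM (F : ModSite.Mod O) {V W Z : Opens X} (h : W ≤ V) (h' : Z ≤ W) (x : Ms F V) :
    rM F h' (rM F h x) = rM F (h'.trans h) x :=
  (rs_comp (P := (fg O).obj F) (homOfLE h).op (homOfLE h').op x).symm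

theorem rM_self (F : ModSite.Mod O) {V : Opens X} (h : V ≤ V) (x : Ms F V) : rM F h x = x :=
  rs_id (P := (fg O).obj F) x

theorem rM_injective (F : ModSite.Mod O) {V W : Opens X} (h : W ≤ V) (h' : V ≤ W) :
    Function.Injective (rM F h) :=
  Function.LeftInverse.injective (g := rM F h') fun x => by rw [rM_rM, rM_self]

theorem rO_injective {V W : Opens X} (h : W ≤ V) (h' : V ≤ W) : Function.Injective (rO O h) :=
  Function.LeftInverse.injective (g := rO O h') fun x => by rw [rO_rO, rO_self]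

/-- The map on sections of a morphism. -/
noncomputable def app {F G : ModSite.Mod O} (φ : F ⟶ G) (V : Opens X) : Ms F V →ₗ[Rg O V] Ms G V :=
  (((fg O).map φ).app (op V)).hom

theorem app_rM {F G : ModSite.Mod O} (φ : F ⟶ G) {V W : Opens X} (h : W ≤ V) (x : Ms F V) :
    app φ W (rM F h x) = rM G h (app φ V x) :=
  app_rs ((fg O).map φ) (homOfLE h).op x

theorem app_comp {F G H : ModSite.Mod O} (φ : F ⟶ G) (ψ : G ⟶ H) (V : Opens X) (x : Ms F V) :
    app (φ ≫ ψ) V x = app ψ V (app φ V x) := rfl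

theorem app_id (F : ModSite.Mod O) (V : Opens X) (x : Ms F V) : app (𝟙 F) V x = x := rfl

theorem hom_ext {F G : ModSite.Mod O} {φ ψ : F ⟶ G}
    (h : ∀ (V : Opens X) (x : Ms F V), app φ V x = app ψ V x) : φ = ψ :=
  (fg O).map_injective (PresheafOfModules.hom_ext fun V => ModuleCat.hom_ext (LinearMap.ext (h V.unop)))

theorem locally_nhd {W : Opens X} {P : ∀ ⦃V : Opens X⦄, (V ⟶ W) → Prop}
    (hP : Locally (Opens.grothendieckTopology X) W P) (p : X) (hp : p ∈ W) :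
    ∃ (V : Opens X) (h : V ≤ W), p ∈ V ∧ P (homOfLE h) := by
  obtain ⟨T, hT, hTP⟩ := hP
  obtain ⟨V, f, hf, hpV⟩ := hT p hp
  refine ⟨V, f.le, hpV, ?_⟩
  rw [Subsingleton.elim (homOfLE f.le) f]
  exact hTP f hf

theorem eq_of_nhds (F : ModSite.Mod O) {W : Opens X} {a b : Ms F W}
    (h : ∀ p ∈ W, ∃ (V : Opens X) (hV : V ≤ W), p ∈ V ∧ rM F hV a = rM F hV b) : a = b := by
  choose V hV hpV hab using h
  refine eq_of_locally' F ⟨⟨fun Z _ => ∃ (p : X) (hp : p ∈ W), Z ≤ V p hp, ?_⟩, ?_, ?_⟩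
  · rintro Y Z g ⟨p, hp, hle⟩ g'
    exact ⟨p, hp, g'.le.trans hle⟩
  · exact fun p hp => ⟨V p hp, homOfLE (hV p hp), ⟨p, hp, le_rfl⟩, hpV p hp⟩
  · rintro Z g ⟨p, hp, hle⟩
    have := congrArg (rM F hle) (hab p hp)
    rw [rM_rM, rM_rM] at this
    rw [← rM_eq_rs F g.le g, ← rM_eq_rs F g.le g]
    exact this

theorem eq_of_cover (F : ModSite.Mod O) {W : Opens X} {ι : Type*} (V : ι → Opens X)
    (hV : ∀ i, V i ≤ W) (hW : W ≤ ⨆ i, V i) {a b : Ms F W}
    (h : ∀ i, rM F (hV i) a = rM F (hV i) b) : a = b :=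
  eq_of_nhds F fun p hp => by
    obtain ⟨i, hi⟩ := Opens.mem_iSup.1 (hW hp)
    exact ⟨V i, hV i, hi, h i⟩

theorem exists_glue (F : ModSite.Mod O) {W : Opens X} {ι : Type u} (V : ι → Opens X)
    (hV : ∀ i, V i ≤ W) (hW : W ≤ ⨆ i, V i) (a : ∀ i, Ms F (V i))
    (h : ∀ i j, rM F (inf_le_left : V i ⊓ V j ≤ V i) (a i) = rM F inf_le_right (a j)) :
    ∃ z : Ms F W, ∀ i, rM F (hV i) z = a i := by
  let FF : TopCat.Sheaf AddCommGrpCat.{u} X := ModSite.toAb F
  obtain ⟨z, hz, -⟩ := FF.existsUnique_gluing' V W (fun i => homOfLE (hV i)) hW a fun i j => h i j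
  exact ⟨z, hz⟩

theorem locally_lift {F G : ModSite.Mod O} (φ : F ⟶ G) [Epi φ] {W : Opens X} (x : Ms G W) (p : X)
    (hp : p ∈ W) :
    ∃ (V : Opens X) (h : V ≤ W), p ∈ V ∧ ∃ y : Ms F V, app φ V y = rM G h x := by
  obtain ⟨V, h, hpV, y, hy⟩ := locally_nhd (locally_exists_app_eq φ x) p hp
  exact ⟨V, h, hpV, y, hy⟩

theorem locally_lift_of_exact {S : ShortComplex (ModSite.Mod O)} (hS : S.Exact) {W : Opens X}
    (x : Ms S.X₂ W) (hx : app S.g W x = 0) (p : X) (hp : p ∈ W) :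
    ∃ (V : Opens X) (h : V ≤ W), p ∈ V ∧ ∃ y : Ms S.X₁ V, app S.f V y = rM S.X₂ h x := by
  let c := freeOnCorepr O W
  let one : Ms (ModSite.freeOn O W) W := c.homEquiv (𝟙 _)
  obtain ⟨a, ha⟩ : ∃ a : ModSite.freeOn O W ⟶ S.X₂, app a W one = x :=
    ⟨c.homEquiv.symm x, ((c.homEquiv_comp _ (𝟙 _)).symm.trans
      (congrArg c.homEquiv (Category.id_comp _))).trans (c.homEquiv.apply_symm_apply x)⟩
  have hinj : ∀ {M : ModSite.Mod O} (a b : ModSite.freeOn O W ⟶ M),
      app a W one = app b W one → a = b := fun {M} a b h => c.homEquiv.injective (by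
    have ea := c.homEquiv_comp a (𝟙 _)
    have eb := c.homEquiv_comp b (𝟙 _)
    rw [Category.id_comp] at ea eb
    exact ea.trans (h.trans eb.symm))
  have hx₀ : a ≫ S.g = 0 := hinj _ _ (by
    rw [app_comp, ha, hx]
    rfl)
  obtain ⟨A', π, hπ, x₁, h₁⟩ := (ShortComplex.exact_iff_exact_up_to_refinements S).1 hS a hx₀
  obtain ⟨V, h, hpV, y, hy⟩ := locally_lift π one p hp
  refine ⟨V, h, hpV, app x₁ V y, ?_⟩
  rw [← app_comp, ← h₁, app_comp, hy, app_rM, ha]

theorem exists_app_eq_of_mono {S : ShortComplex (ModSite.Mod O)} (hS : S.Exact) [Mono S.f]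
    {W : Opens X} (x : Ms S.X₂ W) (hx : app S.g W x = 0) :
    ∃ y : Ms S.X₁ W, app S.f W y = x := by
  choose V hV hpV y hy using locally_lift_of_exact hS x hx
  have hinj : ∀ V, Function.Injective (app S.f V) := fun V => app_injective S.f (op V)
  obtain ⟨z, hz⟩ := exists_glue S.X₁ (fun i : W => V i.1 i.2) (fun i => hV i.1 i.2)
    (fun p hp => Opens.mem_iSup.2 ⟨⟨p, hp⟩, hpV p hp⟩) (fun i => y i.1 i.2) fun i j => hinj _ (by
      rw [app_rM, app_rM, hy, hy, rM_rM, rM_rM])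
  refine ⟨z, eq_of_nhds S.X₂ fun p hp => ⟨V p hp, hV p hp, hpV p hp, ?_⟩⟩
  rw [← app_rM, hz ⟨p, hp⟩, hy]

end Groth.Agent.FormalSch78
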