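import Groth.Agent.FormalSch78.AssOps

/-!
# Vanishing of the cohomology of modules given by tensor products
-/

universe u

open CategoryTheory CategoryTheory.Limits Opposite TopologicalSpace

namespace Groth.Agent.FormalSch78

variable {X : TopCat.{u}} {O : Sheaf (Opens.grothendieckTopology X) CommRingCat.{u}}
  {S : QCoh.Ab.CoverSystem X} {F : ModSite.Mod O}

/-- No higher cohomology on a chart which is the whole space. -/
theorem Ass.H_subsingleton (hB : IsTBase O S ⊤) (hF : Ass S ⊤ F) (n : ℕ) :
    Subsingleton (ModSite.HC O F (n + 1)) :=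
  QCoh.Ab.H_subsingleton (below S ⊤) ⟨hB.good, le_rfl⟩ _ (hF.acyclic_below hB) n

end Groth.Agent.FormalSch78
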